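import Cfsg.Agent.H140.TC.Fam_m3
import Cfsg.Agent.H295.War.Mul_m3
import Cfsg.Agent.H649.PwSp.Corner_m3
import Cfsg.Agent.S2445
import Cfsg.Prelude.Def_Classical
import Cfsg.Agent.H962.PP.Conj_m3
import Cfsg.Agent.H809.SelfCentUni
import Cfsg.Agent.H105.SzU2_m3
import Cfsg.Agent.H62.PCGeo
import Cfsg.Agent.H494.TC.Base
import Cfsg.Agent.H68.CoInst_m3
import Cfsg.Agent.S0283
import Mathlib.LinearAlgebra.Matrix.Charpoly.FiniteField
import Cfsg.Agent.Lib.MatDec
import Cfsg.Agent.H334.Ore.M22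
import Cfsg.Agent.H334.Ore.M23
import Cfsg.Agent.H334.Ore.M24
import Cfsg.Agent.H729.TransFast
import Cfsg.Agent.H258.TwoB.Link
import Cfsg.Agent.H633.Ore.Co2Ore
import Cfsg.Agent.H633.Ore.LinFast
import Cfsg.Agent.H1.J2Cover
import Cfsg.Agent.H603.SporElim
import Cfsg.Agent.H235.Ore.He
import Cfsg.Agent.H235.Ore.McL
import Cfsg.Agent.H843.Ore.R11
import Cfsg.Agent.Characters.Core
import Cfsg.Agent.Characters.Linear
import Cfsg.Agent.S5549
import Cfsg.Agent.Schreier.ChevIso_m3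
import Mathlib
import Cfsg.Agent.Characters.Central
import Cfsg.Agent.Fischer480.Defs
import Cfsg.Agent.TSp.UCount
import Cfsg.Agent.H935.Fi23.Deg_m3
import Cfsg.Agent.H49.Four.TEight_m3
import Cfsg.Agent.H65.Ore.Split_m3
import Cfsg.Agent.H511.Ore.RowLy_m3
import Cfsg.Agent.FastGrp
import Cfsg.Agent.Prune
set_option linter.all false

section
prune_inst 0x7ff1adf89ba85ffedfff7e37a6d8eff830820fffa4dff94bbfe021bf0b9f030009c5238509e000fe0e00401410a87843f97eeeffe06bdc7ffffd5d341ffbee4ff5f6b50851948c3006ac0ff703f077086a3ffe76fbfcffffffffffffffffffaeffbffbfeffff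

-- part: H140/TC/SpRow
section
prune_inst 0xc4003205520010000004801260005cd393000020000804000404000405888c200d42a820b120010f7a200004083000481100002002000000002c04000118008010800000a1084091000086000008615000189040300000000000000000000000004010000
set_option linter.all false
open scoped Cfsg.Agent.FastGrp

-- part: H140/TC/SpLin
section
/-!
# S4173, symplectic groups: linear algebra

* `exists_mul_conj_phi` : `A = P X₀ P⁻¹ * Q diag(c, B₀) Q⁻¹` where `Q` maps a prescribed covector to a multiple of the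
  first coordinate.
* `exists_aniso` : an anisotropic vector which is not an eigenvector.
* `conj_two` : conjugacy in `SL_2(F)` for irreducible characteristic polynomials.
-/

set_option autoImplicit false

namespace Cfsg.Agent.H140.TC.Sp

open Module Matrix Polynomial Cfsg.Agent.H962.PP Cfsg.Agent.H295.War Cfsg.Agent.H126.PwO Cfsg.Agent.H140.OreO

variable {F : Type*} [Field F]

theorem exists_mul_conj_phi {k : ℕ} (A : Matrix (Fin (k + 2)) (Fin (k + 2)) F)
    {v0 : Fin (k + 2) → F} (hv0 : v0 ≠ 0) (hvA : v0 ᵥ* A ∉ Submodule.span F {v0})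
    (X₀ : Matrix (Fin (k + 2)) (Fin (k + 2)) F)
    (hX : Cyc X₀) (hXd : X₀.det ≠ 0) (B₀ : Matrix (Fin (k + 1)) (Fin (k + 1)) F) (hB : Cyc B₀)
    (hBd : B₀.det ≠ 0) (c : F) (hc0 : c ≠ 0) (hc : B₀.charpoly.eval c ≠ 0)
    (hdet : A.det = X₀.det * (c * B₀.det)) :
    ∃ P Q : Matrix (Fin (k + 2)) (Fin (k + 2)) F, IsUnit P.det ∧ IsUnit Q.det ∧
      A = (P * X₀ * P⁻¹) * (Q * blk c B₀ * Q⁻¹) ∧ ∃ a : F, a ≠ 0 ∧ v0 ᵥ* Q = Pi.single 0 a := by
  have hAd : A.det ≠ 0 := by rw [hdet]; exact mul_ne_zero hXd (mul_ne_zero hc0 hBd)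
  obtain ⟨R, L, hR, hRL, hL, hL01, hR0⟩ := exists_hess' A hv0 hvA
  have hRR : R⁻¹ * R = 1 := Matrix.nonsing_inv_mul _ hR
  have hRR' : R * R⁻¹ = 1 := Matrix.mul_nonsing_inv _ hR
  have hLdet : L.det = A.det := by
    have h1 : R.det * A.det = L.det * R.det := by rw [← det_mul, ← det_mul, hRL]
    rw [mul_comm L.det] at h1
    exact (mul_left_cancel₀ hR.ne_zero h1).symm
  obtain ⟨x, y, hxy, hxp, hxm, hy0, hyc, hyf, hym⟩ :=
    hess hL (by rw [hLdet]; exact hAd) hL01 X₀.charpoly_monic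
      (by rw [X₀.charpoly_natDegree_eq_dim, Fintype.card_fin]) (det_ne_zero_iff.mp hXd)
      B₀.charpoly_monic (by rw [B₀.charpoly_natDegree_eq_dim, Fintype.card_fin])
      (det_ne_zero_iff.mp hBd)
  have hdx : x.det = X₀.det := by
    rw [Matrix.det_eq_sign_charpoly_coeff, Matrix.det_eq_sign_charpoly_coeff, hxp]
  have hdy : (y.submatrix Fin.succ Fin.succ).det = B₀.det := by
    rw [Matrix.det_eq_sign_charpoly_coeff, Matrix.det_eq_sign_charpoly_coeff, hyf]
  have hdy' : y.det = y 0 0 * B₀.det := by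
    have h1 : y.det = (blk (y 0 0) (y.submatrix Fin.succ Fin.succ)).det := by
      rw [Matrix.det_eq_sign_charpoly_coeff, Matrix.det_eq_sign_charpoly_coeff,
        charpoly_of_row y hy0, blk_charpoly]
    rw [h1, blk_det, hdy]
  have hcy : y 0 0 = c := by
    have h1 : x.det * y.det = A.det := by rw [← det_mul, hxy, hLdet]
    rw [hdx, hdy', hdet] at h1
    have h2 := mul_left_cancel₀ hXd h1
    exact mul_right_cancel₀ hBd h2
  have hyCyc : Cyc y := cyc_of_row hy0 hym (by rw [hyf, hcy]; exact hc)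
  obtain ⟨P, hP, hPx⟩ := conj_of_cyc hX hxm hxp.symm
  obtain ⟨Q, hQ, hQy⟩ := conj_of_cyc (cyc_blk hB hc) hyCyc (by
    rw [charpoly_of_row y hy0, blk_charpoly, hyf, hcy])
  have hsplit : A = (R⁻¹ * x * R) * (R⁻¹ * y * R) := by
    have h1 : R⁻¹ * x * R * (R⁻¹ * y * R) = R⁻¹ * x * (R * R⁻¹) * y * R := by
      simp only [mul_assoc]
    rw [h1, hRR', mul_one, mul_assoc (R⁻¹), hxy, mul_assoc, ← hRL, ← mul_assoc, hRR, one_mul]
  have hRinv : IsUnit (R⁻¹).det := by
    rw [Matrix.det_nonsing_inv]; exact hR.ringInverse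
  have hRi : R⁻¹⁻¹ = R := Matrix.nonsing_inv_nonsing_inv _ hR
  refine ⟨R⁻¹ * P, R⁻¹ * Q, by rw [det_mul]; exact hRinv.mul hP, by rw [det_mul]; exact hRinv.mul hQ, ?_, ?_⟩
  · have e1 : R⁻¹ * P * X₀ * (R⁻¹ * P)⁻¹ = R⁻¹ * x * R := by
      rw [Matrix.mul_inv_rev, hRi, hPx]; simp only [mul_assoc]
    have e2 : R⁻¹ * Q * blk c B₀ * (R⁻¹ * Q)⁻¹ = R⁻¹ * y * R := by
      rw [Matrix.mul_inv_rev, hRi, hQy]; simp only [mul_assoc]
    rw [e1, e2]
    exact hsplit
  · -- the row vector
    have hQQ : Q * Q⁻¹ = 1 := Matrix.mul_nonsing_inv _ hQ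
    have hQQ' : Q⁻¹ * Q = 1 := Matrix.nonsing_inv_mul _ hQ
    have hv0R : v0 ᵥ* R⁻¹ = Pi.single 0 1 := by
      have h1 : (Pi.single 0 1 : Fin (k + 2) → F) ᵥ* R = v0 := by
        rw [Matrix.single_one_vecMul, ← hR0]
        rfl
      rw [← h1, Matrix.vecMul_vecMul, hRR', Matrix.vecMul_one]
    obtain ⟨w, hw⟩ : ∃ w, w = (Pi.single 0 1 : Fin (k + 2) → F) ᵥ* Q := ⟨_, rfl⟩
    have hwb : w ᵥ* blk c B₀ = c • w := by
      have h1 : (Pi.single 0 1 : Fin (k + 2) → F) ᵥ* y = c • (Pi.single 0 1 : Fin (k + 2) → F) := by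
        rw [Matrix.single_one_vecMul]
        ext j
        refine Fin.cases ?_ (fun i => ?_) j
        · simp [hcy]
        · show y 0 i.succ = _
          rw [hy0]
          simp [Fin.succ_ne_zero]
      rw [hw, ← Matrix.smul_vecMul, ← h1, Matrix.vecMul_vecMul, Matrix.vecMul_vecMul, hQy]
      congr 1
      rw [mul_assoc, hQQ', mul_one]
    have hws : ∀ i : Fin (k + 1), w i.succ = 0 := by
      by_contra hcon
      push Not at hcon
      obtain ⟨i, hi⟩ := hcon
      apply hc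
      obtain ⟨u, hu⟩ : ∃ u : Fin (k + 1) → F, u = fun i => w i.succ := ⟨_, rfl⟩
      have hu0 : u ≠ 0 := fun h => hi (by rw [hu] at h; exact congrFun h i)
      have hub : u ᵥ* B₀ = c • u := by
        ext j
        have h1 := congrFun hwb j.succ
        rw [Matrix.vecMul, dotProduct, Fin.sum_univ_succ] at h1
        simp only [blk_zero_succ, mul_zero, zero_add, blk_succ_succ] at h1
        rw [Matrix.vecMul, dotProduct, hu]
        exact h1
      rw [Matrix.eval_charpoly]
      apply Matrix.exists_vecMul_eq_zero_iff.1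
      refine ⟨u, hu0, ?_⟩
      rw [Matrix.vecMul_sub, hub, sub_eq_zero]
      ext j
      rw [Matrix.scalar_apply, Matrix.vecMul_diagonal, Pi.smul_apply, smul_eq_mul, mul_comm]
    refine ⟨w 0, ?_, ?_⟩
    · intro h0
      have hw0 : w = 0 := by
        ext j
        refine Fin.cases h0 (fun i => hws i) j
      have h1 : (Pi.single 0 1 : Fin (k + 2) → F) = 0 := by
        have h2 : w ᵥ* Q⁻¹ = Pi.single 0 1 := by
          rw [hw, Matrix.vecMul_vecMul, hQQ, Matrix.vecMul_one]
        rw [← h2, hw0, Matrix.zero_vecMul]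
      have h2 := congrFun h1 0
      simp at h2
    · rw [← Matrix.vecMul_vecMul, hv0R, ← hw]
      ext j
      refine Fin.cases ?_ (fun i => ?_) j
      · simp
      · rw [hws i]; simp [Fin.succ_ne_zero]

/-- an anisotropic vector which is not an eigenvector -/
theorem exists_aniso {V : Type*} [AddCommGroup V] [Module F V] [FiniteDimensional F V] (h2 : (2 : F) ≠ 0)
    (b : LinearMap.BilinForm F V) (hs : ∀ x y, b x y = b y x) (hb : b ≠ 0) (A : V →ₗ[F] V)
    (hA : ∀ c : F, ∃ v, A v ≠ c • v) (hex : 3 ≤ finrank F V ∨ ∃ t : F, t ≠ 0 ∧ t ^ 2 ≠ 1) :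
    ∃ v, b v v ≠ 0 ∧ A v ∉ Submodule.span F {v} := by
  by_contra hcon
  push Not at hcon
  have hcon' : ∀ v, b v v ≠ 0 → ∃ μ : F, A v = μ • v := fun v hv => by
    obtain ⟨μ, hμ⟩ := Submodule.mem_span_singleton.1 (hcon v hv)
    exact ⟨μ, hμ.symm⟩
  have hadd : ∀ x y, b (x + y) (x + y) = b x x + 2 * b x y + b y y := by
    intro x y
    simp only [map_add, LinearMap.add_apply, hs y x]; ring
  have hsub : ∀ x y, b (x - y) (x - y) = b x x - 2 * b x y + b y y := by
    intro x y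
    simp only [map_sub, LinearMap.sub_apply, hs y x]; ring
  obtain ⟨ψ, hψ⟩ : ∃ ψ, b ψ ψ ≠ 0 := by
    by_contra h0
    push Not at h0
    apply hb
    refine LinearMap.ext fun x => LinearMap.ext fun y => ?_
    have h1 := hadd x y
    rw [h0, h0, h0, zero_add, add_zero] at h1
    exact (mul_eq_zero.1 h1.symm).resolve_left h2
  obtain ⟨s, hs0⟩ : ∃ s, s = b ψ ψ := ⟨_, rfl⟩
  have hsne : s ≠ 0 := by rw [hs0]; exact hψ
  obtain ⟨l, hl⟩ := hcon' ψ hψ
  have c1 : ∀ θ, b ψ θ = 0 → A θ ≠ l • θ → b θ θ = -s := by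
    intro θ hθ hne
    by_contra hsum
    have hθ0 : θ ≠ 0 := by rintro rfl; exact hne (by simp)
    have k1 : b (ψ + θ) (ψ + θ) ≠ 0 := by
      rw [hadd, hθ, ← hs0]; intro h; exact hsum (by linear_combination h)
    have k2 : b (ψ - θ) (ψ - θ) ≠ 0 := by
      rw [hsub, hθ, ← hs0]; intro h; exact hsum (by linear_combination h)
    obtain ⟨μ, hμ⟩ := hcon' _ k1
    obtain ⟨ν, hν⟩ := hcon' _ k2
    have e1 : (2 * l) • ψ = (μ + ν) • ψ + (μ - ν) • θ := by
      have : A (ψ + θ) + A (ψ - θ) = (2 * l) • ψ := by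
        rw [map_add, map_sub, hl, mul_smul, two_smul]; abel
      rw [← this, hμ, hν, smul_add, smul_sub, add_smul, sub_smul]; abel
    have e2 : (2 : F) • A θ = (μ - ν) • ψ + (μ + ν) • θ := by
      have : A (ψ + θ) - A (ψ - θ) = (2 : F) • A θ := by
        rw [map_add, map_sub, two_smul]; abel
      rw [← this, hμ, hν, smul_add, smul_sub, add_smul, sub_smul]; abel
    have e3 : 2 * l = μ + ν := by
      have h3 := congrArg (fun v => b ψ v) e1
      simp only [map_add, map_smul, smul_eq_mul, hθ, mul_zero, add_zero] at h3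
      exact mul_right_cancel₀ hψ h3
    have e4 : (μ - ν) • θ = 0 := by
      rw [e3] at e1
      exact left_eq_add.1 e1
    have e5 : μ - ν = 0 := (smul_eq_zero.1 e4).resolve_right hθ0
    apply hne
    rw [e5, zero_smul, zero_add, ← e3, mul_smul] at e2
    exact smul_right_injective V h2 e2
  have c2 : ∀ θ, b ψ θ = 0 → A θ = l • θ := by
    intro θ hθ
    by_contra hne
    have hθθ := c1 θ hθ hne
    have hθ0 : θ ≠ 0 := by rintro rfl; exact hne (by simp only [_root_.map_zero, _root_.smul_zero])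
    rcases hex with h3 | ⟨t, ht0, ht⟩
    · -- a second vector orthogonal to `ψ`
      obtain ⟨θ', hθ', hθ'2⟩ : ∃ θ', b ψ θ' = 0 ∧ θ' ∉ Submodule.span F {θ} := by
        by_contra h4
        push Not at h4
        have h5 : LinearMap.ker (b ψ) ≤ Submodule.span F {θ} := fun v hv => h4 v hv
        have h6 := Submodule.finrank_mono h5
        rw [finrank_span_singleton hθ0] at h6
        have h7 := LinearMap.finrank_range_add_finrank_ker (b ψ)
        have h8 : finrank F (LinearMap.range (b ψ)) ≤ 1 := by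
          have := Submodule.finrank_le (LinearMap.range (b ψ))
          rwa [Module.finrank_self] at this
        omega
      obtain ⟨κ, hκ1, hκ2, hκ3⟩ : ∃ κ, b ψ κ = 0 ∧ A κ = l • κ ∧ κ ∉ Submodule.span F {θ} := by
        by_contra h4
        push Not at h4
        have h5 : A θ' ≠ l • θ' := fun h => hθ'2 (h4 θ' hθ' h)
        have h6 : A (θ + θ') ≠ l • (θ + θ') := fun h => hθ'2 (by
          have h7 := h4 (θ + θ') (by rw [map_add, hθ, hθ', add_zero]) h
          have h8 := Submodule.sub_mem _ h7 (Submodule.mem_span_singleton_self θ)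
          rwa [add_sub_cancel_left] at h8)
        have h7 : A (θ - θ') ≠ l • (θ - θ') := fun h => hθ'2 (by
          have h7 := h4 (θ - θ') (by rw [map_sub, hθ, hθ', sub_zero]) h
          have h8 := Submodule.sub_mem _ (Submodule.mem_span_singleton_self θ) h7
          rwa [sub_sub_cancel] at h8)
        have k1 := c1 θ' hθ' h5
        have k2 := c1 _ (by rw [map_add, hθ, hθ', add_zero]) h6
        have k3 := c1 _ (by rw [map_sub, hθ, hθ', sub_zero]) h7
        rw [hadd, hθθ, k1] at k2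
        rw [hsub, hθθ, k1] at k3
        apply hsne
        have h8 : (2 : F) * s = 0 := by linear_combination -k2 - k3
        exact (mul_eq_zero.1 h8).resolve_left h2
      have h6 : A (θ + κ) ≠ l • (θ + κ) := fun h => hne (by
        rw [map_add, hκ2, smul_add] at h
        exact add_right_cancel h)
      have h7 : A (θ - κ) ≠ l • (θ - κ) := fun h => hne (by
        rw [map_sub, hκ2, smul_sub] at h
        exact sub_left_injective h)
      have k2 := c1 _ (by rw [map_add, hθ, hκ1, add_zero]) h6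
      obtain ⟨μ, hμ⟩ := hcon' θ (by rw [hθθ]; exact neg_ne_zero.2 hsne)
      obtain ⟨ν, hν⟩ := hcon' (θ + κ) (by rw [k2]; exact neg_ne_zero.2 hsne)
      rw [map_add, hμ, hκ2, smul_add] at hν
      have e1 : (μ - ν) • θ = (ν - l) • κ := by
        rw [sub_smul, sub_smul, sub_eq_sub_iff_add_eq_add]
        rw [hν]; abel
      have e2 : ν = l := by
        by_contra h8
        apply hκ3
        rw [Submodule.mem_span_singleton]
        refine ⟨(ν - l)⁻¹ * (μ - ν), ?_⟩
        rw [mul_smul, e1, smul_smul, inv_mul_cancel₀ (sub_ne_zero.2 h8), one_smul]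
      rw [e2, sub_self, zero_smul] at e1
      have e3 := (smul_eq_zero.1 e1).resolve_right hθ0
      apply hne
      rw [hμ, sub_eq_zero.1 e3]
    · have h4 : A (t • θ) ≠ l • (t • θ) := fun h => hne (by
        rw [map_smul, smul_comm] at h
        exact smul_right_injective V ht0 h)
      have h5 := c1 (t • θ) (by rw [map_smul, hθ, smul_zero]) h4
      rw [map_smul, map_smul, LinearMap.smul_apply, smul_eq_mul, smul_eq_mul, hθθ] at h5
      apply ht
      have h6 : (t ^ 2 - 1) * s = 0 := by linear_combination -h5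
      exact sub_eq_zero.1 ((mul_eq_zero.1 h6).resolve_right hsne)
  obtain ⟨v, hv⟩ := hA l
  apply hv
  have h3 : v = (s⁻¹ * b ψ v) • ψ + (v - (s⁻¹ * b ψ v) • ψ) := by abel
  have h4 : b ψ (v - (s⁻¹ * b ψ v) • ψ) = 0 := by
    rw [map_sub, map_smul, ← hs0, smul_eq_mul]
    field_simp
    ring
  conv_lhs => rw [h3]
  conv_rhs => rw [h3]
  rw [map_add, map_smul, hl, c2 _ h4, smul_add, smul_comm]

theorem card_odd [Fintype F] (h2 : (2 : F) ≠ 0) : Fintype.card F % 2 = 1 := by
  rw [← Nat.odd_iff]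
  by_contra hev
  rw [Nat.not_odd_iff_even] at hev
  have h5 := (FiniteField.even_card_iff_char_two (F := F)).2 (Nat.even_iff.1 hev)
  apply h2
  have h6 := ringChar.Nat.cast_ringChar (R := F)
  rw [h5] at h6
  exact_mod_cast h6

/-- conjugacy in `SL_2(F)` -/
theorem conj_two [Finite F] (h2 : (2 : F) ≠ 0) {M M₀ : Matrix (Fin 2) (Fin 2) F} (hM : Cyc M) (hM₀ : Cyc M₀)
    (hd : M₀.det = 1) (h : M.charpoly = M₀.charpoly) (hirr : Irreducible M₀.charpoly) :
    ∃ R : Matrix (Fin 2) (Fin 2) F, R.det = 1 ∧ R * M₀ = M * R := by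
  have := Fintype.ofFinite F
  obtain ⟨P, hP, hPx⟩ := conj_of_cyc hM₀ hM h.symm
  have hPP : P⁻¹ * P = 1 := Matrix.nonsing_inv_mul _ hP
  have hcom : M * P = P * M₀ := by rw [hPx, mul_assoc, hPP, mul_one]
  obtain ⟨t, ht⟩ : ∃ t, t = M₀.trace := ⟨_, rfl⟩
  have hc : M₀.charpoly = X ^ 2 - C t * X + 1 := by
    rw [Matrix.charpoly_fin_two, hd, ← ht, C_1]
  have hdeg : 2 ≤ M₀.charpoly.natDegree := by rw [M₀.charpoly_natDegree_eq_dim]; simp
  have hroot := eval_ne_zero hirr hdeg (t / 2)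
  have hne : (1 : F) - t ^ 2 / 4 ≠ 0 := by
    intro h0
    apply hroot
    rw [hc]
    simp only [eval_add, eval_sub, eval_pow, eval_mul, eval_X, eval_C, eval_one]
    have h4 : (4 : F) ≠ 0 := by
      have : (4 : F) = 2 * 2 := by norm_num
      rw [this]; exact mul_ne_zero h2 h2
    rw [← h0]
    field_simp
    ring
  obtain ⟨a, b, hab⟩ := FiniteField.exists_root_sum_quadratic (R := F)
    (f := C 1 * X ^ 2 + C 0 * X + C (-(P.det)⁻¹)) (g := C (1 - t ^ 2 / 4) * X ^ 2 + C 0 * X + C 0)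
    (degree_quadratic one_ne_zero) (degree_quadratic hne) (card_odd h2)
  simp only [eval_add, eval_mul, eval_C, eval_pow, eval_X, zero_mul, add_zero, one_mul] at hab
  obtain ⟨K, hK⟩ : ∃ K : Matrix (Fin 2) (Fin 2) F, K = (a - b * t / 2) • (1 : Matrix (Fin 2) (Fin 2) F) + b • M₀ :=
    ⟨_, rfl⟩
  have hKd : K.det = (P.det)⁻¹ := by
    have e1 : M₀ 0 0 * M₀ 1 1 - M₀ 0 1 * M₀ 1 0 = 1 := by rw [← hd, Matrix.det_fin_two]
    have e2 : t = M₀ 0 0 + M₀ 1 1 := by rw [ht, Matrix.trace_fin_two]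
    have h4 : (4 : F) ≠ 0 := by
      have : (4 : F) = 2 * 2 := by norm_num
      rw [this]; exact mul_ne_zero h2 h2
    rw [Matrix.det_fin_two, hK]
    simp only [Matrix.add_apply, Matrix.smul_apply, Matrix.one_apply_eq, Matrix.one_apply, smul_eq_mul]
    simp only [Fin.reduceEq, if_false, mul_one, mul_zero, zero_add]
    have e3 : a ^ 2 + (1 - t ^ 2 / 4) * b ^ 2 = (P.det)⁻¹ := by linear_combination hab
    rw [← e3]
    have e4 : (a - b * t / 2) ^ 2 + (a - b * t / 2) * b * t + b ^ 2 = a ^ 2 + (1 - t ^ 2 / 4) * b ^ 2 := by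
      field_simp
      ring
    rw [← e4]
    linear_combination b ^ 2 * e1 - (a - b * t / 2) * b * e2
  refine ⟨P * K, ?_, ?_⟩
  · rw [det_mul, hKd, mul_inv_cancel₀ hP.ne_zero]
  · have hKM : K * M₀ = M₀ * K := by
      rw [hK, Matrix.add_mul, Matrix.mul_add, Matrix.smul_mul, Matrix.smul_mul, Matrix.mul_smul, Matrix.mul_smul,
        Matrix.one_mul, Matrix.mul_one]
    rw [mul_assoc, hKM, ← mul_assoc, ← mul_assoc, hcom]

/-- irreducible `X ^ 2 - t X + 1` -/
theorem exists_quad (F : Type*) [Field F] [Finite F] :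
    ∃ t : F, Irreducible (X ^ 2 - C t * X + 1 : F[X]) := by
  have hq : 2 ≤ Nat.card F := Finite.one_lt_card
  have hs : Nat.card F + 1 ∣ Nat.card F ^ 2 - 1 := by
    refine ⟨Nat.card F - 1, ?_⟩
    obtain ⟨r, hr⟩ : ∃ r, Nat.card F = r + 1 := ⟨Nat.card F - 1, by omega⟩
    rw [hr, Nat.add_sub_cancel]
    have : (r + 1) ^ 2 = (r + 1 + 1) * r + 1 := by ring
    omega
  obtain ⟨f, hf⟩ := exists_pol F (d := 2) (by omega) hs (fun k hk hkd => by
    have hk1 : k = 1 := by omega
    subst hk1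
    rw [pow_one]
    exact not_dvd_of_lt (by omega) (by omega))
  have h0 : f.coeff 0 = 1 := by
    have h1 := (hf.coef 1).2 (by
      rw [mul_one]
      have : Nat.card F ^ 2 - 1 = (Nat.card F + 1) * (Nat.card F - 1) := by
        obtain ⟨r, hr⟩ : ∃ r, Nat.card F = r + 1 := ⟨Nat.card F - 1, by omega⟩
        rw [hr, Nat.add_sub_cancel]
        have : (r + 1) ^ 2 = (r + 1 + 1) * r + 1 := by ring
        omega
      rw [this, Nat.mul_div_cancel _ (by omega)])
    rw [pow_one] at h1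
    simpa only [_root_.even_two, _root_.Even.neg_pow, _root_.one_pow, _root_.one_mul] using h1
  refine ⟨-f.coeff 1, ?_⟩
  have h2 : f = X ^ 2 - C (-f.coeff 1) * X + 1 := by
    have h3 := hf.monic.as_sum
    rw [hf.deg, Finset.sum_range_succ, Finset.sum_range_one, h0] at h3
    rw [C_neg, neg_mul, sub_neg_eq_add]
    nth_rewrite 1 [h3]
    rw [C_1, pow_zero, mul_one, pow_one]
    ring
  rw [← h2]
  exact hf.irr

end Cfsg.Agent.H140.TC.Sp
end

-- part: H140/TC/SpOdd
section
/-!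
# S4173, symplectic groups over fields of odd characteristic: two fixed classes
-/

set_option autoImplicit false

namespace Cfsg.Agent.H140.TC.Sp

open Module Matrix Polynomial Cfsg.Agent.H962.PP Cfsg.Agent.H126.PwO Cfsg.Agent.H140.OreO
  Cfsg.Agent.H144 Cfsg.Agent.H649.PwSp Cfsg.Agent.S2445

variable {F : Type*} [Field F] {n k : ℕ}

/-! ### the unipotent subgroups -/

/-- the lower unipotent subgroup -/
def Lo (n : ℕ) (F : Type*) [Field F] : Subgroup (G n F) where
  carrier := {g | ∃ (T : Matrix (Fin n) (Fin n) F) (hT : Tᵀ = T), g = lo T hT}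
  one_mem' := ⟨0, transpose_zero, lo_zero.symm⟩
  mul_mem' := by
    rintro _ _ ⟨T, hT, rfl⟩ ⟨T', hT', rfl⟩
    exact ⟨_, _, lo_mul hT hT'⟩
  inv_mem' := by
    rintro _ ⟨T, hT, rfl⟩
    exact ⟨_, _, lo_inv hT⟩

/-- the upper unipotent subgroup -/
def Up (n : ℕ) (F : Type*) [Field F] : Subgroup (G n F) where
  carrier := {g | ∃ (T : Matrix (Fin n) (Fin n) F) (hT : Tᵀ = T), g = up T hT}
  one_mem' := ⟨0, transpose_zero, up_zero.symm⟩
  mul_mem' := by
    rintro _ _ ⟨T, hT, rfl⟩ ⟨T', hT', rfl⟩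
    exact ⟨_, _, up_mul hT hT'⟩
  inv_mem' := by
    rintro _ ⟨T, hT, rfl⟩
    exact ⟨_, _, up_inv hT⟩

theorem lo_mem {T : Matrix (Fin n) (Fin n) F} (hT : Tᵀ = T) : lo T hT ∈ Lo n F := ⟨T, hT, rfl⟩

theorem up_mem {T : Matrix (Fin n) (Fin n) F} (hT : Tᵀ = T) : up T hT ∈ Up n F := ⟨T, hT, rfl⟩

theorem Lo_conj (R : GL (Fin n) F) {l : G n F} (hl : l ∈ Lo n F) : lv R * l * (lv R)⁻¹ ∈ Lo n F := by
  obtain ⟨T, hT, rfl⟩ := hl
  have h := lv_lo R⁻¹ hT
  rw [map_inv, inv_inv] at h
  rw [h]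
  exact ⟨_, _, rfl⟩

theorem Up_conj (R : GL (Fin n) F) {l : G n F} (hl : l ∈ Up n F) : lv R * l * (lv R)⁻¹ ∈ Up n F := by
  obtain ⟨T, hT, rfl⟩ := hl
  rw [lv_up R hT]
  exact ⟨_, _, rfl⟩

theorem lo_inj {T T' : Matrix (Fin n) (Fin n) F} {hT : Tᵀ = T} {hT' : T'ᵀ = T'} (h : lo T hT = lo T' hT') :
    T = T' := by
  have h1 := congrArg Subtype.val h
  change fromBlocks 1 0 T 1 = fromBlocks 1 0 T' 1 at h1
  exact (fromBlocks_inj.1 h1).2.2.1

theorem up_inj {T T' : Matrix (Fin n) (Fin n) F} {hT : Tᵀ = T} {hT' : T'ᵀ = T'} (h : up T hT = up T' hT') :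
    T = T' := by
  have h1 := congrArg Subtype.val h
  change fromBlocks 1 T 0 1 = fromBlocks 1 T' 0 1 at h1
  exact (fromBlocks_inj.1 h1).2.1

/-- no invariant forms -/
theorem eq_zero_of_comm {X : GL (Fin n) F} (hX : IsCoprime (X : Matrix (Fin n) (Fin n) F).charpoly
    (X : Matrix (Fin n) (Fin n) F).charpoly.reverse) {T : Matrix (Fin n) (Fin n) F}
    (h : T * (X : Matrix (Fin n) (Fin n) F) = (ti X : Matrix (Fin n) (Fin n) F) * T) : T = 0 := by
  have h1 : ∀ v, toLin' T v = 0 := by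
    intro v
    apply inj_of_coprime (aeval_ti_reverse X) hX
    have h2 := intertwine (toLin' T) (toLin' (X : Matrix (Fin n) (Fin n) F))
      (toLin' (ti X : Matrix (Fin n) (Fin n) F)) (fun a => by
        rw [← toLin'_mul_apply, ← toLin'_mul_apply, h]) (X : Matrix (Fin n) (Fin n) F).charpoly v
    rw [← h2, aeval_toLin', aeval_self_charpoly, map_zero, LinearMap.zero_apply, map_zero]
  apply Matrix.toLin'.injective
  rw [map_zero]
  exact LinearMap.ext h1

section Fin

variable [Finite F]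

/-- `L X L` is the class of `X` -/
theorem conj_lo_lv {X : GL (Fin n) F} (hX : IsCoprime (X : Matrix (Fin n) (Fin n) F).charpoly
    (X : Matrix (Fin n) (Fin n) F).charpoly.reverse) {l₁ l₂ : G n F} (h₁ : l₁ ∈ Lo n F) (h₂ : l₂ ∈ Lo n F) :
    ∃ r : G n F, l₁ * lv X * l₂ = r * lv X * r⁻¹ := by
  have : Finite (G n F) := inferInstance
  obtain ⟨r, -, e⟩ := conj_of_fpf (Lo n F) (lv X) (fun r hr => Lo_conj X hr) (fun r hr hc => by
    obtain ⟨T, hT, rfl⟩ := hr
    have h1 := lv_lo X hT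
    have h2 : (lv X)⁻¹ * lo T hT * lv X = lo T hT := by
      rw [mul_assoc, ← hc]; group
    rw [h2] at h1
    have h3 := lo_inj h1
    have h4 : T = 0 := by
      apply eq_zero_of_comm hX
      rw [ti_coe]
      conv_rhs => rw [h3]
      have h5 : ((X⁻¹ : GL (Fin n) F) : Matrix (Fin n) (Fin n) F)ᵀ * (X : Matrix (Fin n) (Fin n) F)ᵀ = 1 := by
        rw [← transpose_mul, ← Units.val_mul, mul_inv_cancel]; simp
      rw [Matrix.mul_assoc (X : Matrix (Fin n) (Fin n) F)ᵀ, ← Matrix.mul_assoc, h5, Matrix.one_mul]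
    subst h4
    exact lo_zero) (l₁ * (lv X * l₂ * (lv X)⁻¹)) (mul_mem h₁ (Lo_conj X h₂))
  refine ⟨r, ?_⟩
  rw [← e]
  group

/-- `U X U` is the class of `X` -/
theorem conj_up_lv {X : GL (Fin n) F} (hX : IsCoprime (X : Matrix (Fin n) (Fin n) F).charpoly
    (X : Matrix (Fin n) (Fin n) F).charpoly.reverse) {l₁ l₂ : G n F} (h₁ : l₁ ∈ Up n F) (h₂ : l₂ ∈ Up n F) :
    ∃ r : G n F, l₁ * lv X * l₂ = r * lv X * r⁻¹ := by
  have : Finite (G n F) := inferInstance
  obtain ⟨r, -, e⟩ := conj_of_fpf (Up n F) (lv X) (fun r hr => Up_conj X hr) (fun r hr hc => by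
    obtain ⟨T, hT, rfl⟩ := hr
    have h1 := lv_up X hT
    have h2 : lv X * up T hT * (lv X)⁻¹ = up T hT := by
      rw [hc]; group
    rw [h2] at h1
    have h3 := up_inj h1
    have h4 : T = 0 := by
      -- `T = X T Xᵀ`
      have h5 : ((X⁻¹ : GL (Fin n) F) : Matrix (Fin n) (Fin n) F) * (X : Matrix (Fin n) (Fin n) F) = 1 := X.inv_mul
      have h6 : T * (ti X : Matrix (Fin n) (Fin n) F) = (X : Matrix (Fin n) (Fin n) F) * T := by
        conv_lhs => rw [h3]
        rw [ti_coe, Matrix.mul_assoc, ← transpose_mul, h5, transpose_one, Matrix.mul_one]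
      apply Matrix.toLin'.injective
      rw [map_zero]
      apply LinearMap.ext
      intro v
      apply inj_of_coprime (aeval_self_charpoly (X : Matrix (Fin n) (Fin n) F)) hX.symm
      have h2 := intertwine (toLin' T) (toLin' (ti X : Matrix (Fin n) (Fin n) F))
        (toLin' (X : Matrix (Fin n) (Fin n) F)) (fun a => by
          rw [← toLin'_mul_apply, ← toLin'_mul_apply, h6]) (X : Matrix (Fin n) (Fin n) F).charpoly.reverse v
      rw [← h2, aeval_toLin', aeval_ti_reverse, map_zero, LinearMap.zero_apply, map_zero]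
    subst h4
    exact up_zero) (l₁ * (lv X * l₂ * (lv X)⁻¹)) (mul_mem h₁ (Up_conj X h₂))
  refine ⟨r, ?_⟩
  rw [← e]
  group

end Fin

/-! ### `SL_2 × GL_(n-1)` -/

section blk

variable {m : ℕ}

theorem blk_add (a b : F) (B D : Matrix (Fin m) (Fin m) F) : blk a B + blk b D = blk (a + b) (B + D) := by
  ext i j
  refine Fin.cases ?_ (fun i => ?_) i <;> refine Fin.cases ?_ (fun j => ?_) j <;> simp [Matrix.add_apply]

theorem blk_sub (a b : F) (B D : Matrix (Fin m) (Fin m) F) : blk a B - blk b D = blk (a - b) (B - D) := by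
  ext i j
  refine Fin.cases ?_ (fun i => ?_) i <;> refine Fin.cases ?_ (fun j => ?_) j <;> simp [Matrix.sub_apply]

theorem blk_transpose (a : F) (B : Matrix (Fin m) (Fin m) F) : (blk a B)ᵀ = blk a Bᵀ := by
  ext i j
  refine Fin.cases ?_ (fun i => ?_) i <;> refine Fin.cases ?_ (fun j => ?_) j <;> simp [Matrix.transpose_apply]

theorem blk_zero : blk (0 : F) (0 : Matrix (Fin m) (Fin m) F) = 0 := by
  ext i j
  refine Fin.cases ?_ (fun i => ?_) i <;> refine Fin.cases ?_ (fun j => ?_) j <;> simp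

/-- `SL_2 × GL_(n-1)` -/
def em : SpecialLinearGroup (Fin 2) F × GL (Fin m) F →* G (m + 1) F where
  toFun x := ⟨fromBlocks (blk (x.1 0 0) x.2) (blk (x.1 0 1) 0) (blk (x.1 1 0) 0) (blk (x.1 1 1) (ti x.2)), by
    have h1 : x.1 0 0 * x.1 1 1 - x.1 0 1 * x.1 1 0 = 1 := by
      have := x.1.det_coe
      rwa [Matrix.det_fin_two] at this
    have h2 : (x.2 : Matrix (Fin m) (Fin m) F) * ((x.2⁻¹ : GL (Fin m) F) : Matrix (Fin m) (Fin m) F) = 1 := x.2.mul_inv
    rw [mem_iff]
    simp only [blk_transpose, blk_mul, blk_sub, ti_coe, transpose_transpose, transpose_zero, Matrix.mul_zero,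
      Matrix.zero_mul, h2, ← transpose_mul, transpose_one, sub_zero]
    refine ⟨by rw [mul_comm], by rw [mul_comm], ?_, ?_⟩
    · rw [h1, blk_one]
    · rw [mul_comm (x.1 1 1), mul_comm (x.1 1 0), h1, blk_one]⟩
  map_one' := Subtype.ext (by
    show fromBlocks _ _ _ _ = (1 : Matrix _ _ F)
    simp only [Prod.fst_one, Prod.snd_one, ti_one, Units.val_one]
    simp only [blk_one, blk_zero, _root_.Fin.isValue, _root_.Matrix.SpecialLinearGroup.coe_one, _root_.Matrix.one_apply_eq, _root_.Cfsg.Agent.H962.PP.blk_one, _root_.ne_eq, _root_.zero_ne_one, _root_.not_false_eq_true, _root_.Matrix.one_apply_ne, _root_.Cfsg.Agent.H140.TC.Sp.blk_zero, _root_.one_ne_zero, _root_.Matrix.fromBlocks_one])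
  map_mul' x y := Subtype.ext (by
    show fromBlocks _ _ _ _ = fromBlocks _ _ _ _ * fromBlocks _ _ _ _
    have hm : ∀ i j, (x.1 * y.1) i j = x.1 i 0 * y.1 0 j + x.1 i 1 * y.1 1 j := fun i j => by
      show (x.1.1 * y.1.1) i j = _
      rw [Matrix.mul_apply, Fin.sum_univ_two]
    rw [fromBlocks_multiply]
    simp only [blk_mul, blk_add, Prod.fst_mul, Prod.snd_mul, ti_mul, Units.val_mul, Matrix.mul_zero, Matrix.zero_mul,
      add_zero, zero_add, hm])

theorem em_coe (M : SpecialLinearGroup (Fin 2) F) (B : GL (Fin m) F) :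
    (em (M, B) : Matrix (Fin (m + 1) ⊕ Fin (m + 1)) (Fin (m + 1) ⊕ Fin (m + 1)) F) =
      fromBlocks (blk (M 0 0) B) (blk (M 0 1) 0) (blk (M 1 0) 0) (blk (M 1 1) (ti B)) := rfl

/-- the elements of the plane and `SL_2` -/
theorem em_eq {ν c σ : F} (hc : c ≠ 0) {B : GL (Fin m) F} {Z : GL (Fin (m + 1)) F}
    (hZ : (Z : Matrix (Fin (m + 1)) (Fin (m + 1)) F) = blk c B) {M : SpecialLinearGroup (Fin 2) F}
    (h00 : M 0 0 = c) (h01 : M 0 1 = c * σ) (h10 : M 1 0 = ν * c) (h11 : M 1 1 = ν * c * σ + c⁻¹) :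
    lo (blk ν 0) (by rw [blk_transpose, transpose_zero]) * lv Z * up (blk σ 0) (by rw [blk_transpose, transpose_zero]) =
      em (M, B) := by
  have hZi : ((Z⁻¹ : GL (Fin (m + 1)) F) : Matrix (Fin (m + 1)) (Fin (m + 1)) F) =
      blk c⁻¹ ((B⁻¹ : GL (Fin m) F) : Matrix (Fin m) (Fin m) F) := by
    have h1 : (Z : Matrix (Fin (m + 1)) (Fin (m + 1)) F) *
        blk c⁻¹ ((B⁻¹ : GL (Fin m) F) : Matrix (Fin m) (Fin m) F) = 1 := by
      rw [hZ, blk_mul, mul_inv_cancel₀ hc, ← Units.val_mul, mul_inv_cancel, Units.val_one, blk_one]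
    have h2 : ((Z⁻¹ : GL (Fin (m + 1)) F) : Matrix (Fin (m + 1)) (Fin (m + 1)) F) *
        (Z : Matrix (Fin (m + 1)) (Fin (m + 1)) F) = 1 := Z.inv_mul
    calc ((Z⁻¹ : GL (Fin (m + 1)) F) : Matrix (Fin (m + 1)) (Fin (m + 1)) F) =
        ((Z⁻¹ : GL (Fin (m + 1)) F) : Matrix (Fin (m + 1)) (Fin (m + 1)) F) *
          ((Z : Matrix (Fin (m + 1)) (Fin (m + 1)) F) *
            blk c⁻¹ ((B⁻¹ : GL (Fin m) F) : Matrix (Fin m) (Fin m) F)) := by rw [h1, Matrix.mul_one]
      _ = _ := by rw [← Matrix.mul_assoc, h2, Matrix.one_mul]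
  apply Subtype.ext
  rw [em_coe, h00, h01, h10, h11]
  simp only [Submonoid.coe_mul, lo_coe, lv_coe, up_coe, fromBlocks_multiply, hZ, hZi, Matrix.one_mul, Matrix.mul_one,
    Matrix.mul_zero, Matrix.zero_mul, add_zero, zero_add, blk_mul, blk_add, blk_transpose, ti_coe]

end blk

/-! ### the action on vectors -/

/-- the action as a homomorphism -/
noncomputable def actH (n : ℕ) (F : Type*) [Field F] : G n F →* ((Fin n ⊕ Fin n → F) ≃ₗ[F] (Fin n ⊕ Fin n → F)) where
  toFun := act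
  map_one' := by
    ext v i
    rw [act_apply]
    simp only [_root_.OneMemClass.coe_one, _root_.Matrix.one_mulVec, _root_.LinearEquiv.coe_one, _root_.id_eq]
  map_mul' x y := by
    apply LinearEquiv.ext
    intro v
    rw [LinearEquiv.mul_apply, act_apply, act_apply, act_apply, Matrix.mulVec_mulVec]
    rfl

theorem actH_apply (g : G n F) (v : Fin n ⊕ Fin n → F) : actH n F g v = (g : Matrix _ _ F) *ᵥ v := rfl

theorem actH_inj : Function.Injective (actH n F) := by
  intro a b h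
  apply Subtype.ext
  apply Matrix.toLin'.injective
  apply LinearMap.ext
  intro v
  exact LinearEquiv.congr_fun h v

theorem actH_iso (g : G n F) : Iso (form F n) (actH n F g) := act_iso g

theorem form_elim (a b a' b' : Fin n → F) : form F n (Sum.elim a b) (Sum.elim a' b') = b ⬝ᵥ a' - a ⬝ᵥ b' := by
  rw [form_apply, Matrix.J, fromBlocks_mulVec]
  simp only [Matrix.neg_mulVec, _root_.Sum.elim_comp_inl, _root_.Matrix.zero_mulVec, _root_.Sum.elim_comp_inr, _root_.Matrix.neg_mulVec, _root_.Matrix.one_mulVec, _root_.zero_add, _root_.add_zero, _root_.sumElim_dotProduct_sumElim, _root_.dotProduct_neg]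
  ring

section emb

variable {m : ℕ}

/-- the isotropic subspace -/
def iE (m : ℕ) (F : Type*) [Field F] : (Fin m → F) →ₗ[F] (Fin (m + 1) ⊕ Fin (m + 1) → F) where
  toFun w := Sum.elim (consL w) 0
  map_add' x y := by ext i; rcases i with i | i <;> simp
  map_smul' c x := by ext i; rcases i with i | i <;> simp

/-- its dual -/
def iQ (m : ℕ) (F : Type*) [Field F] : (Fin m → F) →ₗ[F] (Fin (m + 1) ⊕ Fin (m + 1) → F) where
  toFun w := Sum.elim 0 (consL w)
  map_add' x y := by ext i; rcases i with i | i <;> simp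
  map_smul' c x := by ext i; rcases i with i | i <;> simp

/-- the plane -/
def iH (m : ℕ) (F : Type*) [Field F] : (Fin 2 → F) →ₗ[F] (Fin (m + 1) ⊕ Fin (m + 1) → F) where
  toFun z := Sum.elim (Pi.single 0 (z 0)) (Pi.single 0 (z 1))
  map_add' x y := by ext i; rcases i with i | i <;> simp only [Pi.single_add, _root_.Fin.isValue, _root_.Pi.add_apply, _root_.Pi.single_add, _root_.Sum.elim_inl, _root_.Sum.elim_inr]
  map_smul' c x := by ext i; rcases i with i | i <;> simp [Pi.single_apply]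

theorem blk_consL (a : F) (B : Matrix (Fin m) (Fin m) F) (w : Fin m → F) : blk a B *ᵥ consL w = consL (B *ᵥ w) := by
  ext i
  refine Fin.cases ?_ (fun i => ?_) i
  · rw [mulVec_consL_zero, consL_zero]
    exact Finset.sum_eq_zero fun j _ => by rw [blk_zero_succ, zero_mul]
  · rw [mulVec_consL_succ, consL_succ]
    rfl

theorem blk_single (a : F) (B : Matrix (Fin m) (Fin m) F) (z : F) :
    blk a B *ᵥ (Pi.single 0 z : Fin (m + 1) → F) = Pi.single 0 (a * z) := by
  ext i
  rw [Matrix.mulVec_single]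
  refine Fin.cases ?_ (fun i => ?_) i
  · simp
  · simp [Fin.succ_ne_zero]

theorem act_iE (M : SpecialLinearGroup (Fin 2) F) (B : GL (Fin m) F) (w : Fin m → F) :
    actH (m + 1) F (em (M, B)) (iE m F w) = iE m F ((B : Matrix (Fin m) (Fin m) F) *ᵥ w) := by
  rw [actH_apply, em_coe]
  show _ *ᵥ (Sum.elim (consL w) 0 : Fin (m + 1) ⊕ Fin (m + 1) → F) = Sum.elim (consL _) 0
  rw [fromBlocks_mulVec, Sum.elim_comp_inl, Sum.elim_comp_inr]
  simp only [blk_consL, _root_.Fin.isValue, _root_.Cfsg.Agent.H140.TC.Sp.blk_consL, _root_.Matrix.mulVec_zero, _root_.add_zero, _root_.Matrix.zero_mulVec, _root_.map_zero]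

theorem act_iQ (M : SpecialLinearGroup (Fin 2) F) (B : GL (Fin m) F) (w : Fin m → F) :
    actH (m + 1) F (em (M, B)) (iQ m F w) = iQ m F ((ti B : Matrix (Fin m) (Fin m) F) *ᵥ w) := by
  rw [actH_apply, em_coe]
  show _ *ᵥ (Sum.elim (0 : Fin (m + 1) → F) (consL w)) = Sum.elim (0 : Fin (m + 1) → F) (consL _)
  rw [fromBlocks_mulVec, Sum.elim_comp_inl, Sum.elim_comp_inr]
  simp only [blk_consL, _root_.Fin.isValue, _root_.Matrix.mulVec_zero, _root_.Cfsg.Agent.H140.TC.Sp.blk_consL, _root_.Matrix.zero_mulVec, _root_.map_zero, _root_.add_zero, _root_.zero_add]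

theorem act_iH (M : SpecialLinearGroup (Fin 2) F) (B : GL (Fin m) F) (z : Fin 2 → F) :
    actH (m + 1) F (em (M, B)) (iH m F z) = iH m F ((M : Matrix (Fin 2) (Fin 2) F) *ᵥ z) := by
  rw [actH_apply, em_coe]
  show _ *ᵥ (Sum.elim (Pi.single 0 (z 0)) (Pi.single 0 (z 1)) : Fin (m + 1) ⊕ Fin (m + 1) → F) =
    Sum.elim (Pi.single 0 _) (Pi.single 0 _)
  rw [fromBlocks_mulVec]
  simp only [Function.comp_def, Sum.elim_inl, Sum.elim_inr, blk_single, ← Pi.single_add, Matrix.mulVec, dotProduct,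
    Fin.sum_univ_two]

theorem consL_dot_single (w : Fin m → F) (z : F) : (consL w : Fin (m + 1) → F) ⬝ᵥ Pi.single 0 z = 0 := by
  rw [dotProduct_single]
  simp

/-- conjugacy in the coset of the unipotent radical -/
theorem conj_em_up [Finite F] {M : SpecialLinearGroup (Fin 2) F} {B : GL (Fin m) F}
    (h1 : IsCoprime (B : Matrix (Fin m) (Fin m) F).charpoly (B : Matrix (Fin m) (Fin m) F).charpoly.reverse)
    (h2 : IsCoprime (B : Matrix (Fin m) (Fin m) F).charpoly (M : Matrix (Fin 2) (Fin 2) F).charpoly)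
    {S : Matrix (Fin (m + 1)) (Fin (m + 1)) F} (hS : Sᵀ = S) (hS0 : S 0 0 = 0) :
    ∃ r : G (m + 1) F, em (M, B) * up S hS = r * em (M, B) * r⁻¹ := by
  have hfin : Finite (G (m + 1) F) := inferInstance
  obtain ⟨P, hP⟩ : ∃ P, P = LinearMap.range (iE m F) := ⟨_, rfl⟩
  obtain ⟨Q, hQ⟩ : ∃ Q, Q = LinearMap.range (iQ m F) := ⟨_, rfl⟩
  obtain ⟨H, hH⟩ : ∃ H, H = LinearMap.range (iH m F) := ⟨_, rfl⟩
  have oPP : Orth (form F (m + 1)) P P := by
    rw [hP]
    rintro _ ⟨a, rfl⟩ _ ⟨b, rfl⟩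
    show form F (m + 1) (Sum.elim _ _) (Sum.elim _ _) = 0
    rw [form_elim]; simp
  have oQQ : Orth (form F (m + 1)) Q Q := by
    rw [hQ]
    rintro _ ⟨a, rfl⟩ _ ⟨b, rfl⟩
    show form F (m + 1) (Sum.elim _ _) (Sum.elim _ _) = 0
    rw [form_elim]; simp
  have oPH : Orth (form F (m + 1)) P H := by
    rw [hP, hH]
    rintro _ ⟨a, rfl⟩ _ ⟨b, rfl⟩
    show form F (m + 1) (Sum.elim _ _) (Sum.elim _ _) = 0
    rw [form_elim, consL_dot_single]; simp
  have oHQ : Orth (form F (m + 1)) H Q := by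
    rw [hQ, hH]
    rintro _ ⟨a, rfl⟩ _ ⟨b, rfl⟩
    show form F (m + 1) (Sum.elim _ _) (Sum.elim _ _) = 0
    rw [form_elim, dotProduct_comm (Pi.single 0 (a 0)), consL_dot_single]; simp
  have htop : P ⊔ (H ⊔ Q) = ⊤ := by
    rw [eq_top_iff]
    intro v _
    have e : v = iE m F (fun i => v (Sum.inl i.succ)) +
        (iH m F ![v (Sum.inl 0), v (Sum.inr 0)] + iQ m F (fun i => v (Sum.inr i.succ))) := by
      ext i
      rcases i with i | i
      · refine Fin.cases ?_ (fun j => ?_) i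
        · simp [iE, iH, iQ]
        · simp [iE, iH, iQ, Fin.succ_ne_zero]
      · refine Fin.cases ?_ (fun j => ?_) i
        · simp [iE, iH, iQ]
        · simp [iE, iH, iQ, Fin.succ_ne_zero]
    rw [e]
    refine Submodule.add_mem_sup ?_ (Submodule.add_mem_sup ?_ ?_)
    · rw [hP]; exact LinearMap.mem_range_self _ _
    · rw [hH]; exact LinearMap.mem_range_self _ _
    · rw [hQ]; exact LinearMap.mem_range_self _ _
  obtain ⟨Y, hY⟩ : ∃ Y, Y = actH (m + 1) F (em (M, B)) := ⟨_, rfl⟩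
  have hYP : ∀ v ∈ P, Y v ∈ P := by
    rw [hP, hY]
    rintro _ ⟨a, rfl⟩
    rw [act_iE]
    exact LinearMap.mem_range_self _ _
  -- polynomials
  have aE : ∀ (p : F[X]) w, aeval (Y : Module.End F (Fin (m + 1) ⊕ Fin (m + 1) → F)) p (iE m F w) =
      iE m F (aeval (toLin' (B : Matrix (Fin m) (Fin m) F)) p w) := by
    intro p w
    exact (intertwine (iE m F) (toLin' (B : Matrix (Fin m) (Fin m) F)) (Y : Module.End F _) (fun a => by
      rw [hY]; exact (act_iE M B a).symm) p w).symm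
  have aQ : ∀ (p : F[X]) w, aeval (Y : Module.End F (Fin (m + 1) ⊕ Fin (m + 1) → F)) p (iQ m F w) =
      iQ m F (aeval (toLin' (ti B : Matrix (Fin m) (Fin m) F)) p w) := by
    intro p w
    exact (intertwine (iQ m F) (toLin' (ti B : Matrix (Fin m) (Fin m) F)) (Y : Module.End F _) (fun a => by
      rw [hY]; exact (act_iQ M B a).symm) p w).symm
  have aH : ∀ (p : F[X]) w, aeval (Y : Module.End F (Fin (m + 1) ⊕ Fin (m + 1) → F)) p (iH m F w) =
      iH m F (aeval (toLin' (M : Matrix (Fin 2) (Fin 2) F)) p w) := by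
    intro p w
    exact (intertwine (iH m F) (toLin' (M : Matrix (Fin 2) (Fin 2) F)) (Y : Module.End F _) (fun a => by
      rw [hY]; exact (act_iH M B a).symm) p w).symm
  have iEinj : ∀ w, iE m F w = 0 → w = 0 := by
    intro w hw
    ext i
    have := congrFun hw (Sum.inl i.succ)
    simpa [iE] using this
  obtain ⟨f, hf⟩ : ∃ f, f = (B : Matrix (Fin m) (Fin m) F).charpoly.reverse * (M : Matrix (Fin 2) (Fin 2) F).charpoly :=
    ⟨_, rfl⟩
  have hf0 : ∀ v ∈ H ⊔ Q, aeval (Y : Module.End F (Fin (m + 1) ⊕ Fin (m + 1) → F)) f v = 0 := by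
    intro v hv
    obtain ⟨a, ha, b, hb, rfl⟩ := Submodule.mem_sup.1 hv
    rw [hH] at ha
    rw [hQ] at hb
    obtain ⟨a, rfl⟩ := ha
    obtain ⟨b, rfl⟩ := hb
    have e1 : aeval (toLin' (M : Matrix (Fin 2) (Fin 2) F)) f a = 0 := by
      rw [hf, map_mul, aeval_toLin' (M : Matrix (Fin 2) (Fin 2) F) (M : Matrix (Fin 2) (Fin 2) F).charpoly,
        aeval_self_charpoly, map_zero, mul_zero, LinearMap.zero_apply]
    have e2 : aeval (toLin' (ti B : Matrix (Fin m) (Fin m) F)) f b = 0 := by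
      rw [hf, mul_comm, map_mul, aeval_toLin' _ (B : Matrix (Fin m) (Fin m) F).charpoly.reverse,
        aeval_ti_reverse, map_zero, mul_zero, LinearMap.zero_apply]
    rw [map_add, aH, aQ, e1, e2, map_zero, map_zero, add_zero]
  have hfi : ∀ v ∈ P, aeval (Y : Module.End F (Fin (m + 1) ⊕ Fin (m + 1) → F)) f v = 0 → v = 0 := by
    rw [hP]
    rintro _ ⟨w, rfl⟩ h0
    rw [aE] at h0
    have h3 := iEinj _ h0
    rw [inj_of_coprime (aeval_self_charpoly (B : Matrix (Fin m) (Fin m) F)) (f := f) (by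
      rw [hf]; exact (IsCoprime.mul_right h1 h2).symm) w h3, map_zero]
  have hu : up S hS ∈ (Rad (form F (m + 1)) P).comap (actH (m + 1) F) := by
    rw [Subgroup.mem_comap, mem_Rad]
    refine ⟨actH_iso _, ?_, ?_⟩
    · rw [hP]
      rintro _ ⟨w, rfl⟩
      rw [actH_apply, up_coe]
      show _ *ᵥ (Sum.elim (consL w) 0 : Fin (m + 1) ⊕ Fin (m + 1) → F) = Sum.elim (consL _) 0
      rw [fromBlocks_mulVec, Sum.elim_comp_inl, Sum.elim_comp_inr]
      simp
    · intro v hv
      obtain ⟨a, b, rfl⟩ : ∃ a b : Fin (m + 1) → F, v = Sum.elim a b :=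
        ⟨v ∘ Sum.inl, v ∘ Sum.inr, by simp⟩
      have hb : ∀ i : Fin m, b i.succ = 0 := by
        intro i
        have h3 := hv (iE m F (Pi.single i 1)) (by rw [hP]; exact LinearMap.mem_range_self _ _)
        change form F (m + 1) (Sum.elim (consL (Pi.single i 1)) 0) (Sum.elim a b) = 0 at h3
        rw [form_elim, consL_single] at h3
        simpa using h3
      have hb' : b = Pi.single 0 (b 0) := by
        ext i
        refine Fin.cases (by simp) (fun j => ?_) i
        rw [hb j]; simp [Fin.succ_ne_zero]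
      have e : actH (m + 1) F (up S hS) (Sum.elim a b) - Sum.elim a b = iE m F (fun i => S i.succ 0 * b 0) := by
        rw [actH_apply, up_coe, fromBlocks_mulVec]
        ext i
        rcases i with i | i
        · simp only [Function.comp_def, Sum.elim_inl, Sum.elim_inr, Matrix.one_mulVec, Pi.sub_apply, Pi.add_apply,
            add_sub_cancel_left, iE, LinearMap.coe_mk, AddHom.coe_mk]
          rw [hb', Matrix.mulVec_single]
          refine Fin.cases ?_ (fun j => ?_) i
          · simp [hS0]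
          · simp
        · simp [Function.comp_def, iE]
      rw [e, hP]
      exact LinearMap.mem_range_self _ _
  have hconj : ∀ r ∈ (Rad (form F (m + 1)) P).comap (actH (m + 1) F),
      em (M, B) * r * (em (M, B))⁻¹ ∈ (Rad (form F (m + 1)) P).comap (actH (m + 1) F) := by
    intro r hr
    rw [Subgroup.mem_comap] at hr ⊢
    rw [map_mul, map_mul, map_inv, ← hY]
    exact Rad.conj (by rw [hY]; exact actH_iso _) hYP hr
  obtain ⟨r, -, e⟩ := conj_of_fpf ((Rad (form F (m + 1)) P).comap (actH (m + 1) F)) (em (M, B)) hconj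
    (fun r hr hc => by
      apply actH_inj
      rw [map_one]
      exact fpf_Rad form_alt form_nond oQQ oPP oPH oHQ htop (Z := Y) f hf0 hfi hr (by
        rw [hY, ← map_mul, ← map_mul, hc])) (em (M, B) * up S hS * (em (M, B))⁻¹) (hconj _ hu)
  refine ⟨r, ?_⟩
  rw [← e]
  group

end emb

end Cfsg.Agent.H140.TC.Sp
end

-- part: H140/TC/SpRow
section
/-!
# S4173, the groups `PSp_2m(F)` (two fixed classes)
-/

set_option autoImplicit false

namespace Cfsg.Agent.H140.TC.Sp

open Module Matrix Polynomial Cfsg.Agent.H962.PP Cfsg.Agent.H126.PwO Cfsg.Agent.H140.OreO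

variable {F : Type*} [Field F] {n k : ℕ}

theorem card_ge [Finite F] (h2 : (2 : F) ≠ 0) : 3 ≤ Nat.card F := by
  have := Fintype.ofFinite F
  have h1 := card_odd h2
  have h3 : 2 ≤ Nat.card F := Finite.one_lt_card
  rw [Nat.card_eq_fintype_card] at h3 ⊢
  omega

theorem exists_f2 (F : Type*) [Field F] [Finite F] (h2 : (2 : F) ≠ 0) {k : ℕ} (hex : 1 ≤ k ∨ ∃ t : F, t ≠ 0 ∧ t ^ 2 ≠ 1)
    {h : F[X]} (hirr : Irreducible h) (hm : h.Monic) (hd : h.natDegree = 2) (h0 : h.coeff 0 = 1) :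
    ∃ f : F[X], RP (k + 1) f ∧ f.coeff 0 ≠ 0 ∧ f.eval 1 ≠ 0 ∧ IsCoprime f h := by
  have hq := card_ge h2
  rcases Nat.eq_zero_or_pos k with rfl | hk
  · obtain ⟨t, ht0, ht⟩ : ∃ t : F, t ≠ 0 ∧ t ^ 2 ≠ 1 := by
      rcases hex with h | h
      · omega
      · exact h
    refine ⟨X - C t, ⟨monic_X_sub_C t, irreducible_X_sub_C t, natDegree_X_sub_C t, ?_⟩, ?_, ?_, ?_⟩
    · rw [(irreducible_X_sub_C t).coprime_iff_not_dvd, dvd_iff_isRoot, IsRoot, reverse_lin]
      simp only [eval_sub, eval_mul, eval_C, eval_X, eval_one]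
      intro h1
      apply ht
      linear_combination -h1
    · rw [coeff_sub, coeff_X_zero, coeff_C_zero, zero_sub]
      exact neg_ne_zero.2 ht0
    · rw [eval_sub, eval_X, eval_C]
      intro h1
      apply ht
      rw [← sub_eq_zero.1 h1, one_pow]
    · rw [(irreducible_X_sub_C t).coprime_iff_not_dvd, dvd_iff_isRoot]
      exact eval_ne_zero hirr (by omega) t
  · obtain ⟨f, hf, hN⟩ := exists_rp_gen F (show 2 ≤ k + 1 by omega) (Or.inr hq)
    refine ⟨f, hf, hf.coeff_ne (by omega), hf.eval_ne (by omega) 1, cop_chi hf.irr hm hd h0 ?_⟩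
    rcases Nat.lt_or_ge 1 k with h | h
    · left; rw [hf.deg]; omega
    · right
      have hk1 : k = 1 := by omega
      subst hk1
      refine ⟨hf.deg, ?_⟩
      rw [hf.monic.leadingCoeff]
      intro h1
      have h3 := (hN 1).1 (by rw [h1]; norm_num)
      have := Nat.le_of_dvd Nat.one_pos h3
      omega

/-- **`Sp`, odd characteristic** -/
theorem two_sp_odd [Finite F] (h2 : (2 : F) ≠ 0) (hex : 1 ≤ k ∨ ∃ t : F, t ≠ 0 ∧ t ^ 2 ≠ 1) :
    ∃ x₀ y₀ : G (k + 2) F, ∀ g : G (k + 2) F, g ∉ Subgroup.center (G (k + 2) F) →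
      ∃ u v : G (k + 2) F, g = (u * x₀ * u⁻¹) * (v * y₀ * v⁻¹) := by
  have hq := card_ge h2
  obtain ⟨t₀, ht₀⟩ := exists_quad F
  obtain ⟨h, hh⟩ : ∃ h : F[X], h = X ^ 2 - C t₀ * X + 1 := ⟨_, rfl⟩
  rw [← hh] at ht₀
  have hcp : ∀ M : Matrix (Fin 2) (Fin 2) F, M.det = 1 → M.trace = t₀ → M.charpoly = h := by
    intro M h1 h3
    rw [Matrix.charpoly_fin_two, h1, h3, C_1, hh]
  obtain ⟨M₀, hM₀⟩ : ∃ M₀ : SpecialLinearGroup (Fin 2) F, (M₀ : Matrix (Fin 2) (Fin 2) F) = !![0, -1; 1, t₀] :=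
    ⟨⟨!![0, -1; 1, t₀], by rw [Matrix.det_fin_two_of]; ring⟩, rfl⟩
  have hM₀c : (M₀ : Matrix (Fin 2) (Fin 2) F).charpoly = h := hcp _ M₀.det_coe (by
    rw [hM₀, Matrix.trace_fin_two_of]; ring)
  have hdeg : h.natDegree = 2 := by
    rw [← hM₀c, Matrix.charpoly_natDegree_eq_dim, Fintype.card_fin]
  have hmon : h.Monic := by rw [← hM₀c]; exact Matrix.charpoly_monic _
  have hc0 : h.coeff 0 = 1 := by rw [hh]; simp [coeff_one]
  obtain ⟨f₁, hf₁, -⟩ := exists_rp_gen F (show 2 ≤ k + 2 by omega) (Or.inr hq)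
  obtain ⟨f₂, hf₂, hf₂0, hf₂1, hf₂h⟩ := exists_f2 F h2 hex ht₀ hmon hdeg hc0
  obtain ⟨X₀, hX₀f, hX₀, -⟩ := exists_mat (d := k + 2) (by omega) hf₁
  obtain ⟨B₀, hB₀f⟩ : ∃ B₀ : Matrix (Fin (k + 1)) (Fin (k + 1)) F, B₀.charpoly = f₂ := by
    obtain ⟨B, hB⟩ := exists_matrix f₂ hf₂.monic hf₂0 hf₂.deg
    exact ⟨B, hB⟩
  have hB₀ : Cyc B₀ := cyc_of_irr (by omega) (by rw [hB₀f]; exact hf₂.irr)
  have hXd : X₀.det ≠ 0 := det_ne_zero_iff.2 (by rw [hX₀f]; exact hf₁.coeff_ne (by omega))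
  have hBd : B₀.det ≠ 0 := det_ne_zero_iff.2 (by rw [hB₀f]; exact hf₂0)
  obtain ⟨X, hX⟩ := exists_gl hXd
  obtain ⟨B, hB⟩ := exists_gl hBd
  obtain ⟨Z, hZ⟩ : ∃ Z : GL (Fin (k + 2)) F, (Z : Matrix (Fin (k + 2)) (Fin (k + 2)) F) = blk 1 B₀ :=
    exists_gl (by rw [blk_det, one_mul]; exact hBd)
  refine ⟨lv X, em (M₀, B), fun g hg => ?_⟩
  obtain ⟨t, A, C₁, D₁, E₁, htg, hC, hAdet, hAns⟩ := exists_corner (by omega) hg
    (Δ := X₀.det * (1 * B₀.det)) (mul_ne_zero hXd (mul_ne_zero one_ne_zero hBd))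
  have hAd : A.det ≠ 0 := by rw [hAdet]; exact mul_ne_zero hXd (mul_ne_zero one_ne_zero hBd)
  obtain ⟨R, hR⟩ := exists_gl hAd
  obtain ⟨T, S, hT, hS, e, hCS, -⟩ := gauss htg R hR
  have hS0 : S ≠ 0 := by
    rintro rfl
    exact hC (by rw [hCS, Matrix.mul_zero])
  -- the covector
  obtain ⟨φ, hφS, hφA⟩ := exists_aniso h2 (Matrix.toBilin' S) (fun x y => by
    rw [Matrix.toBilin'_apply', Matrix.toBilin'_apply', dotProduct_comm, Matrix.dotProduct_mulVec, ← Matrix.mulVec_transpose,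
      hS, dotProduct_comm]) (by
    intro h0
    apply hS0
    apply Matrix.toBilin'.injective
    rw [h0, map_zero]) (Matrix.vecMulLinear A) (fun c => by
    by_contra hcon
    push Not at hcon
    apply hAns c
    ext i j
    have h3 := congrFun (hcon (Pi.single i 1)) j
    rw [Matrix.vecMulLinear_apply, Matrix.single_one_vecMul] at h3
    rw [scalar_apply, diagonal_apply]
    change A i j = _ at h3
    rw [h3, Pi.smul_apply, Pi.single_apply, smul_eq_mul]
    by_cases hij : i = j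
    · simp [hij]
    · simp [hij, Ne.symm hij]) (by
    rw [Module.finrank_fintype_fun_eq_card, Fintype.card_fin]
    rcases hex with h | h
    · left; omega
    · exact Or.inr h)
  rw [Matrix.toBilin'_apply'] at hφS
  rw [Matrix.vecMulLinear_apply] at hφA
  have hφ0 : φ ≠ 0 := by
    rintro rfl
    exact hφS (by simp)
  obtain ⟨P, Q, hP, hQ, hPQ, a, ha0, haQ⟩ := exists_mul_conj_phi A hφ0 hφA X₀ hX₀ hXd B₀ hB₀ hBd 1 one_ne_zero
    (by rw [hB₀f]; exact hf₂1) hAdet
  obtain ⟨P', hP'⟩ := exists_gl hP.ne_zero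
  obtain ⟨Q', hQ'⟩ := exists_gl hQ.ne_zero
  have hinv : ∀ (W : Matrix (Fin (k + 2)) (Fin (k + 2)) F) (W' : GL (Fin (k + 2)) F),
      (W' : Matrix (Fin (k + 2)) (Fin (k + 2)) F) = W → ((W'⁻¹ : GL (Fin (k + 2)) F) : Matrix _ _ F) = W⁻¹ := by
    intro W W' h
    rw [← h]
    exact (Matrix.coe_units_inv W')
  have hRe : R = (P' * X * P'⁻¹) * (Q' * Z * Q'⁻¹) := by
    apply Units.ext
    simp only [Units.val_mul]
    rw [hR, hPQ, hinv P P' hP', hinv Q Q' hQ', hP', hQ', hX, hZ]
  -- the symmetric matrix in the new coordinates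
  obtain ⟨S', hS'⟩ : ∃ S', S' = ((Q'⁻¹ : GL (Fin (k + 2)) F) : Matrix (Fin (k + 2)) (Fin (k + 2)) F) * S *
    ((Q'⁻¹ : GL (Fin (k + 2)) F) : Matrix (Fin (k + 2)) (Fin (k + 2)) F)ᵀ := ⟨_, rfl⟩
  have hS's : S'ᵀ = S' := by
    rw [hS', transpose_mul, transpose_mul, transpose_transpose, hS, Matrix.mul_assoc]
  have hupS : (lv Q')⁻¹ * up S hS * lv Q' = up S' hS's := by
    have h3 := lv_up Q'⁻¹ hS
    rw [map_inv, inv_inv] at h3
    rw [h3]
    exact up_congr _ hS'.symm
  have hσ : S' 0 0 ≠ 0 := by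
    have h3 : (Pi.single 0 1 : Fin (k + 2) → F) ᵥ* ((Q'⁻¹ : GL (Fin (k + 2)) F) : Matrix _ _ F) = a⁻¹ • φ := by
      have h4 : (Pi.single 0 a : Fin (k + 2) → F) = a • (Pi.single 0 1 : Fin (k + 2) → F) := by
        rw [← Pi.single_smul, smul_eq_mul, mul_one]
      have h5 : (Pi.single 0 1 : Fin (k + 2) → F) = a⁻¹ • (φ ᵥ* Q) := by
        rw [haQ, h4, smul_smul, inv_mul_cancel₀ ha0, one_smul]
      rw [h5, Matrix.smul_vecMul, hinv Q Q' hQ', Matrix.vecMul_vecMul, Matrix.mul_nonsing_inv _ hQ,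
        Matrix.vecMul_one]
    have h4 : S' 0 0 = (a⁻¹ • φ) ⬝ᵥ (S *ᵥ (a⁻¹ • φ)) := by
      rw [← h3, hS', Matrix.mul_assoc, Matrix.mul_apply_eq_vecMul, Matrix.single_one_vecMul, Matrix.vecMul,
        dotProduct, dotProduct]
      exact Finset.sum_congr rfl fun i _ => rfl
    rw [h4, Matrix.mulVec_smul, dotProduct_smul, smul_dotProduct, smul_eq_mul, smul_eq_mul]
    exact mul_ne_zero (inv_ne_zero ha0) (mul_ne_zero (inv_ne_zero ha0) hφS)
  obtain ⟨σ, hσe⟩ : ∃ σ, σ = S' 0 0 := ⟨_, rfl⟩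
  rw [← hσe] at hσ
  -- the parameter
  obtain ⟨ν, hν⟩ : ∃ ν, ν = (t₀ - 2) / σ := ⟨_, rfl⟩
  obtain ⟨M, hM⟩ : ∃ M : SpecialLinearGroup (Fin 2) F, (M : Matrix (Fin 2) (Fin 2) F) =
      !![1, 1 * σ; ν * 1, ν * 1 * σ + 1⁻¹] := ⟨⟨_, by rw [Matrix.det_fin_two_of, inv_one]; ring⟩, rfl⟩
  have hMc : (M : Matrix (Fin 2) (Fin 2) F).charpoly = h := hcp _ M.det_coe (by
    rw [hM, Matrix.trace_fin_two_of, hν, inv_one]
    field_simp
    ring)
  have hbs : ∀ x : F, (blk x (0 : Matrix (Fin (k + 1)) (Fin (k + 1)) F))ᵀ = blk x 0 := fun x => by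
    rw [blk_transpose, transpose_zero]
  have hS''s : (S' - blk σ 0)ᵀ = S' - blk σ 0 := by rw [transpose_sub, hS's, hbs]
  have hup2 : up S' hS's = up (blk σ 0) (hbs σ) * up (S' - blk σ 0) hS''s := by
    rw [up_mul]
    exact up_congr _ (by abel)
  have hem := em_eq (ν := ν) (c := (1 : F)) (σ := σ) one_ne_zero (B := B) (Z := Z) (by rw [hZ, hB]) (M := M)
    (by rw [hM]; rfl) (by rw [hM]; rfl) (by rw [hM]; rfl) (by rw [hM]; rfl)
  obtain ⟨r₁, hr₁⟩ := conj_em_up (M := M) (B := B) (by rw [hB, hB₀f]; exact hf₂.cop)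
    (by rw [hB, hB₀f, hMc]; exact hf₂h) hS''s (by
      rw [Matrix.sub_apply, blk_zero_zero, hσe, sub_self])
  obtain ⟨W, hWd, hW⟩ := conj_two h2 (M := M) (M₀ := M₀) (cyc_of_irr (by norm_num) (by rw [hMc]; exact ht₀))
    (cyc_of_irr (by norm_num) (by rw [hM₀c]; exact ht₀)) M₀.det_coe (by rw [hMc, hM₀c]) (by rw [hM₀c]; exact ht₀)
  obtain ⟨W', hW'⟩ : ∃ W' : SpecialLinearGroup (Fin 2) F, W'.1 = W := ⟨⟨W, hWd⟩, rfl⟩
  have hWM : M = W' * M₀ * W'⁻¹ := by
    rw [eq_mul_inv_iff_mul_eq]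
    apply Subtype.ext
    show M.1 * W'.1 = W'.1 * M₀.1
    rw [hW']
    exact hW.symm
  have hemM : em (M, B) = em (W', 1) * em (M₀, B) * (em (W', 1))⁻¹ := by
    rw [← map_inv, ← map_mul, ← map_mul]
    congr 1
    ext1
    · exact hWM
    · show B = 1 * B * 1⁻¹
      group
  -- the two factors
  obtain ⟨l, hl⟩ : ∃ l, l = lv Q' * lo (blk ν 0) (hbs ν) * (lv Q')⁻¹ := ⟨_, rfl⟩
  have hlm : l ∈ Lo (k + 2) F := by rw [hl]; exact Lo_conj Q' (lo_mem _)
  obtain ⟨r₂, hr₂⟩ := conj_lo_lv (X := P' * X * P'⁻¹) (by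
    have h3 : ((P' * X * P'⁻¹ : GL (Fin (k + 2)) F) : Matrix (Fin (k + 2)) (Fin (k + 2)) F).charpoly = f₁ := by
      simp only [Units.val_mul]
      rw [Matrix.charpoly_mul_comm, ← Matrix.mul_assoc, ← Units.val_mul, inv_mul_cancel, Units.val_one, Matrix.one_mul,
        hX, hX₀f]
    rw [h3]
    exact hf₁.cop) (lo_mem hT) (inv_mem hlm)
  have e2 : t * g * t⁻¹ = (lo T hT * lv (P' * X * P'⁻¹) * l⁻¹) * (l * lv (Q' * Z * Q'⁻¹) * up S hS) := by
    rw [e, hRe, map_mul]; group
  have e3 : l * lv (Q' * Z * Q'⁻¹) * up S hS = (lv Q' * r₁ * em (W', 1)) * em (M₀, B) * (lv Q' * r₁ * em (W', 1))⁻¹ := by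
    have h3 : l * lv (Q' * Z * Q'⁻¹) * up S hS =
        lv Q' * (lo (blk ν 0) (hbs ν) * lv Z * ((lv Q')⁻¹ * up S hS * lv Q')) * (lv Q')⁻¹ := by
      rw [hl]; simp only [map_mul, map_inv]; group
    rw [h3, hupS, hup2, ← mul_assoc (lo (blk ν 0) (hbs ν) * lv Z), hem, hr₁, hemM]
    group
  have e4 : g = t⁻¹ * (t * g * t⁻¹) * t := by group
  refine ⟨t⁻¹ * r₂ * lv P', t⁻¹ * (lv Q' * r₁ * em (W', 1)), ?_⟩
  rw [e4, e2, hr₂, e3]
  simp only [map_mul, map_inv]
  group

section Even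

open Cfsg.Agent.H144 Cfsg.Agent.H649.PwSp Cfsg.Agent.S2445

/-! ### characteristic two -/

theorem c1_even [Finite F] (h2 : (2 : F) = 0) (g : G n F) : C1 (form F n) (actH n F g) := by
  obtain ⟨P, Q, R, -, -, -, -, -, -, -, -, -, hsup, hC, hex, -⟩ :=
    exists_dec (form_alt (F := F) (m := n)) (actH_iso g) _ ⊤ (fun v _ => trivial)
      (fun v _ h => form_nond v (fun w => h w trivial)) rfl
  rcases hex with ⟨h3, h4⟩ | ⟨h3, -⟩
  · rw [h3, h4, sup_bot_eq, sup_bot_eq] at hsup
    rw [hsup] at hC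
    obtain ⟨W, W', k1, k2, k3, k4⟩ := hC
    exact ⟨W, W', k1, k2, k3, k4⟩
  · exact absurd h2 h3

/-- Lagrangian decompositions are conjugate -/
theorem exists_frame {P Q : Submodule F (Fin n ⊕ Fin n → F)} (hP : Orth (form F n) P P) (hQ : Orth (form F n) Q Q)
    (hPQ : P ⊔ Q = ⊤) : ∃ t : G n F, (∀ a : Fin n → F, actH n F t (Sum.elim a 0) ∈ P) ∧
      (∀ b : Fin n → F, actH n F t (Sum.elim 0 b) ∈ Q) ∧
      ∀ v ∈ Q, ∃ b : Fin n → F, actH n F t (Sum.elim 0 b) = v := by
  classical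
  have hfV : finrank F (Fin n ⊕ Fin n → F) = 2 * n := by
    rw [Module.finrank_fintype_fun_eq_card, Fintype.card_sum, Fintype.card_fin]; ring
  have hf2 := finrank_two (form_alt (F := F) (m := n)) form_nond hP hQ hPQ
  have hfP : finrank F P = n := by omega
  have hfQ : finrank F Q = n := by rw [← finrank_eq form_alt form_nond hP hQ hPQ, hfP]
  let p : Basis (Fin n) F P := finBasisOfFinrankEq F P hfP
  let e₀ : Q →ₗ[F] Module.Dual F P := ((form F n).compl₁₂ P.subtype Q.subtype).flip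
  have he₀ : Function.Injective e₀ := by
    rw [← LinearMap.ker_eq_bot, LinearMap.ker_eq_bot']
    intro q hq
    have : (q : Fin n ⊕ Fin n → F) = 0 := by
      apply eq_zero_of_orth form_nond hPQ _ (hQ q q.2)
      intro w hw
      have := LinearMap.congr_fun hq ⟨w, hw⟩
      exact form_alt.zero this
    exact Subtype.ext this
  let e : Q ≃ₗ[F] Module.Dual F P := LinearEquiv.ofInjectiveOfFinrankEq e₀ he₀ (by
    rw [Subspace.dual_finrank_eq, hfP, hfQ])
  have he : ∀ (q : Q) (x : P), e q x = form F n x q := fun q x => rfl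
  let q : Fin n → Q := fun j => e.symm (-(p.coord j))
  have hpq : ∀ i j, form F n (p i) (q j) = -(if i = j then 1 else 0) := by
    intro i j
    rw [← he]
    show e (e.symm (-(p.coord j))) (p i) = _
    rw [e.apply_symm_apply, LinearMap.neg_apply, Basis.coord_apply, p.repr_self, Finsupp.single_apply]
  let w : Fin n ⊕ Fin n → (Fin n ⊕ Fin n → F) := Sum.elim (fun i => (p i : Fin n ⊕ Fin n → F))
    (fun j => (q j : Fin n ⊕ Fin n → F))
  have hw : ∀ s t, form F n (w s) (w t) = Matrix.J (Fin n) F s t := by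
    rintro (i | i) (j | j)
    · show form F n (p i) (p j) = _
      rw [hP _ (p i).2 _ (p j).2]; simp [Matrix.J]
    · show form F n (p i) (q j) = _
      rw [hpq]; simp [Matrix.J, Matrix.one_apply]
    · show form F n (q i) (p j) = _
      rw [form_alt.neg, hpq]; simp [Matrix.J, Matrix.one_apply, eq_comm]
    · show form F n (q i) (q j) = _
      rw [hQ _ (q i).2 _ (q j).2]; simp [Matrix.J]
  let T : (Fin n ⊕ Fin n → F) →ₗ[F] (Fin n ⊕ Fin n → F) := Fintype.linearCombination F w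
  have hT : ∀ v, T v = ∑ s, v s • w s := fun v => Fintype.linearCombination_apply F w v
  have hTf : ∀ x y, form F n (T x) (T y) = form F n x y := by
    have h1 : (form F n).comp T T = form F n := by
      apply (Pi.basisFun F (Fin n ⊕ Fin n)).ext
      intro s
      apply (Pi.basisFun F (Fin n ⊕ Fin n)).ext
      intro t
      have h3 : ∀ s, T (Pi.single s 1) = w s := fun s => by
        rw [hT, Finset.sum_eq_single s]
        · simp
        · intro j _ hj
          rw [Pi.single_eq_of_ne hj, zero_smul]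
        · intro h; exact absurd (Finset.mem_univ s) h
      rw [LinearMap.BilinForm.comp_apply, Pi.basisFun_apply, Pi.basisFun_apply, h3, h3, hw, form,
        Matrix.toBilin'_single]
    intro x y
    rw [← LinearMap.BilinForm.comp_apply, h1]
  have hTi : Function.Injective T := by
    rw [← LinearMap.ker_eq_bot, LinearMap.ker_eq_bot']
    intro x hx
    apply form_nond x
    intro y
    rw [← hTf, hx, map_zero, LinearMap.zero_apply]
  let T' : (Fin n ⊕ Fin n → F) ≃ₗ[F] (Fin n ⊕ Fin n → F) := LinearEquiv.ofInjectiveEndo T hTi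
  have hT' : ∀ v, T' v = T v := fun v => rfl
  have hTiso : Iso (form F n) T' := fun x y => hTf x y
  obtain ⟨t, ht⟩ : ∃ t : G n F, ∀ v, actH n F t v = T v := by
    refine ⟨⟨_, mem_of_iso hTiso⟩, fun v => ?_⟩
    rw [actH_apply, LinearMap.toMatrix'_mulVec]
    rfl
  have h1 : ∀ a : Fin n → F, T (Sum.elim a 0) ∈ P := by
    intro a
    rw [hT, Fintype.sum_sum_type]
    simp only [Sum.elim_inl, Sum.elim_inr, Pi.zero_apply, zero_smul, Finset.sum_const_zero, add_zero]
    exact Submodule.sum_mem _ fun i _ => P.smul_mem _ (p i).2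
  have h3 : ∀ b : Fin n → F, T (Sum.elim 0 b) ∈ Q := by
    intro a
    rw [hT, Fintype.sum_sum_type]
    simp only [Sum.elim_inl, Sum.elim_inr, Pi.zero_apply, zero_smul, Finset.sum_const_zero, zero_add]
    exact Submodule.sum_mem _ fun i _ => Q.smul_mem _ (q i).2
  refine ⟨t, fun a => by rw [ht]; exact h1 a, fun b => by rw [ht]; exact h3 b, fun v hv => ?_⟩
  obtain ⟨a, b, hab⟩ : ∃ a b : Fin n → F, T'.symm v = Sum.elim a b :=
    ⟨T'.symm v ∘ Sum.inl, T'.symm v ∘ Sum.inr, by simp⟩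
  have h4 : T (Sum.elim a b) = v := by
    rw [← hab]
    exact T'.apply_symm_apply v
  have h5 : a = 0 := by
    ext j
    have h6 := hTf (Sum.elim a b) (Sum.elim 0 (Pi.single j 1))
    rw [h4, hQ v hv _ (h3 _), form_elim] at h6
    simpa only [_root_.Pi.zero_apply, _root_.dotProduct_zero, _root_.dotProduct_single, _root_.mul_one, _root_.zero_sub, _root_.zero_eq_neg] using h6
  refine ⟨b, ?_⟩
  rw [ht, ← h4, h5]

/-- every element is conjugate to a product `lo * up` -/
theorem exists_lo_up [Finite F] (h2 : (2 : F) = 0) (g : G n F) : ∃ (t : G n F) (T S : Matrix (Fin n) (Fin n) F)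
    (hT : Tᵀ = T) (hS : Sᵀ = S), t * g * t⁻¹ = lo T hT * up S hS := by
  obtain ⟨P, Q, hP, hQ, hPQ, hg⟩ := c1_even h2 g
  obtain ⟨t, h1, h3, h4⟩ := exists_frame hP hQ hPQ
  obtain ⟨A, B, C, D, h⟩ : ∃ A B C D : Matrix (Fin n) (Fin n) F,
      ((t⁻¹ * g * t : G n F) : Matrix _ _ F) = fromBlocks A B C D := ⟨_, _, _, _, (fromBlocks_toBlocks _).symm⟩
  have hA : A = 1 := by
    have key : ∀ a : Fin n → F, A *ᵥ a = a := by
      intro a
      have h5 := hg _ (h1 a)
      obtain ⟨b, hb⟩ := h4 _ h5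
      have h6 : actH n F (t⁻¹ * g * t) (Sum.elim a 0) = Sum.elim a 0 + Sum.elim (0 : Fin n → F) b := by
        have h7 : actH n F g (actH n F t (Sum.elim a 0)) = actH n F t (Sum.elim a 0 + Sum.elim (0 : Fin n → F) b) := by
          rw [map_add, hb]; abel
        rw [map_mul, map_mul, map_inv, LinearEquiv.mul_apply, LinearEquiv.mul_apply, h7]
        exact (actH n F t).symm_apply_apply _
      rw [actH_apply, h, fromBlocks_mulVec, Sum.elim_comp_inl, Sum.elim_comp_inr] at h6
      ext i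
      have h7 := congrFun h6 (Sum.inl i)
      simpa using h7
    apply Matrix.toLin'.injective
    apply LinearMap.ext
    intro a
    rw [toLin'_apply, toLin'_apply, key, Matrix.one_mulVec]
  obtain ⟨T, S, hT, hS, e, -, -⟩ := gauss h 1 (by rw [hA]; rfl)
  refine ⟨t⁻¹, T, S, hT, hS, ?_⟩
  rw [inv_inv, e, map_one, mul_one]

/-- **`Sp`, characteristic two** -/
theorem two_sp_even [Finite F] (h2 : (2 : F) = 0) (hn : 2 ≤ n) (hex : 3 ≤ n ∨ 3 ≤ Nat.card F) :
    ∃ x₀ y₀ : G n F, ∀ g : G n F, ∃ u v : G n F, g = (u * x₀ * u⁻¹) * (v * y₀ * v⁻¹) := by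
  obtain ⟨f, hf, -⟩ := exists_rp_gen F hn hex
  obtain ⟨X₀, hX₀f, hX₀, -⟩ := exists_mat (d := n) hn hf
  have hXd : X₀.det ≠ 0 := det_ne_zero_iff.2 (by rw [hX₀f]; exact hf.coeff_ne hn)
  obtain ⟨X, hX⟩ := exists_gl hXd
  have hcop : IsCoprime (X : Matrix (Fin n) (Fin n) F).charpoly (X : Matrix (Fin n) (Fin n) F).charpoly.reverse := by
    rw [hX, hX₀f]; exact hf.cop
  refine ⟨lv X, (lv X)⁻¹, fun g => ?_⟩
  obtain ⟨t, T, S, hT, hS, e⟩ := exists_lo_up h2 g
  obtain ⟨r, hr⟩ := conj_lo_lv hcop (lo_mem hT) (one_mem _)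
  obtain ⟨s, hs⟩ := conj_up_lv hcop (inv_mem (up_mem hS)) (one_mem _)
  rw [mul_one] at hr hs
  have hs' : (lv X)⁻¹ * up S hS = s * (lv X)⁻¹ * s⁻¹ := by
    have := congrArg (fun x => x⁻¹) hs
    simp only [_root_.mul_inv_rev, inv_inv] at this
    rw [this]
    group
  refine ⟨t⁻¹ * r, t⁻¹ * s, ?_⟩
  have e2 : g = t⁻¹ * ((lo T hT * lv X) * ((lv X)⁻¹ * up S hS)) * t := by
    have e3 : (lo T hT * lv X) * ((lv X)⁻¹ * up S hS) = t * g * t⁻¹ := by rw [e]; group
    rw [e3]; group
  rw [e2, hr, hs']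
  group

end Even

/-! ### the groups -/

theorem tc_of_two_sp {m : ℕ} (h : ∃ x₀ y₀ : G m F, ∀ g : G m F, g ∉ Subgroup.center (G m F) →
    ∃ u v : G m F, g = (u * x₀ * u⁻¹) * (v * y₀ * v⁻¹)) : TC (Cfsg.PSp m F) := by
  obtain ⟨x₀, y₀, h⟩ := h
  refine ⟨QuotientGroup.mk x₀, QuotientGroup.mk y₀, fun g hg => ?_⟩
  obtain ⟨g, rfl⟩ := QuotientGroup.mk_surjective g
  obtain ⟨u, v, e⟩ := h g (fun hc => hg ((QuotientGroup.eq_one_iff g).2 hc))
  refine ⟨QuotientGroup.mk u, QuotientGroup.mk v, ?_⟩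
  conv_lhs => rw [e]
  rfl

end Cfsg.Agent.H140.TC.Sp

namespace Cfsg.Agent.H140.TC

open Cfsg.Agent.H140.TC.Sp

/-- **`PSp_2m(F)`**, except `PSp_4(3)` -/
theorem tc_psp {m : ℕ} (hm : 2 ≤ m) (F : Type*) [Field F] [Finite F] (hex : 3 ≤ m ∨ 4 ≤ Nat.card F) :
    TC (Cfsg.PSp m F) := by
  apply tc_of_two_sp
  by_cases h2 : (2 : F) = 0
  · obtain ⟨x₀, y₀, h⟩ := two_sp_even (n := m) h2 hm (by omega)
    exact ⟨x₀, y₀, fun g _ => h g⟩
  · obtain ⟨k, rfl⟩ : ∃ k, m = k + 2 := ⟨m - 2, by omega⟩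
    refine two_sp_odd h2 ?_
    rcases hex with h | h
    · left; omega
    · right
      by_contra hcon
      push Not at hcon
      classical
      have := Fintype.ofFinite F
      have h1 : (Finset.univ : Finset F) ⊆ {0, 1, -1} := by
        intro x _
        simp only [Finset.mem_insert, Finset.mem_singleton]
        by_cases hx : x = 0
        · exact Or.inl hx
        · right
          have h2 := hcon x hx
          have h3 : (x - 1) * (x + 1) = 0 := by linear_combination h2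
          rcases mul_eq_zero.1 h3 with h | h
          · exact Or.inl (sub_eq_zero.1 h)
          · exact Or.inr (eq_neg_of_add_eq_zero_left h)
      have h2 := Finset.card_le_card h1
      rw [Finset.card_univ, ← Nat.card_eq_fintype_card] at h2
      have h3 : ({0, 1, -1} : Finset F).card ≤ 3 := Finset.card_le_three
      omega

end Cfsg.Agent.H140.TC
end

private theorem dce_1aadcc3c39e3 : _root_.True := by
  try have : _root_.True := by simp only [_root_.Cfsg.Agent.H140.TC.Sp.iE.eq_1]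
  try have : _root_.True := by simp only [_root_.Cfsg.Agent.H140.TC.Sp.iH.eq_1]
  try have : _root_.True := by simp only [_root_.Cfsg.Agent.H140.TC.Sp.iQ.eq_1]
  exact _root_.True.intro
end

-- part: H950/TC/Psu_mg
section
prune_inst 0xe00006010000020000040000400060815900000000000000088408040300a0020000800000000008200200000000002811000020420000000a0c0400000000001080000020004091020008000008615000189040000000000000000000010000004010000
set_option linter.all false
open scoped Cfsg.Agent.FastGrp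

-- part: H950/TC/Conj
section
/-!
# S4173 for `PSU_n(q)` (helper950): the Levi elements with the same irreducible characteristic polynomial are conjugate,
and the criterion with an explicit element
-/

set_option autoImplicit false
set_option linter.unusedSectionVars false

namespace Cfsg.Agent.H950.TC

open Module Polynomial Cfsg.Agent.H951 Matrix Cfsg.Agent.H98.Ore Cfsg.Agent.H950.War

variable {F V : Type*} [Field F] [Fintype F] [AddCommGroup V] [Module F V] [FiniteDimensional F V]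
  {q : ℕ} {σ : F →+* F} {B : V → V → F}

/-- `x` is a Levi element with matrix `Z` on a frame -/
structure Lv (B : V → V → F) {ι : Type} [Fintype ι] [DecidableEq ι] (w w' : ι → V) (Z : Matrix ι ι F)
    (x : V ≃ₗ[F] V) : Prop where
  fr : Fr B w w'
  mem : x ∈ SGr B
  xw : ∀ j, x (w j) = ∑ i, Z i j • w i

/-- reindexing -/
theorem Lv.reindex {ι κ : Type} [Fintype ι] [DecidableEq ι] [Fintype κ] [DecidableEq κ] (e : κ ≃ ι)
    {w w' : ι → V} {Z : Matrix ι ι F} {x : V ≃ₗ[F] V} (h : Lv B w w' Z x) :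
    Lv B (w ∘ e) (w' ∘ e) (Z.submatrix e e) x := by
  refine ⟨⟨fun i j => h.fr.ww _ _, fun i j => ?_, fun i j => h.fr.ww' _ _⟩, h.mem, fun j => ?_⟩
  · show B (w (e i)) (w' (e j)) = _
    rw [h.fr.dual]
    by_cases hij : i = j
    · rw [if_pos hij, if_pos (by rw [hij])]
    · rw [if_neg hij, if_neg (fun h' => hij (e.injective h'))]
  · show x (w (e j)) = _
    rw [h.xw, ← Equiv.sum_comp e]
    rfl

theorem det_ne_of_irr {m : ℕ} (hm : 0 < m) {Z : Matrix (Fin m) (Fin m) F} (h0 : Z.charpoly.coeff 0 ≠ 0) : Z.det ≠ 0 := by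
  rw [Matrix.det_eq_sign_charpoly_coeff]
  exact mul_ne_zero (pow_ne_zero _ (neg_ne_zero.2 one_ne_zero)) h0

/-- **two Levi elements with the same irreducible characteristic polynomial are conjugate** -/
theorem conj_fin (hB : HS q σ B) {e : ℕ} (he : e ≤ 1) {m : ℕ} (hm : 0 < m) (hn : finrank F V = 2 * m + e)
    {w w' v v' : Fin m → V} {Z Z' : Matrix (Fin m) (Fin m) F} {x y : V ≃ₗ[F] V} (hx : Lv B w w' Z x)
    (hy : Lv B v v' Z' y) (hirr : Irreducible Z'.charpoly) (h0 : Z'.charpoly.coeff 0 ≠ 0)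
    (hch : Z.charpoly = Z'.charpoly)
    (hcop : IsCoprime Z'.charpoly (Z'.charpoly.map σ).reverse)
    (hc : e = 1 → Z'.charpoly.eval (σ Z'.det * Z'.det⁻¹) ≠ 0) : ∃ u ∈ SGr B, y = u * x * u⁻¹ := by
  have hn' : finrank F V = 2 * Fintype.card (Fin m) + e := by rw [Fintype.card_fin]; exact hn
  have hZ0 : Z'.det ≠ 0 := det_ne_of_irr hm h0
  obtain ⟨T, hTu, hT⟩ : ∃ T : Matrix (Fin m) (Fin m) F, T.det ≠ 0 ∧ Z * T = T * Z' := by
    obtain ⟨P, hP, h⟩ := Cfsg.Agent.H962.PP.conj_of_cyc (Cfsg.Agent.H140.TC.cyc_of_irr hm hirr)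
      (Cfsg.Agent.H140.TC.cyc_of_irr hm (by rw [hch]; exact hirr)) hch.symm
    refine ⟨P, hP.ne_zero, ?_⟩
    rw [h, mul_assoc, Matrix.nonsing_inv_mul _ hP, mul_one]
  -- the isometry
  obtain ⟨z, hz1, hz2, T', hT', hzv⟩ : ∃ z : End F V, Isom B z ∧ LinearMap.det z = 1 ∧
      ∃ T' : Matrix (Fin m) (Fin m) F, Z * T' = T' * Z' ∧ ∀ j, z (v j) = ∑ i, T' i j • w i := by
    obtain ⟨z, hz, hzv, hzv', hzd⟩ := exists_isom hB he hn' hy.fr (hx.fr.trans hB (ist_dual hB hTu))
    rcases Nat.le_one_iff_eq_zero_or_eq_one.1 he with h0' | h0'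
    · subst h0'
      have hδ := Isom.det_norm hB hz
      rw [hB.sig] at hδ
      obtain ⟨s, hs0, hs⟩ := Cfsg.Agent.H105.SzU.hilbert90 hB.card hδ
      have hmin : minpoly F Z' = Z'.charpoly := by
        have : Nonempty (Fin m) := ⟨⟨0, hm⟩⟩
        have h1 : minpoly F Z' ∣ Z'.charpoly := Matrix.minpoly_dvd_charpoly Z'
        have h2 : ¬ IsUnit (minpoly F Z') := minpoly.not_isUnit F Z'
        have h3 := (hirr.dvd_iff.1 h1).resolve_left h2
        exact Polynomial.eq_of_monic_of_associated (minpoly.monic (Algebra.IsIntegral.isIntegral Z')) Z'.charpoly_monic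
          h3.symm
      obtain ⟨g, hg⟩ := Cfsg.Agent.H809.SelfCent.exists_det_eq hm (M := Z') (by rw [hmin]; exact hirr)
        (by rw [hmin, Matrix.charpoly_natDegree_eq_dim, Fintype.card_fin]) s⁻¹
      set C := aeval Z' g with hC
      have hCdet : C.det ≠ 0 := by rw [hg]; exact inv_ne_zero hs0
      obtain ⟨l, hl, hlv, hlv', -⟩ := exists_isom hB he hn' hy.fr (hy.fr.trans hB (ist_dual hB hCdet))
      have hld := det_even hB (by rw [hn', add_zero]) hy.fr hl hCdet hlv
      have hcomm : Z' * C = C * Z' := by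
        have h1 : Z' * C = aeval Z' (X * g) := by rw [map_mul, aeval_X]
        have h2 : C * Z' = aeval Z' (g * X) := by rw [map_mul, aeval_X]
        rw [h1, h2, mul_comm]
      refine ⟨z * l, fun a b => ?_, ?_, T * C, ?_, fun j => ?_⟩
      · show B (z (l a)) (z (l b)) = _
        rw [hz, hl]
      · rw [map_mul]
        have h1 : LinearMap.det l = s⁻¹ * (σ s⁻¹)⁻¹ := by
          rw [hg] at hld
          exact (eq_mul_inv_iff_mul_eq₀ ((map_ne_zero σ).2 (inv_ne_zero hs0))).2 hld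
        rw [h1, map_inv₀, inv_inv]
        have h2 : σ s ≠ 0 := (map_ne_zero σ).2 hs0
        have h3 : s = LinearMap.det z * σ s := by rw [hB.sig]; exact hs
        calc LinearMap.det z * (s⁻¹ * σ s) = (LinearMap.det z * σ s) * s⁻¹ := by ring
          _ = 1 := by rw [← h3, mul_inv_cancel₀ hs0]
      · rw [← mul_assoc, hT, mul_assoc, hcomm, mul_assoc]
      · show z (l (v j)) = _
        rw [hlv, map_sum]
        simp only [map_smul, hzv, Finset.smul_sum, smul_smul]
        rw [Finset.sum_comm]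
        simp only [← Finset.sum_smul]
        refine Finset.sum_congr rfl fun i _ => ?_
        rw [Matrix.mul_apply]
        congr 1
        exact Finset.sum_congr rfl fun k _ => mul_comm _ _
    · exact ⟨z, hz, hzd h0', T, hT, hzv⟩
  set zz : V ≃ₗ[F] V := LinearEquiv.ofInjectiveEndo z (Isom.inj' hB hz1) with hzdef
  have hz0 : (zz : V →ₗ[F] V) = z := by ext v; rfl
  have hzm : zz ∈ SGr B := mem_SGr.2 ⟨hz1, by rw [hz0, hz2]⟩
  have hzz : ∀ j, zz (v j) = ∑ i, T' i j • w i := hzv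
  have hx' : (zz⁻¹ * x * zz) ∈ SGr B := (SGr B).mul_mem ((SGr B).mul_mem ((SGr B).inv_mem hzm) hx.mem) hzm
  have hxv : ∀ j, (zz⁻¹ * x * zz) (v j) = ∑ i, Z' i j • v i := by
    intro j
    have h1 : x (zz (v j)) = zz (∑ i, Z' i j • v i) := by
      rw [hzz, map_sum, map_sum]
      simp only [map_smul, hx.xw, hzz, Finset.smul_sum, smul_smul]
      rw [Finset.sum_comm]
      conv_rhs => rw [Finset.sum_comm]
      simp only [← Finset.sum_smul]
      refine Finset.sum_congr rfl fun i _ => ?_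
      congr 1
      have h2 := congrFun (congrFun hT' i) j
      rw [Matrix.mul_apply, Matrix.mul_apply] at h2
      calc ∑ k, T' k j * Z i k = ∑ k, Z i k * T' k j := Finset.sum_congr rfl fun k _ => mul_comm _ _
        _ = ∑ k, T' i k * Z' k j := h2
        _ = _ := Finset.sum_congr rfl fun k _ => mul_comm _ _
    show zz⁻¹ (x (zz (v j))) = _
    rw [h1]
    exact zz.symm_apply_apply _
  have hfw : ∀ j, aeval ((zz⁻¹ * x * zz : V ≃ₗ[F] V) : End F V) Z'.charpoly (v j) = 0 := by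
    intro j
    rw [aeval_frame (x := ((zz⁻¹ * x * zz : V ≃ₗ[F] V) : End F V)) hxv, Matrix.aeval_self_charpoly]
    simp only [_root_.Matrix.zero_apply, _root_.zero_smul, _root_.Finset.sum_const_zero]
  obtain ⟨u, hu, hyu⟩ := conj_same hB he hn' hy.fr hx' hy.mem hZ0 hxv hy.xw hfw hcop hc
  refine ⟨u * zz⁻¹, (SGr B).mul_mem hu ((SGr B).inv_mem hzm), ?_⟩
  rw [hyu]
  group

/-- the version with an arbitrary index type -/
theorem conj_any {ι : Type} [Fintype ι] [DecidableEq ι] (hB : HS q σ B) {e : ℕ} (he : e ≤ 1) {m : ℕ} (hm : 0 < m)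
    (hn : finrank F V = 2 * m + e) (hι : Fintype.card ι = m)
    {w w' : ι → V} {v v' : Fin m → V} {Z : Matrix ι ι F} {Z' : Matrix (Fin m) (Fin m) F} {x y : V ≃ₗ[F] V}
    (hx : Lv B w w' Z x)
    (hy : Lv B v v' Z' y) (hirr : Irreducible Z'.charpoly) (h0 : Z'.charpoly.coeff 0 ≠ 0)
    (hch : Z.charpoly = Z'.charpoly)
    (hcop : IsCoprime Z'.charpoly (Z'.charpoly.map σ).reverse)
    (hc : e = 1 → Z'.charpoly.eval (σ Z'.det * Z'.det⁻¹) ≠ 0) : ∃ u ∈ SGr B, y = u * x * u⁻¹ := by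
  have e0 : Fin m ≃ ι := (Fintype.equivFinOfCardEq hι).symm
  refine conj_fin hB he hm hn (hx.reindex e0) hy hirr h0 ?_ hcop hc
  rw [← hch]
  exact Matrix.charpoly_reindex e0.symm Z

/-- **the criterion**, with the element -/
theorem criterionC {ι : Type} [Fintype ι] [DecidableEq ι] (hB : HS q σ B) {G : V ≃ₗ[F] V} (hGmem : G ∈ SGr B)
    (hι : finrank F V = 2 * Fintype.card ι ∨ finrank F V = 2 * Fintype.card ι + 1) {P Z h : Matrix ι ι F}
    (hP : Cor B (G : End F V) P) (hPZ : P * Z * h = h * Z) (hh : h.det = 1) (hZ0 : Z.det ≠ 0)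
    (hZ : finrank F V = 2 * Fintype.card ι → σ Z.det = Z.det)
    (h1 : IsCoprime Z.charpoly (Z.charpoly.map σ).reverse)
    (h2 : Z.charpoly.eval (σ Z.det * Z.det⁻¹) ≠ 0) :
    ∃ (w w' : ι → V) (x : V ≃ₗ[F] V), Lv B w w' Z x ∧ ∃ a ∈ SGr B, ∃ b ∈ SGr B, G = a * x * a⁻¹ * (b * x⁻¹ * b⁻¹) := by
  obtain ⟨w, w', hw, hPw⟩ := hP
  obtain ⟨e, he, hn⟩ : ∃ e, e ≤ 1 ∧ finrank F V = 2 * Fintype.card ι + e := by
    rcases hι with h3 | h3
    · exact ⟨0, by norm_num, by omega⟩
    · exact ⟨1, le_rfl, h3⟩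
  have hPZ0 : (P * Z).det ≠ 0 := by
    have h3 := congrArg Matrix.det hPZ
    rw [Matrix.det_mul, Matrix.det_mul h, hh, mul_one, one_mul] at h3
    rw [h3]; exact hZ0
  have hh0 : h.det ≠ 0 := by rw [hh]; exact one_ne_zero
  have hGg : ∀ v, B (G v) = B ((G : End F V) v) := fun v => rfl
  -- the frame for z
  have hfr : Fr B (fun j => ∑ i, Z i j • w i) (fun j => G⁻¹ (∑ i, ist σ (P * Z) i j • w' i)) := by
    have hGG : ∀ v, G (G⁻¹ v) = v := fun v => by
      rw [← LinearEquiv.mul_apply, mul_inv_cancel]; rfl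
    have hg := (mem_SGr.1 hGmem).1
    refine ⟨fun i j => ?_, fun i j => ?_, fun i j => ?_⟩
    · rw [sum_left' hB]
      simp only [sum_right' hB]
      simp only [hw.ww, _root_.MulZeroClass.mul_zero, _root_.Finset.sum_const_zero]
    · rw [← hg, hGG, map_sum]
      simp only [map_smul]
      rw [sum_left' hB]
      simp only [sum_right' hB]
      have hPw' : ∀ i j, B (G (w j)) (w' i) = P i j := hPw
      simp only [hPw']
      rw [← ist_dual hB hPZ0 i j]
      simp only [Matrix.mul_apply, Finset.sum_mul, Finset.mul_sum]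
      rw [Finset.sum_comm]
      refine Finset.sum_congr rfl fun k _ => Finset.sum_congr rfl fun m _ => ?_
      ring
    · rw [← hg, hGG, hGG, sum_left' hB]
      simp only [sum_right' hB]
      simp only [hw.ww', _root_.MulZeroClass.mul_zero, _root_.Finset.sum_const_zero]
  -- the isometries
  obtain ⟨z₀, hz, hzw, hzw', hzd⟩ := exists_isom hB he hn hw hfr
  obtain ⟨x, hxm, hxw1, hxw1'⟩ := exists_lev hB he hn hw hZ0 (fun h0 => hZ (by rw [hn, h0, add_zero]))
  obtain ⟨k, hkm, -, hkw1'⟩ := exists_lev hB he hn hw hh0 (fun _ => by rw [hh, map_one])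
  have hzd1 : LinearMap.det z₀ = 1 := by
    rcases Nat.le_one_iff_eq_zero_or_eq_one.1 he with h0 | h0
    · have h3 := det_even hB (by rw [hn, h0, add_zero]) hw hz hZ0 hzw
      rw [hZ (by rw [hn, h0, add_zero])] at h3
      exact mul_right_cancel₀ hZ0 (by rw [h3, one_mul])
    · exact hzd h0
  set z : V ≃ₗ[F] V := LinearEquiv.ofInjectiveEndo z₀ (Isom.inj' hB hz) with hzdef
  have hz0 : (z : V →ₗ[F] V) = z₀ := by ext v; rfl
  have hzm : z ∈ SGr B := mem_SGr.2 ⟨hz, by rw [hz0, hzd1]⟩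
  have hzw1 : ∀ j, z (w j) = ∑ i, Z i j • w i := hzw
  have hzw1' : ∀ j, z (w' j) = G⁻¹ (∑ i, ist σ (P * Z) i j • w' i) := hzw'
  have hfw : ∀ j, aeval (x : End F V) Z.charpoly (w j) = 0 := by
    intro j
    rw [aeval_frame (x := (x : End F V)) hxw1, Matrix.aeval_self_charpoly]
    simp
  obtain ⟨u₁, hu₁, hzu⟩ := conj_same hB he hn hw hxm hzm hZ0 hxw1 hzw1 hfw h1 (fun _ => h2)
  -- the second conjugation
  set y : V ≃ₗ[F] V := k⁻¹ * (G * z) * k with hydef
  have hym : y ∈ SGr B :=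
    (SGr B).mul_mem ((SGr B).mul_mem ((SGr B).inv_mem hkm) ((SGr B).mul_mem hGmem hzm)) hkm
  have hcomp : ∀ (X Y : Matrix ι ι F) (a : V ≃ₗ[F] V), (∀ j, a (w' j) = ∑ i, X i j • w' i) →
      ∀ j, a (∑ i, Y i j • w' i) = ∑ i, (X * Y) i j • w' i := by
    intro X Y a ha j
    rw [map_sum]
    simp only [map_smul, ha, Finset.smul_sum, smul_smul]
    rw [Finset.sum_comm]
    simp only [← Finset.sum_smul]
    refine Finset.sum_congr rfl fun i _ => ?_
    rw [Matrix.mul_apply]
    congr 1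
    exact Finset.sum_congr rfl fun k _ => mul_comm _ _
  have hGz : ∀ j, (G * z) (w' j) = ∑ i, ist σ (P * Z) i j • w' i := by
    intro j
    rw [LinearEquiv.mul_apply, hzw1', ← LinearEquiv.mul_apply, mul_inv_cancel]
    rfl
  have hyw' : ∀ j, y (w' j) = ∑ i, ist σ Z i j • w' i := by
    intro j
    have h3 : k (∑ i, ist σ Z i j • w' i) = (G * z) (k (w' j)) := by
      rw [hcomp _ _ k hkw1', hkw1', hcomp _ _ (G * z) hGz, ← ist_mul, ← ist_mul, hPZ]
    rw [hydef, LinearEquiv.mul_apply, LinearEquiv.mul_apply, ← h3, ← LinearEquiv.mul_apply, inv_mul_cancel]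
    rfl
  have hcoeff : Z.charpoly.coeff 0 ≠ 0 := by
    intro h0
    apply hZ0
    rw [Matrix.det_eq_sign_charpoly_coeff, h0, mul_zero]
  have hxinv : (x : End F V) * ((x⁻¹ : V ≃ₗ[F] V) : End F V) = 1 := by
    ext v
    change x (x⁻¹ v) = v
    rw [← LinearEquiv.mul_apply, mul_inv_cancel]; rfl
  have hxinv' : ((x⁻¹ : V ≃ₗ[F] V) : End F V) * (x : End F V) = 1 := by
    ext v
    change x⁻¹ (x v) = v
    rw [← LinearEquiv.mul_apply, inv_mul_cancel]; rfl
  have hx : Isom B (x : End F V) := (mem_SGr.1 hxm).1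
  have hfw' : ∀ j, aeval (x : End F V) (Z.charpoly.map σ).reverse (w' j) = 0 := by
    intro j
    have h3 := aeval_frame (x := (x : End F V)) (w := w') hxw1' (Z.charpoly.map σ).reverse j
    rw [h3]
    apply Finset.sum_eq_zero
    intro i _
    have h4 : B (aeval (x : End F V) (Z.charpoly.map σ).reverse (w' j)) (w i) = 0 := by
      rw [B_aeval hB (x := (x : End F V)) hx hxinv, map_rev_map hB.ss, aeval_reverse' hxinv', Module.End.mul_apply, hfw, map_zero,
        hB.zero_right]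
    rw [h3, sum_left' hB] at h4
    simp only [hw.dual' hB, mul_ite, mul_one, mul_zero, Finset.sum_ite_eq', Finset.mem_univ, if_true] at h4
    rw [h4, zero_smul]
  have hσZ0 : σ Z.det ≠ 0 := (map_ne_zero σ).2 hZ0
  have hist0 : (ist σ Z).det ≠ 0 := by
    rw [det_ist, map_inv₀]
    exact inv_ne_zero hσZ0
  obtain ⟨u₂, hu₂, hyu⟩ := conj_same hB he hn (hw.swap hB) hxm hym hist0 hxw1' hyw' hfw' (by
    rw [map_rev_map hB.ss, reverse_reverse' hcoeff]
    exact h1.symm) (by
    intro _ h3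
    apply h2
    rw [det_ist, map_inv₀, inv_inv, map_inv₀, hB.ss] at h3
    set c := σ Z.det * Z.det⁻¹ with hcdef
    have hc0 : c ≠ 0 := mul_ne_zero hσZ0 (inv_ne_zero hZ0)
    have h4 : (Z.det)⁻¹ * σ Z.det = c := mul_comm _ _
    rw [h4] at h3
    let _ : Invertible c⁻¹ := invertibleOfNonzero (inv_ne_zero hc0)
    have h5 := eval₂_reverse_eq_zero_iff (RingHom.id F) (c⁻¹) (Z.charpoly.map σ)
    have h6 : (⅟(c⁻¹) : F) = c := by rw [invOf_eq_inv, inv_inv]
    rw [h6, ← eval, h3, eq_self_iff_true, true_iff, ← eval, eval_map] at h5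
    have h7 : c⁻¹ = σ c := by
      rw [hcdef, map_mul, map_inv₀, hB.ss, mul_inv, inv_inv, mul_comm]
    rw [h7, eval₂_at_apply] at h5
    exact (map_eq_zero σ).1 h5)
  -- assemble
  refine ⟨w, w', x, ⟨hw, hxm, hxw1⟩, k * u₂, (SGr B).mul_mem hkm hu₂, u₁, hu₁, ?_⟩
  have h3 : G * z = k * y * k⁻¹ := by rw [hydef]; group
  have h5 : G = (k * y * k⁻¹) * z⁻¹ := by rw [← h3]; group
  rw [h5, hyu, hzu]
  group

end Cfsg.Agent.H950.TC
end

-- part: H950/TC/Poly
section
/-!
# S4173 for `PSU_n(q)` (helper950): a polynomial whose roots have prime order `r ≥ 5`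
-/

set_option autoImplicit false

namespace Cfsg.Agent.H950.TC

open Module Polynomial Matrix Cfsg.Agent.H117.OrePoly Cfsg.Agent.H950.War Cfsg.Agent.H689

/-- the prime -/
theorem exists_r {q m : ℕ} (hq : 2 ≤ q) (hm : 2 ≤ m) : ∃ r, r.Prime ∧ 5 ≤ r ∧ ¬ r ∣ q ^ 2 - 1 ∧ r ∣ (q ^ 2) ^ m - 1 ∧
    (∀ d, 0 < d → d ∣ m → r ∣ (q ^ 2) ^ d - 1 → d = m) ∧ (∀ j, ¬ r ∣ q ^ (2 * j + 1) + 1) ∧
    ((Even m ∧ r ∣ q ^ m + 1) ∨ (Odd m ∧ r ∣ q ^ m - 1)) := by
  rcases Nat.even_or_odd m with he | ho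
  · obtain ⟨r, hr⟩ := exists_ppd hq (k := 2 * m) (by omega) (by
      rintro ⟨-, h⟩
      obtain ⟨s, hs⟩ := he
      omega)
    have h5 : 5 ≤ r := by
      have := hr.le (by omega)
      omega
    refine ⟨r, hr.prime, h5, ?_, ?_, ?_, ?_, Or.inl ⟨he, hr.dvd_add_one (by omega)⟩⟩
    · rw [hr.iff]
      intro h
      have := Nat.le_of_dvd (by norm_num) h
      omega
    · rw [← pow_mul, hr.iff]
    · intro d hd hdm h
      rw [← pow_mul, hr.iff] at h
      exact Nat.dvd_antisymm hdm (Nat.dvd_of_mul_dvd_mul_left (by norm_num) h)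
    · intro j h
      have h1 : r ∣ q ^ (2 * (2 * j + 1)) - 1 := by
        have h2 : q ^ (2 * (2 * j + 1)) - 1 = (q ^ (2 * j + 1) + 1) * (q ^ (2 * j + 1) - 1) := by
          rw [mul_comm 2, pow_mul]
          have : 1 ≤ q ^ (2 * j + 1) := Nat.one_le_pow _ _ (by omega)
          obtain ⟨a, ha⟩ : ∃ a, q ^ (2 * j + 1) = a + 1 := ⟨q ^ (2 * j + 1) - 1, by omega⟩
          rw [ha, Nat.add_sub_cancel]
          have : (a + 1) ^ 2 = (a + 1 + 1) * a + 1 := by ring
          omega
        rw [h2]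
        exact Dvd.dvd.mul_right h _
      rw [hr.iff] at h1
      have h2 := Nat.dvd_of_mul_dvd_mul_left (by norm_num) h1
      obtain ⟨s, hs⟩ := he
      obtain ⟨t, ht⟩ := h2
      have : 2 * j + 1 = 2 * (s * t) := by rw [ht, hs]; ring
      omega
  · have hm3 : 3 ≤ m := by
      obtain ⟨s, hs⟩ := ho
      omega
    obtain ⟨r, hr⟩ := exists_ppd hq (k := m) hm3 (by
      rintro ⟨-, h⟩
      obtain ⟨s, hs⟩ := ho
      omega)
    have h5 : 5 ≤ r := by
      have := hr.le_odd hm3 ho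
      omega
    have hc : ∀ x, m ∣ 2 * x → m ∣ x := fun x hx =>
      (Nat.Coprime.dvd_of_dvd_mul_left ((Nat.coprime_two_left.2 ho).symm) hx)
    refine ⟨r, hr.prime, h5, ?_, ?_, ?_, ?_, Or.inr ⟨ho, (hr.iff _).2 dvd_rfl⟩⟩
    · rw [hr.iff]
      intro h
      have := Nat.le_of_dvd (by norm_num) h
      omega
    · rw [← pow_mul, hr.iff]
      exact Dvd.intro_left 2 rfl
    · intro d hd hdm h
      rw [← pow_mul, hr.iff] at h
      exact Nat.dvd_antisymm hdm (hc _ h)
    · intro j h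
      have h1 : r ∣ q ^ (2 * (2 * j + 1)) - 1 := by
        have h2 : q ^ (2 * (2 * j + 1)) - 1 = (q ^ (2 * j + 1) + 1) * (q ^ (2 * j + 1) - 1) := by
          rw [mul_comm 2, pow_mul]
          have : 1 ≤ q ^ (2 * j + 1) := Nat.one_le_pow _ _ (by omega)
          obtain ⟨a, ha⟩ : ∃ a, q ^ (2 * j + 1) = a + 1 := ⟨q ^ (2 * j + 1) - 1, by omega⟩
          rw [ha, Nat.add_sub_cancel]
          have : (a + 1) ^ 2 = (a + 1 + 1) * a + 1 := by ring
          omega
        rw [h2]
        exact Dvd.dvd.mul_right h _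
      rw [hr.iff] at h1
      have h2 := (hr.iff _).2 (hc _ h1)
      have h3 : 1 ≤ q ^ (2 * j + 1) := Nat.one_le_pow _ _ (by omega)
      have h4 : r ∣ (q ^ (2 * j + 1) + 1) - (q ^ (2 * j + 1) - 1) := Nat.dvd_sub h h2
      rw [show (q ^ (2 * j + 1) + 1) - (q ^ (2 * j + 1) - 1) = 2 by omega] at h4
      have := Nat.le_of_dvd (by norm_num) h4
      omega

/-- **The polynomial.** -/
theorem exists_pw_prime {F : Type*} [Field F] [Fintype F] {q : ℕ} (hF : Fintype.card F = q ^ 2) (σ : F →+* F)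
    (hσ : ∀ a, σ a = a ^ q) {m : ℕ} (hm : 2 ≤ m) :
    ∃ (r : ℕ) (f : F[X]), r.Prime ∧ 5 ≤ r ∧ PW q σ m 1 f ∧ f ∣ X ^ r - 1 ∧
      ((Even m ∧ r ∣ q ^ m + 1) ∨ f.map σ = f) := by
  classical
  have hq : 2 ≤ q := by
    have h1 : 1 < Fintype.card F := Fintype.one_lt_card
    rw [hF] at h1
    by_contra hcon
    interval_cases q <;> simp at h1
  obtain ⟨r, hr, hr5, hr1, hrm, hrd, hrj, hre⟩ := exists_r hq hm
  obtain ⟨p, hp⟩ := CharP.exists F
  obtain ⟨n, hpp, hcard⟩ := FiniteField.card F p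
  have : Fact p.Prime := ⟨hpp⟩
  have : NeZero m := ⟨by omega⟩
  obtain ⟨k, -, hk⟩ : ∃ k ≤ (n : ℕ), q = p ^ k :=
    (Nat.dvd_prime_pow hpp).1 (by rw [← hcard, hF]; exact dvd_pow_self _ (by norm_num))
  set E := FiniteField.Extension F p m with hE
  have hEcard : Nat.card E = (q ^ 2) ^ m := by
    rw [hE, FiniteField.natCard_extension, Nat.card_eq_fintype_card, hF]
  have hEfin : finrank F E = m := FiniteField.finrank_extension F p m
  have : FiniteDimensional F E := inferInstance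
  have : CharP E p := charP_of_injective_algebraMap (algebraMap F E).injective p
  -- the element of order r
  obtain ⟨η, hη⟩ := IsCyclic.exists_generator (α := Eˣ)
  have hηord : orderOf η = (q ^ 2) ^ m - 1 := by
    rw [orderOf_eq_card_of_forall_mem_zpowers hη, Nat.card_units, hEcard]
  have hpos : 0 < (q ^ 2) ^ m - 1 := by
    have : 1 < (q ^ 2) ^ m := Nat.one_lt_pow (by omega) (by nlinarith only [hq])
    omega
  obtain ⟨N, hN⟩ := hrm
  have hζord : orderOf ((η ^ N : Eˣ) : E) = r := by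
    rw [orderOf_units, orderOf_pow, hηord, hN, mul_comm r N, Nat.gcd_mul_right_left]
    rw [Nat.mul_div_cancel_left]
    rcases Nat.eq_zero_or_pos N with h | h
    · rw [h] at hN; omega
    · exact h
  set ζ : E := ((η ^ N : Eˣ) : E) with hζ
  have hζ0 : ζ ≠ 0 := Units.ne_zero _
  have hord : ∀ k : ℕ, ζ ^ k = 1 ↔ r ∣ k := fun k => by rw [← hζord, orderOf_dvd_iff_pow_eq_one]
  have hζr : ζ ^ r = 1 := (hord r).2 dvd_rfl
  have hint : IsIntegral F ζ := Algebra.IsIntegral.isIntegral ζ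
  -- the degree
  have hdeg : (minpoly F ζ).natDegree = m := by
    set K := IntermediateField.adjoin F {ζ} with hK
    have h1 : finrank F K = (minpoly F ζ).natDegree := IntermediateField.adjoin.finrank hint
    have h2 : finrank F K * finrank K E = m := by rw [finrank_mul_finrank, hEfin]
    have h3 : Nat.card K = (q ^ 2) ^ finrank F K := by
      rw [Module.natCard_eq_pow_finrank (K := F), Nat.card_eq_fintype_card, hF]
    have h4 : r ∣ ((q ^ 2) ^ finrank F K - 1) := by
      rw [← hord, ← h3]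
      have := Fintype.ofFinite K
      have h5 : (⟨ζ, IntermediateField.mem_adjoin_simple_self F ζ⟩ : K) ^ (Nat.card K - 1) = 1 := by
        rw [Nat.card_eq_fintype_card]
        exact FiniteField.pow_card_sub_one_eq_one _ (by
          intro h; exact hζ0 (congrArg Subtype.val h))
      exact congrArg Subtype.val h5
    rw [← h1]
    exact hrd _ finrank_pos ⟨_, h2.symm⟩ h4
  -- the roots
  have hroot : ∀ θ : E, aeval θ (minpoly F ζ) = 0 → ∃ j < m, θ = ζ ^ (q ^ 2) ^ j := by
    intro θ hθ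
    obtain ⟨τ, hτ⟩ := minpoly.exists_algEquiv_of_root' (hint.isAlgebraic) hθ
    obtain ⟨i, hi, hiτ⟩ := FiniteField.Extension.exists_frob_pow_eq F p m τ
    refine ⟨i, hi, ?_⟩
    rw [← hτ, ← hiτ, FiniteField.Extension.frob_iterate_apply, Nat.card_eq_fintype_card, hF]
  -- elements of F of order r
  have hFr : ∀ a : F, a ^ r = 1 → a = 1 := by
    intro a ha
    have ha0 : a ≠ 0 := by
      rintro rfl
      rw [zero_pow (by omega)] at ha
      exact zero_ne_one ha
    have h1 := FiniteField.pow_card_sub_one_eq_one a ha0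
    rw [hF] at h1
    have h2 : orderOf a ∣ Nat.gcd r (q ^ 2 - 1) :=
      Nat.dvd_gcd (orderOf_dvd_of_pow_eq_one ha) (orderOf_dvd_of_pow_eq_one h1)
    rw [(Nat.Prime.coprime_iff_not_dvd hr).2 hr1] at h2
    exact orderOf_eq_one_iff.1 (Nat.dvd_one.1 h2)
  -- the constant term
  have hc0 : σ ((minpoly F ζ).coeff 0) = (minpoly F ζ).coeff 0 := by
    have h1 := coeff_zero_eq (F := F) (x := ζ) (by rw [hdeg, hEfin])
    have h3 : Algebra.norm F ζ = 1 := by
      apply hFr
      rw [← map_pow, hζr, map_one]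
    rw [h3] at h1
    have h5 := congrArg σ h1
    rw [map_one, map_mul, map_pow, map_neg, map_one] at h5
    exact mul_left_cancel₀ (pow_ne_zero _ (neg_ne_zero.2 one_ne_zero)) (h5.symm.trans h1)
  have hdvd : minpoly F ζ ∣ X ^ r - 1 := by
    apply minpoly.dvd
    rw [map_sub, map_pow, aeval_X, map_one, hζr, sub_self]
  let φ : E →+* E := iterateFrobenius E p k
  have hφ : ∀ x, φ x = x ^ q := fun x => by rw [hk]; exact iterateFrobenius_def p k x
  have hcomp : (algebraMap F E).comp σ = φ.comp (algebraMap F E) := by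
    ext a
    simp [hφ, hσ]
  refine ⟨r, minpoly F ζ, hr, hr5, ⟨minpoly.irreducible hint, minpoly.monic hint, hdeg, hc0, ?_, ?_, ?_⟩, hdvd, ?_⟩
  rotate_left 3
  · -- the conjugate polynomial
    rcases hre with h | ⟨ho, h⟩
    · exact Or.inl h
    right
    obtain ⟨s, hs⟩ := ho
    have h1 : ζ ^ q ^ m = ζ := by
      have h2 : ζ ^ (q ^ m - 1) = 1 := (hord _).2 h
      have h3 : 1 ≤ q ^ m := Nat.one_le_pow _ _ (by omega)
      calc ζ ^ q ^ m = ζ ^ (q ^ m - 1 + 1) := by rw [Nat.sub_add_cancel h3]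
        _ = ζ := by rw [pow_succ, h2, one_mul]
    -- `ζ ^ q` is a root of `minpoly F ζ`
    have h2 : aeval (ζ ^ q) (minpoly F ζ) = 0 := by
      have h3 : ζ ^ q = ζ ^ (Nat.card F) ^ (s + 1) := by
        rw [Nat.card_eq_fintype_card, hF, ← pow_mul, show 2 * (s + 1) = m + 1 by omega, pow_succ, pow_mul, h1]
      rw [h3, ← FiniteField.Extension.frob_iterate_apply F p m, Polynomial.aeval_algHom_apply, minpoly.aeval, map_zero]
    -- `ζ ^ q` is a root of the conjugate
    have h4 : aeval (ζ ^ q) ((minpoly F ζ).map σ) = 0 := by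
      rw [aeval_def, eval₂_map, hcomp, ← hφ, ← hom_eval₂, ← aeval_def, minpoly.aeval, map_zero]
    have hint' : IsIntegral F (ζ ^ q) := Algebra.IsIntegral.isIntegral _
    have e1 : minpoly F (ζ ^ q) = minpoly F ζ :=
      (minpoly.eq_of_irreducible_of_monic (minpoly.irreducible hint) h2 (minpoly.monic hint)).symm
    have h5 : minpoly F (ζ ^ q) ∣ (minpoly F ζ).map σ := minpoly.dvd _ _ h4
    rw [e1] at h5
    apply Polynomial.eq_of_monic_of_dvd_of_natDegree_le (minpoly.monic hint) ((minpoly.monic hint).map σ) h5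
    rw [(minpoly.monic hint).natDegree_map]
  · -- coprime to the reverse
    rw [(minpoly.irreducible hint).coprime_iff_not_dvd]
    intro hdv
    have h1 : aeval ζ (((minpoly F ζ).map σ).reverse) = 0 := by
      obtain ⟨g, hg⟩ := hdv
      rw [hg, map_mul, minpoly.aeval, zero_mul]
    let _ : Invertible (ζ⁻¹) := invertibleOfNonzero (inv_ne_zero hζ0)
    have h2 : aeval ζ⁻¹ ((minpoly F ζ).map σ) = 0 := by
      have h3 := eval₂_reverse_eq_zero_iff (algebraMap F E) ζ⁻¹ ((minpoly F ζ).map σ)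
      rw [invOf_eq_inv, inv_inv] at h3
      exact h3.1 h1
    obtain ⟨θ, hθ⟩ : ∃ θ, φ θ = ζ⁻¹ := (Finite.injective_iff_surjective.1 φ.injective) _
    have h4 : aeval θ (minpoly F ζ) = 0 := by
      apply φ.injective
      rw [map_zero, ← h2, aeval_def, aeval_def, eval₂_map, hcomp, ← hθ, hom_eval₂]
    obtain ⟨j, hj, hjθ⟩ := hroot θ h4
    have h5 : ζ ^ ((q ^ 2) ^ j * q + 1) = 1 := by
      rw [pow_succ, pow_mul, ← hjθ, ← hφ, hθ, inv_mul_cancel₀ hζ0]
    have h6 := (hord _).1 h5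
    rw [← pow_mul, ← pow_succ] at h6
    exact hrj j h6
  · -- scaling
    intro l hl hlm hl1 hcon
    have h1 := scaleRoots_aeval_eq_zero (R := F) (A := E) (p := minpoly F ζ) (a := ζ) (r := l)
      (minpoly.aeval F ζ)
    rw [hcon] at h1
    obtain ⟨j, hj, hjl⟩ := hroot _ h1
    have hpos : 1 ≤ (q ^ 2) ^ j := Nat.one_le_pow _ _ (by positivity)
    have h2 : algebraMap F E l = ζ ^ ((q ^ 2) ^ j - 1) := by
      apply mul_right_cancel₀ hζ0
      rw [hjl, ← pow_succ, Nat.sub_add_cancel hpos]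
    apply hl1
    apply hFr
    apply (algebraMap F E).injective
    rw [map_pow, h2, map_one, ← pow_mul, mul_comm, pow_mul, hζr, one_pow]
  · -- roots of matrices
    intro ι _ _ Z hZ
    have hZr : Z ^ r = 1 := by
      obtain ⟨g, hg⟩ := hdvd
      have h1 : aeval Z (X ^ r - 1 : F[X]) = 0 := by
        rw [hg, ← hZ, map_mul, Matrix.aeval_self_charpoly, zero_mul]
      rw [map_sub, map_pow, aeval_X, map_one] at h1
      exact sub_eq_zero.1 h1
    refine ⟨Z, (pow_one Z).symm, ?_, ?_⟩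
    · rw [Matrix.det_eq_sign_charpoly_coeff, hZ, map_mul, map_pow, map_neg, map_one, hc0]
    · rw [pow_mul, hN, pow_mul, hZr, one_pow]

end Cfsg.Agent.H950.TC
end

-- part: H950/TC/Psu
section
/-!
# S4173 for `PSU_n(q)`, `n ≥ 3` (helper950)

`tc_psu` : two classes of `PSU_n(q)` whose product covers all nonidentity elements, `n ≥ 3`, `(n, q) ≠ (3, 2)`.
`tc6_psu` : `n ≥ 4`: with elements of prime order `r ≥ 5`.
`pp_psu`, `row3_psu` : `n ≥ 4`: one (real) class of elements of prime order `r ≥ 5`.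
-/

set_option autoImplicit false
set_option linter.unusedSectionVars false

namespace Cfsg.Agent.H950.TC

open Cfsg Module Polynomial Cfsg.Agent.H951 Matrix Cfsg.Agent.H98.Ore Cfsg.Agent.H950.War Cfsg.Agent.H951.OreU
  Cfsg.Agent.H984.Ore
open Cfsg.Agent.LieClassical.HermBasic
open Cfsg.Agent.H140.TC (TC)

section geo

variable {F V : Type*} [Field F] [Fintype F] [AddCommGroup V] [Module F V] [FiniteDimensional F V]
  {q : ℕ} {σ : F →+* F} {B : V → V → F}

/-- all nonscalar elements are in the product of the classes of `x₀` and `x₀⁻¹` -/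
def Cov (B : V → V → F) (x₀ : V ≃ₗ[F] V) : Prop :=
  x₀ ∈ SGr B ∧ ∀ g ∈ SGr B, (∀ c : F, (g : End F V) ≠ c • (1 : End F V)) →
    ∃ a ∈ SGr B, ∃ b ∈ SGr B, g = a * x₀ * a⁻¹ * (b * x₀⁻¹ * b⁻¹)

/-- non-scalar elements fit -/
theorem fit_of_not_scalar (hB : HS q σ B) {m e : ℕ} (hm : 2 ≤ m)
    (hn : finrank F V = 2 * m ∨ finrank F V = 2 * m + 1) {f : F[X]}
    (hf : PW q σ m e f) {g : V ≃ₗ[F] V} (hgS : g ∈ SGr B)
    (hs : ∀ c : F, (g : End F V) ≠ c • (1 : End F V)) : Fit B f g := by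
  obtain ⟨hg, hdet⟩ := mem_SGr.1 hgS
  have hg : Isom B (g : End F V) := hg
  have h4 : 4 ≤ finrank F V := by omega
  by_cases h1 : ∃ c : F, finrank F (LinearMap.range ((g : End F V) - c • (1 : End F V))) = 1
  · obtain ⟨c, hc⟩ := h1
    exact fit_rank_one hB hm hn hf hgS hc
  push Not at h1
  have hr : ∀ c : F, 2 ≤ finrank F (LinearMap.range ((g : End F V) - c • (1 : End F V))) := by
    intro c
    by_contra hcon
    have h5 : finrank F (LinearMap.range ((g : End F V) - c • (1 : End F V))) = 0 := by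
      have := h1 c
      omega
    have h6 := Submodule.finrank_eq_zero.1 h5
    rw [LinearMap.range_eq_bot, sub_eq_zero] at h6
    exact hs c h6
  apply fit_of_good hB hm hn hf
  obtain ⟨w, U, g₁, b, hst, h2 | ⟨h2, c, hc1, hc2⟩⟩ := Cfsg.Agent.H954.OreB.exists_good_step hB hg hdet h4 hr
  · rcases Nat.even_or_odd' (finrank F V) with ⟨m, hm | hm⟩
    · exact Cfsg.Agent.H801.Ore.good_even hB hg hdet hm hst h2
    · exact Cfsg.Agent.H984.OreFinal.good_odd hB hg hm hst h2
  · exact good_four hB hg hdet h2 hst hc1 hc2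

/-- **`n ≥ 4`** -/
theorem exists_cov (hB : HS q σ B) {m : ℕ} (hm : 2 ≤ m) (hn : finrank F V = 2 * m ∨ finrank F V = 2 * m + 1) :
    ∃ (r : ℕ) (x₀ : V ≃ₗ[F] V), r.Prime ∧ 5 ≤ r ∧ x₀ ^ r = 1 ∧ (∃ u ∈ SGr B, x₀⁻¹ = u * x₀ * u⁻¹) ∧ Cov B x₀ := by
  obtain ⟨r, f, hr, hr5, hf, hfr, hre⟩ := exists_pw_prime hB.card σ hB.sig hm
  obtain ⟨e, he, hne⟩ : ∃ e, e ≤ 1 ∧ finrank F V = 2 * m + e := by
    rcases hn with h | h
    · exact ⟨0, by norm_num, by omega⟩
    · exact ⟨1, le_rfl, h⟩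
  have hne' : finrank F V = 2 * Fintype.card (Fin m) + e := by rw [Fintype.card_fin]; exact hne
  obtain ⟨v, v', hv⟩ := exists_fr m hB (by omega)
  obtain ⟨Z, hZ⟩ := exists_matrix (ι := Fin m) hf.monic (by rw [hf.deg, Fintype.card_fin])
  have h0 : Z.charpoly.coeff 0 ≠ 0 := by
    rw [hZ, Polynomial.coeff_zero_eq_eval_zero]
    exact eval_ne hf hm 0
  have hZ0 := det_ne_of_irr (by omega) h0
  have hZσ : σ Z.det = Z.det := by
    rw [Matrix.det_eq_sign_charpoly_coeff, hZ, map_mul, map_pow, map_neg, map_one, hf.c0]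
  obtain ⟨x₀, hxm, hxw, hxw'⟩ := exists_lev hB he hne' hv hZ0 (fun _ => hZσ)
  have hZr : Z ^ r = 1 := by
    obtain ⟨g, hg⟩ := hfr
    have h1 : aeval Z (X ^ r - 1 : F[X]) = 0 := by
      rw [hg, ← hZ, map_mul, Matrix.aeval_self_charpoly, zero_mul]
    rw [map_sub, map_pow, aeval_X, map_one] at h1
    exact sub_eq_zero.1 h1
  refine ⟨r, x₀, hr, hr5, ?_, ?_, hxm, fun g hg hs => ?_⟩
  rotate_left 1
  · -- `x₀` is real
    have hZu : IsUnit Z.det := isUnit_iff_ne_zero.2 hZ0
    have hinv : ∀ {w : Fin m → V} {Y : Matrix (Fin m) (Fin m) F}, IsUnit Y.det → (∀ j, x₀ (w j) = ∑ i, Y i j • w i) →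
        ∀ j, x₀⁻¹ (w j) = ∑ i, Y⁻¹ i j • w i := by
      intro w Y hY hw j
      have h1 : x₀ (∑ i, Y⁻¹ i j • w i) = w j := by
        rw [map_sum]
        simp only [map_smul, hw, Finset.smul_sum, smul_smul]
        rw [Finset.sum_comm]
        simp only [← Finset.sum_smul]
        have h2 : ∀ i, ∑ k, Y⁻¹ k j * Y i k = if i = j then 1 else 0 := by
          intro i
          have h3 := congrFun (congrFun (Matrix.mul_nonsing_inv Y hY) i) j
          rw [Matrix.mul_apply, Matrix.one_apply] at h3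
          rw [← h3]
          exact Finset.sum_congr rfl fun k _ => mul_comm _ _
        simp only [h2, ite_smul, one_smul, zero_smul, Finset.sum_ite_eq', Finset.mem_univ, if_true]
      conv_lhs => rw [← h1]
      exact x₀.symm_apply_apply _
    rcases hre with ⟨hev, hd⟩ | hfσ
    · -- `m` even
      obtain ⟨s, hs⟩ := hev
      have h1 : Z⁻¹ = Z ^ Fintype.card F ^ s := by
        have h2 : Z ^ (q ^ m + 1) = 1 := by
          obtain ⟨t, ht⟩ := hd
          rw [ht, pow_mul, hZr, one_pow]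
        have h3 : Fintype.card F ^ s = q ^ m := by rw [hB.card, ← pow_mul, show 2 * s = m by omega]
        rw [h3]
        apply Matrix.inv_eq_right_inv
        rw [← pow_succ']
        exact h2
      have h2 : ∀ t : ℕ, (Z ^ Fintype.card F ^ t).charpoly = Z.charpoly := by
        intro t
        induction t with
        | zero => rw [pow_zero, pow_one]
        | succ t ih => rw [pow_succ, pow_mul, FiniteField.Matrix.charpoly_pow_card, ih]
      have hlv : Lv B v v' Z⁻¹ x₀⁻¹ := ⟨hv, (SGr B).inv_mem hxm, hinv hZu hxw⟩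
      have h3 : Z⁻¹.charpoly = Z.charpoly := by rw [h1, h2]
      obtain ⟨u, hu, hxu⟩ := conj_fin hB he (by omega) hne hlv ⟨hv, hxm, hxw⟩ (by rw [hZ]; exact hf.irr) h0
        h3 (by rw [hZ]; exact hf.cop) (fun _ => by rw [hZ]; exact eval_ne hf hm _)
      refine ⟨u⁻¹, (SGr B).inv_mem hu, ?_⟩
      conv_rhs => rw [hxu]
      group
    · -- the conjugate polynomial
      have hd1 : (ist σ Z).det ≠ 0 := by
        rw [det_ist, map_inv₀]
        exact inv_ne_zero ((map_ne_zero σ).2 hZ0)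
      have h1 : (ist σ Z)⁻¹ = (σ.mapMatrix Z)ᵀ := by
        have h2 : ist σ Z = (σ.mapMatrix Z⁻¹)ᵀ := by ext i j; rfl
        apply Matrix.inv_eq_right_inv
        rw [h2, ← Matrix.transpose_mul, ← map_mul, Matrix.mul_nonsing_inv _ hZu, map_one, Matrix.transpose_one]
      have h3 : ((ist σ Z)⁻¹).charpoly = Z.charpoly := by
        rw [h1, Matrix.charpoly_transpose, RingHom.mapMatrix_apply, Matrix.charpoly_map, hZ, hfσ]
      have hlv : Lv B v' v (ist σ Z)⁻¹ x₀⁻¹ :=
        ⟨hv.swap hB, (SGr B).inv_mem hxm, hinv (isUnit_iff_ne_zero.2 hd1) hxw'⟩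
      obtain ⟨u, hu, hxu⟩ := conj_fin hB he (by omega) hne hlv ⟨hv, hxm, hxw⟩ (by rw [hZ]; exact hf.irr) h0
        h3 (by rw [hZ]; exact hf.cop) (fun _ => by rw [hZ]; exact eval_ne hf hm _)
      refine ⟨u⁻¹, (SGr B).inv_mem hu, ?_⟩
      conv_rhs => rw [hxu]
      group
  rotate_left 1
  · refine fix_one hB he hne' hv ((SGr B).pow_mem hxm r) (fun j => ?_) (fun j => ?_)
    · rw [pow_frame hxw, hZr]
      simp only [Matrix.one_apply, _root_.Matrix.one_apply, _root_.ite_smul, _root_.one_smul, _root_.zero_smul, _root_.Finset.sum_ite_eq', _root_.Finset.mem_univ, ↓ _root_.reduceIte]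
    · rw [pow_frame hxw', ← ist_pow hB, hZr, ist_one hB]
      simp only [Matrix.one_apply, _root_.Matrix.one_apply, _root_.ite_smul, _root_.one_smul, _root_.zero_smul, _root_.Finset.sum_ite_eq', _root_.Finset.mem_univ, ↓ _root_.reduceIte]
  · obtain ⟨ι, _, _, P, Z', h, hcard, hcor, hZ', hh, hPZ⟩ := fit_of_not_scalar hB hm hn hf hg hs
    have hι : Fintype.card ι = m := by (clear * - he hne hcard; omega)
    have hd0 : Z'.det ≠ 0 := by
      rw [Matrix.det_eq_sign_charpoly_coeff, hZ', ← hZ]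
      exact mul_ne_zero (pow_ne_zero _ (neg_ne_zero.2 one_ne_zero)) h0
    have hdσ : σ Z'.det = Z'.det := by
      rw [Matrix.det_eq_sign_charpoly_coeff, hZ', map_mul, map_pow, map_neg, map_one, hf.c0]
    obtain ⟨w, w', x, hx, a, ha, b, hb, hG⟩ := criterionC hB hg hcard hcor hPZ hh hd0 (fun _ => hdσ)
      (by rw [hZ']; exact hf.cop) (by rw [hZ']; exact eval_ne hf hm _)
    obtain ⟨u, hu, hxu⟩ := conj_any hB he (by omega) hne hι hx ⟨hv, hxm, hxw⟩ (by rw [hZ]; exact hf.irr) h0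
      (by rw [hZ, hZ']) (by rw [hZ]; exact hf.cop) (fun _ => by rw [hZ]; exact eval_ne hf hm _)
    refine ⟨a * u⁻¹, (SGr B).mul_mem ha ((SGr B).inv_mem hu), b * u⁻¹, (SGr B).mul_mem hb ((SGr B).inv_mem hu), ?_⟩
    rw [hG, hxu]
    group

/-- **`n = 3`** -/
theorem exists_cov_three (hB : HS q σ B) (hq : 3 ≤ q) (hn : finrank F V = 3) : ∃ x₀ : V ≃ₗ[F] V, Cov B x₀ := by
  -- the generator
  obtain ⟨η, hη⟩ := IsCyclic.exists_generator (α := Fˣ)
  have hηord : orderOf η = q ^ 2 - 1 := by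
    rw [orderOf_eq_card_of_forall_mem_zpowers hη, Nat.card_units, Nat.card_eq_fintype_card, hB.card]
  obtain ⟨x, hx⟩ : ∃ x0 : F, x0 = (η : F) := ⟨_, rfl⟩
  have hord : ∀ k : ℕ, x ^ k = 1 → q ^ 2 - 1 ∣ k := by
    intro k hk
    rw [← hηord]
    apply orderOf_dvd_of_pow_eq_one
    apply Units.ext
    rw [Units.val_pow_eq_pow_val, ← hx, hk, Units.val_one]
  have hx0 : x ≠ 0 := by rw [hx]; exact η.ne_zero
  have hq2 : q ^ 2 - 1 = (q - 1) * (q + 1) := by
    obtain ⟨r, rfl⟩ : ∃ r, q = r + 1 := ⟨q - 1, by omega⟩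
    have : (r + 1) ^ 2 = r * (r + 1 + 1) + 1 := by ring
    rw [this]; simp only [_root_.add_tsub_cancel_right]
  have hx1 : x ^ (q + 1) ≠ 1 := by
    intro h1
    have h2 := Nat.le_of_dvd (by omega) (hord _ h1)
    rw [hq2] at h2
    have h4 : (q - 1) * (q + 1) ≤ 1 * (q + 1) := by rw [one_mul]; exact h2
    have h5 := Nat.le_of_mul_le_mul_right h4 (by omega)
    omega
  have hx2 : x ^ q ≠ x ^ 2 := by
    intro h1
    have h2 : x ^ (q - 2) = 1 := by
      apply mul_right_cancel₀ (pow_ne_zero 2 hx0)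
      rw [← pow_add, one_mul, Nat.sub_add_cancel (by omega), h1]
    have h3 := Nat.le_of_dvd (by omega) (hord _ h2)
    rw [hq2] at h3
    have h4 : 1 * (q + 1) ≤ (q - 1) * (q + 1) := Nat.mul_le_mul_right _ (by omega)
    omega
  have hσx : σ x ≠ 0 := (map_ne_zero σ).2 hx0
  have hcopx : IsCoprime (X - C x : F[X]) ((X - C x : F[X]).map σ).reverse := by
    have h1 : ((X - C x : F[X]).map σ).reverse = C (-σ x) * (X - C (σ x)⁻¹) := by
      rw [Polynomial.map_sub, Polynomial.map_X, Polynomial.map_C]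
      ext i
      rw [Polynomial.coeff_reverse, Polynomial.natDegree_X_sub_C, Polynomial.coeff_C_mul, Polynomial.coeff_sub,
        Polynomial.coeff_sub]
      rcases i with _ | _ | i
      · rw [Polynomial.revAt_le (by omega)]
        simp only [hσx, _root_.tsub_zero, _root_.Polynomial.coeff_X_one, _root_.Polynomial.coeff_C_succ, _root_.sub_zero, _root_.Polynomial.coeff_X_zero, _root_.Polynomial.coeff_C_zero, _root_.zero_sub, _root_.mul_neg, _root_.neg_mul, _root_.ne_eq, _root_.not_false_eq_true, _root_.mul_inv_cancel₀, _root_.neg_neg]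
      · rw [Polynomial.revAt_le (by omega)]
        simp only [_root_.zero_add, _root_.tsub_self, _root_.Polynomial.coeff_X_zero, _root_.Polynomial.coeff_C_zero, _root_.zero_sub, _root_.Polynomial.coeff_X_one, _root_.Polynomial.coeff_C_succ, _root_.sub_zero, _root_.mul_one]
      · rw [Polynomial.revAt_eq_self_of_lt (by omega)]
        simp only [Polynomial.coeff_X, Polynomial.coeff_C, _root_.Polynomial.coeff_X, _root_.Nat.right_eq_add, _root_.Nat.add_eq_zero_iff, _root_.one_ne_zero, _root_.and_false, ↓ _root_.reduceIte, _root_.Polynomial.coeff_C_succ, _root_.sub_self, _root_.MulZeroClass.mul_zero]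
    rw [h1]
    have h2 : IsUnit (C (-σ x) : F[X]) := Polynomial.isUnit_C.2 (isUnit_iff_ne_zero.2 (neg_ne_zero.2 hσx))
    rw [isCoprime_mul_unit_left_right h2]
    apply Polynomial.isCoprime_X_sub_C_of_isUnit_sub
    rw [isUnit_iff_ne_zero, sub_ne_zero]
    intro h3
    apply hx1
    calc x ^ (q + 1) = σ x * x := by rw [pow_succ, ← hB.sig]
      _ = σ x * (σ x)⁻¹ := by rw [← h3]
      _ = 1 := mul_inv_cancel₀ hσx
  have hev : (X - C x : F[X]).eval (σ x * x⁻¹) ≠ 0 := by
    rw [Polynomial.eval_sub, Polynomial.eval_X, Polynomial.eval_C, hB.sig]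
    intro h1
    apply hx2
    have h2 : x ^ q * x⁻¹ = x := sub_eq_zero.1 h1
    calc x ^ q = x ^ q * x⁻¹ * x := by rw [inv_mul_cancel_right₀ hx0]
      _ = x ^ 2 := by rw [h2, pow_two]
  -- diagonal matrices with one entry
  have hdet : ∀ {ι : Type} [Fintype ι] [DecidableEq ι], Fintype.card ι = 1 →
      (Matrix.diagonal (fun _ : ι => x)).det = x := by
    intro ι _ _ h1
    rw [Matrix.det_diagonal, Finset.prod_const, Finset.card_univ, h1, pow_one]
  have hcp : ∀ {ι : Type} [Fintype ι] [DecidableEq ι], Fintype.card ι = 1 →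
      (Matrix.diagonal (fun _ : ι => x)).charpoly = X - C x := by
    intro ι _ _ h1
    rw [Matrix.charpoly_diagonal, Finset.prod_const, Finset.card_univ, h1, pow_one]
  have hne' : finrank F V = 2 * Fintype.card (Fin 1) + 1 := by rw [Fintype.card_fin, hn]
  obtain ⟨v, v', hv⟩ := exists_fr 1 hB (by omega)
  have hf1 : Fintype.card (Fin 1) = 1 := Fintype.card_fin 1
  obtain ⟨x₀, hxm, hxw, hxw'⟩ := exists_lev hB le_rfl hne' hv (Z := Matrix.diagonal (fun _ : Fin 1 => x))
    (by rw [hdet hf1]; exact hx0) (fun h => absurd h one_ne_zero)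
  refine ⟨x₀, hxm, fun g hg hs => ?_⟩
  have hgi : Isom B (g : End F V) := (mem_SGr.1 hg).1
  obtain ⟨w, hw, hgw⟩ := exists_typeI hB hgi hs
  obtain ⟨U, g₁, b, h⟩ := exists_step hB hgi hw hgw
  obtain ⟨hU, hfr⟩ := Step.hs hB hgi h
  obtain ⟨R, -, hR⟩ := Cfsg.Agent.H24.Ore.cor_step_odd hB hgi h (κ := Empty) (P₁ := 0)
    (by rw [Fintype.card_empty]; omega)
    ⟨Empty.elim, Empty.elim, ⟨fun i => i.elim, fun i => i.elim, fun i => i.elim⟩, fun i => i.elim⟩ 1
  have hP : Matrix.fromBlocks (Matrix.of fun (_ _ : Unit) => (1 : F)) R 0 (0 : Matrix Empty Empty F) = 1 := by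
    ext i j
    rcases i with i | i
    · rcases j with j | j
      · rw [Matrix.fromBlocks_apply₁₁, Subsingleton.elim j i, Matrix.one_apply_eq]
        rfl
      · exact j.elim
    · exact i.elim
  rw [hP] at hR
  have hu1 : Fintype.card (Unit ⊕ Empty) = 1 := rfl
  obtain ⟨w, w', y, hy, a, ha, b, hb, hG⟩ := criterionC hB hg (ι := Unit ⊕ Empty) (Or.inr (by rw [hn]; rfl)) (P := 1)
    (Z := Matrix.diagonal (fun _ : Unit ⊕ Empty => x)) (h := 1) hR
    (by rw [one_mul, mul_one]) Matrix.det_one (by rw [hdet hu1]; exact hx0) (fun h2 => by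
      exfalso
      rw [hn, hu1] at h2
      omega) (by rw [hcp hu1]; exact hcopx) (by rw [hcp hu1, hdet hu1]; exact hev)
  obtain ⟨u, hu, hxu⟩ := conj_any hB le_rfl one_pos (by omega) hu1 hy ⟨hv, hxm, hxw⟩
    (by rw [hcp hf1]; exact Polynomial.irreducible_X_sub_C x) (by rw [hcp hf1]; simpa using hx0)
    (by rw [hcp hf1, hcp hu1]) (by rw [hcp hf1]; exact hcopx) (fun _ => by rw [hcp hf1, hdet hf1]; exact hev)
  refine ⟨a * u⁻¹, (SGr B).mul_mem ha ((SGr B).inv_mem hu), b * u⁻¹, (SGr B).mul_mem hb ((SGr B).inv_mem hu), ?_⟩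
  rw [hG, hxu]
  group

end geo

section grp

open Cfsg.Agent.ClassicalGeometry.PSUAutBasic (pr pr_surjective pr_eq_one_iff)

universe u

variable {F : Type u} [Field F] [Fintype F] {q : ℕ}

/-- passage to `PSU` -/
theorem pair_of_cov {n : ℕ} {x₀ : (Fin n → F) ≃ₗ[F] (Fin n → F)} (h : Cov (hermForm n F q) x₀) :
    ∃ x : SU n F q, psi n F q x = x₀ ∧ ∀ g : PSU n F q, g ≠ 1 →
      ∃ u v : PSU n F q, g = (u * pr n F q x * u⁻¹) * (v * pr n F q x⁻¹ * v⁻¹) := by
  obtain ⟨x, hx⟩ := exists_psi h.1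
  refine ⟨x, hx, fun g hg => ?_⟩
  obtain ⟨g, rfl⟩ := pr_surjective g
  have hs : ∀ c : F, ((psi n F q g : (Fin n → F) ≃ₗ[F] (Fin n → F)) : End F (Fin n → F)) ≠
      c • (1 : End F (Fin n → F)) := fun c hc => hg (pr_eq_one_iff.2 (mem_center_of_scalar hc))
  obtain ⟨a, ha, b, hb, hG⟩ := h.2 _ (psi_mem g) hs
  obtain ⟨a, rfl⟩ := exists_psi ha
  obtain ⟨b, rfl⟩ := exists_psi hb
  refine ⟨pr n F q a, pr n F q b, ?_⟩
  have h1 : g = (a * x * a⁻¹) * (b * x⁻¹ * b⁻¹) := by
    apply psi_injective (F := F) (q := q) n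
    rw [hG, ← hx]
    simp only [map_mul, map_inv]
  conv_lhs => rw [h1]
  simp only [map_mul, map_inv]

/-- **`PSU_n(q)`, `n ≥ 4`, elements of prime order `r ≥ 5`** -/
theorem tc6_psu (hF : Fintype.card F = q ^ 2) {n : ℕ} (hn : 4 ≤ n) :
    ∃ x y : PSU n F q, Nat.Coprime (orderOf x) 6 ∧ Nat.Coprime (orderOf y) 6 ∧
      ∀ g : PSU n F q, g ≠ 1 → ∃ u v : PSU n F q, g = (u * x * u⁻¹) * (v * y * v⁻¹) := by
  have hB := hs_herm hF n
  have hfr : finrank F (Fin n → F) = n := Module.finrank_fin_fun F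
  obtain ⟨r, x₀, hr, hr5, hxr, -, hc⟩ := exists_cov hB (m := n / 2) (by omega) (by rw [hfr]; omega)
  obtain ⟨x, hx, h⟩ := pair_of_cov hc
  have h6 : Nat.Coprime r 6 := by
    rw [Nat.Prime.coprime_iff_not_dvd hr]
    intro hd
    have h1 := Nat.le_of_dvd (by norm_num) hd
    interval_cases r
    · omega
    · exact absurd hr (by norm_num)
  have hxr' : x ^ r = 1 := by
    apply psi_injective (F := F) (q := q) n
    rw [map_pow, hx, hxr, map_one]
  refine ⟨_, _, ?_, ?_, h⟩
  · apply Nat.Coprime.coprime_dvd_left _ h6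
    apply orderOf_dvd_of_pow_eq_one
    rw [← map_pow, hxr', map_one]
  · apply Nat.Coprime.coprime_dvd_left _ h6
    apply orderOf_dvd_of_pow_eq_one
    rw [← map_pow, inv_pow, hxr', inv_one, map_one]

/-- **`PSU_n(q)`, `n ≥ 4`, one class of elements of prime order `r ≥ 5`** (S4173, S2464, S2452) -/
theorem pp_psu (hF : Fintype.card F = q ^ 2) {n : ℕ} (hn : 4 ≤ n) : Cfsg.Agent.H494.TC.PP (PSU n F q) := by
  have hB := hs_herm hF n
  have hfr : finrank F (Fin n → F) = n := Module.finrank_fin_fun F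
  obtain ⟨r, x₀, hr, hr5, hxr, ⟨u₀, hu₀, hreal⟩, hc⟩ := exists_cov hB (m := n / 2) (by omega) (by rw [hfr]; omega)
  obtain ⟨x, hx, h⟩ := pair_of_cov hc
  obtain ⟨u₀, rfl⟩ := exists_psi hu₀
  have hxu : x⁻¹ = u₀ * x * u₀⁻¹ := by
    apply psi_injective (F := F) (q := q) n
    rw [map_inv, hx, hreal, map_mul, map_mul, map_inv, hx]
  have h6 : Nat.Coprime r 6 := by
    rw [Nat.Prime.coprime_iff_not_dvd hr]
    intro hd
    have h1 := Nat.le_of_dvd (by norm_num) hd
    interval_cases r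
    · omega
    · exact absurd hr (by norm_num)
  have hxr' : x ^ r = 1 := by
    apply psi_injective (F := F) (q := q) n
    rw [map_pow, hx, hxr, map_one]
  -- the order
  have hx1 : pr n F q x ≠ 1 := by
    intro h1
    -- some nonidentity element
    have h2 : ∀ g : PSU n F q, g = 1 := by
      intro g
      by_contra hg
      obtain ⟨u, v, e⟩ := h g hg
      apply hg
      rw [e, map_inv, h1]
      group
    haveI : IsSimpleGroup (PSU n F q) := Cfsg.Agent.S0283.result hF n (by omega) (by omega)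
    obtain ⟨g, hg⟩ := exists_ne (1 : PSU n F q)
    exact hg (h2 g)
  have hord : orderOf (pr n F q x) = r := by
    have h1 : orderOf (pr n F q x) ∣ r := by
      apply orderOf_dvd_of_pow_eq_one
      rw [← map_pow, hxr', map_one]
    exact ((Nat.dvd_prime hr).1 h1).resolve_left fun h2 => hx1 (orderOf_eq_one_iff.1 h2)
  refine ⟨pr n F q x, by rw [hord]; exact hr, by rw [hord]; exact h6, fun g hg => ?_⟩
  obtain ⟨u, v, e⟩ := h g hg
  refine ⟨u, v * pr n F q u₀, ?_⟩
  rw [e, hxu]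
  simp only [map_mul, map_inv]
  group

/-- the same -/
theorem row3_psu (hF : Fintype.card F = q ^ 2) {n : ℕ} (hn : 4 ≤ n) : Cfsg.Agent.H210.TC.Row3 (PSU n F q) := by
  obtain ⟨x, hx, hx6, h⟩ := pp_psu hF hn
  exact Cfsg.Agent.H210.TC.Row3.of_sq hx hx6 h

/-- **the row `PSU_n(q)`** -/
theorem tc_psu (hF : Fintype.card F = q ^ 2) {n : ℕ} (hn : 3 ≤ n) (h32 : ¬ (n = 3 ∧ q = 2)) : TC (PSU n F q) := by
  rcases hn.eq_or_lt with rfl | hn4
  · have hq := LieClassical.HermBasic.two_le hF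
    obtain ⟨x₀, hc⟩ := exists_cov_three (hs_herm hF 3) (by
      by_contra hcon
      exact h32 ⟨rfl, by omega⟩) (Module.finrank_fin_fun F)
    obtain ⟨x, -, h⟩ := pair_of_cov hc
    exact ⟨_, _, h⟩
  · obtain ⟨x, y, -, -, h⟩ := tc6_psu hF hn4
    exact ⟨x, y, h⟩

end grp

end Cfsg.Agent.H950.TC
end

-- part: H140/TC/Sp43
section
/-!
# S4173, the group `PSp_4(3)` (two fixed classes)

Every noncentral element is conjugate to `lo T₁ * lv A * up S` with `A` a companion matrix of determinant one and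
`S ≠ 0`; for the 78 pairs `(A, S)` the table gives a factorization.
-/

set_option autoImplicit false
set_option maxRecDepth 20000

namespace Cfsg.Agent.H140.TC.Sp

open Matrix Cfsg.Agent.H649.PwSp Cfsg.Agent.H140.OreO

/-- matrix from a number -/
def m2 (N : ℕ) : Matrix (Fin 2) (Fin 2) (ZMod 3) :=
  !![((N % 3 : ℕ) : ZMod 3), ((N / 3 % 3 : ℕ) : ZMod 3); ((N / 9 % 3 : ℕ) : ZMod 3), ((N / 27 % 3 : ℕ) : ZMod 3)]

/-- the table: `P, P⁻¹, Z, Z⁻¹, T` and the four blocks of the conjugating matrix -/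
def tab : List (List ℕ) := [
  [], [39,14,58,58,28,36,50,37,76], [39,14,58,58,56,52,28,56,40], [12,12,73,73,39,66,28,44,29], 
  [12,12,73,73,66,47,27,21,29], [39,14,58,58,12,59,13,39,46], [12,12,73,73,66,37,27,26,31], 
  [39,14,58,58,66,64,31,47,27], [12,12,73,73,39,63,31,47,31], [12,12,73,73,66,9,33,12,43], 
  [12,12,73,73,27,66,66,45,31], [12,12,73,73,28,40,12,28,28], [12,12,73,73,27,31,46,70,76], 
  [66,13,43,71,27,46,12,63,49], [12,12,73,73,12,39,69,25,6], [12,12,73,73,28,41,13,30,32], 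
  [12,12,73,73,66,76,45,51,46], [12,12,73,73,27,26,13,33,18], [12,12,73,73,51,29,2,29,28], 
  [12,12,73,73,79,56,39,67,67], [12,12,73,73,54,24,40,80,68], [12,12,73,73,79,28,51,29,76], 
  [12,12,73,73,54,11,73,40,52], [12,12,73,73,51,29,16,16,75], [12,12,73,73,54,31,32,19,27], 
  [12,12,73,73,24,34,0,5,37], [66,13,43,71,54,45,31,2,27], [], [12,12,49,77,55,55,27,42,31], 
  [12,12,49,77,29,50,65,13,62], [12,12,49,77,55,12,21,43,29], [12,12,49,77,56,8,47,58,45], 
  [12,12,49,77,28,44,31,65,70], [12,12,49,77,67,28,24,67,15], [12,12,49,77,1,31,47,54,1], 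
  [12,12,49,77,28,35,16,54,38], [12,12,49,77,39,18,57,25,53], [12,12,49,77,66,75,40,13,28], 
  [12,12,49,77,27,47,58,21,64], [12,12,49,77,27,42,25,3,9], [12,12,49,77,12,4,47,17,58], 
  [12,12,49,77,29,28,41,24,15], [12,12,49,77,78,28,27,53,61], [12,12,49,77,27,36,25,3,9], 
  [12,12,49,77,12,43,67,12,56], [12,12,49,77,78,29,2,50,46], [12,12,49,77,54,39,35,36,41], 
  [12,12,49,77,39,32,52,65,58], [12,12,49,77,39,45,49,51,37], [12,12,49,77,24,28,0,53,28], 
  [12,12,49,77,54,39,28,36,41], [12,12,49,77,54,46,35,1,27], [12,12,49,77,55,0,12,24,49], 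
  [12,12,49,77,24,35,15,64,58], [], [12,12,25,78,66,37,54,69,55], [12,12,25,78,51,32,17,13,59], 
  [12,12,25,78,66,28,51,56,13], [12,12,25,78,1,64,69,46,19], [12,12,25,78,27,74,66,48,73], 
  [12,12,25,78,51,40,75,52,16], [12,12,25,78,54,32,21,13,6], [12,12,25,78,28,38,13,73,46], 
  [12,12,25,78,39,9,33,22,37], [12,12,25,78,78,66,42,51,61], [12,12,25,78,2,43,62,12,31], 
  [12,12,25,78,52,32,53,13,10], [12,12,25,78,27,46,12,60,18], [12,12,25,78,67,46,66,0,31], 
  [12,12,25,78,54,28,24,13,6], [12,12,25,78,1,40,38,52,72], [12,12,25,78,12,74,37,49,37], 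
  [12,12,25,78,78,29,2,17,37], [12,12,25,78,1,46,78,46,19], [12,12,25,78,39,73,32,38,32], 
  [12,12,25,78,27,77,12,7,40], [12,12,25,78,66,30,49,76,37], [12,12,25,78,2,52,8,12,31], 
  [12,12,25,78,55,46,27,62,1], [12,12,25,78,14,73,75,31,65], [12,12,25,78,54,42,29,10,27]]

/-- entries of the table -/
def tb (i j : ℕ) : Matrix (Fin 2) (Fin 2) (ZMod 3) := m2 ((tab.getD i []).getD j 0)

/-- companion matrix -/
def cA (t : ZMod 3) : Matrix (Fin 2) (Fin 2) (ZMod 3) := !![0, -1; 1, t]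

/-- symmetric matrix -/
def cS (a b c : ZMod 3) : Matrix (Fin 2) (Fin 2) (ZMod 3) := !![a, b; b, c]

/-- the fixed matrix of determinant `-1` -/
def cX : Matrix (Fin 2) (Fin 2) (ZMod 3) := !![0, 1; 1, 1]

/-- blocks of the fixed element of order five -/
def y11 : Matrix (Fin 2) (Fin 2) (ZMod 3) := !![2, 0; 0, 2]
/-- blocks of the fixed element of order five -/
def y12 : Matrix (Fin 2) (Fin 2) (ZMod 3) := !![0, 2; 2, 0]
/-- blocks of the fixed element of order five -/
def y21 : Matrix (Fin 2) (Fin 2) (ZMod 3) := !![1, 0; 0, 2]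
/-- blocks of the fixed element of order five -/
def y22 : Matrix (Fin 2) (Fin 2) (ZMod 3) := !![2, 1; 2, 2]

/-- the check -/
def Chk (A S P P' Z Z' T R₁ R₂ R₃ R₄ : Matrix (Fin 2) (Fin 2) (ZMod 3)) : Prop :=
  (P * P' = 1 ∧ P' * P = 1) ∧ (Z * Z' = 1 ∧ Z' * Z = 1) ∧ P * cX * P' * Z = A ∧ Tᵀ = T ∧
  (R₁ * R₂ᵀ = R₂ * R₁ᵀ ∧ R₃ * R₄ᵀ = R₄ * R₃ᵀ ∧ R₁ * R₄ᵀ - R₂ * R₃ᵀ = 1 ∧ R₄ * R₁ᵀ - R₃ * R₂ᵀ = 1) ∧
  (Z * R₁ + Z * S * R₃ = R₁ * y11 + R₂ * y21 ∧ Z * R₂ + Z * S * R₄ = R₁ * y12 + R₂ * y22 ∧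
    T * Z * R₁ + (T * Z * S + Z'ᵀ) * R₃ = R₃ * y11 + R₄ * y21 ∧
    T * Z * R₂ + (T * Z * S + Z'ᵀ) * R₄ = R₃ * y12 + R₄ * y22)

instance (A S P P' Z Z' T R₁ R₂ R₃ R₄ : Matrix (Fin 2) (Fin 2) (ZMod 3)) :
    Decidable (Chk A S P P' Z Z' T R₁ R₂ R₃ R₄) := by unfold Chk; infer_instance

/-- check at index `i` -/
def ChkI (A S : Matrix (Fin 2) (Fin 2) (ZMod 3)) (i : ℕ) : Prop :=
  Chk A S (tb i 0) (tb i 1) (tb i 2) (tb i 3) (tb i 4) (tb i 5) (tb i 6) (tb i 7) (tb i 8)

instance (A S : Matrix (Fin 2) (Fin 2) (ZMod 3)) (i : ℕ) : Decidable (ChkI A S i) := by unfold ChkI; infer_instance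

theorem chk_all : ∀ t a b c : ZMod 3, ¬ (a = 0 ∧ b = 0 ∧ c = 0) →
    ChkI (cA t) (cS a b c) (t.val * 27 + a.val * 9 + b.val * 3 + c.val) := by
  (delta Cfsg.Agent.H140.TC.Sp.ChkI Cfsg.Agent.H140.TC.Sp.Chk; set_option synthInstance.maxSize 20000 in open scoped Cfsg.Agent.Lib.MatDec in decide +kernel)

/-- basis of a companion matrix -/
def cW (a b c d : ZMod 3) : Matrix (Fin 2) (Fin 2) (ZMod 3) :=
  if c ≠ 0 then !![1, a; 0, c] else if b ≠ 0 then !![0, b; 1, d] else !![1, a; 1, d]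

theorem comp_all : ∀ a b c d : ZMod 3, a * d - b * c = 1 → ¬ (b = 0 ∧ c = 0 ∧ a = d) →
    (cW a b c d 0 0 * cW a b c d 1 1 - cW a b c d 0 1 * cW a b c d 1 0 ≠ 0) ∧
      !![a, b; c, d] * cW a b c d = cW a b c d * cA (a + d) := by
  (delta Cfsg.Agent.H140.TC.Sp.cW Cfsg.Agent.H140.TC.Sp.cA; set_option synthInstance.maxSize 20000 in open scoped Cfsg.Agent.Lib.MatDec in (simp only [Cfsg.Agent.Lib.MatDec.sw_dec, Cfsg.Agent.Lib.MatDec.sw_ite, Cfsg.Agent.Lib.MatDec.sw_beq, Cfsg.Agent.Lib.MatDec.sw_bne]; decide +kernel))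

theorem fix_all : ∀ a b c : ZMod 3, cXᵀ * cS a b c * cX = cS a b c → a = 0 ∧ b = 0 ∧ c = 0 := by
  (delta Cfsg.Agent.H140.TC.Sp.cS; set_option synthInstance.maxSize 20000 in open scoped Cfsg.Agent.Lib.MatDec in decide +kernel)

theorem exists_cS {T : Matrix (Fin 2) (Fin 2) (ZMod 3)} (hT : Tᵀ = T) : ∃ a b c, T = cS a b c := by
  refine ⟨T 0 0, T 0 1, T 1 1, ?_⟩
  have h := congrFun (congrFun hT 0) 1
  rw [transpose_apply] at h
  ext i j
  (revert i j; simp only [cS, h, _root_.Fin.forall_fin_succ, Fin.isValue, _root_.Matrix.of_apply, _root_.Matrix.cons_val', _root_.Matrix.cons_val_fin_one, _root_.Matrix.cons_val_zero, _root_.Matrix.cons_val_succ, _root_.Fin.succ_zero_eq_one, _root_.IsEmpty.forall_iff, _root_.and_true, _root_.and_self])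

/-- invertible matrix from two-sided inverse -/
def mkGL (P P' : Matrix (Fin 2) (Fin 2) (ZMod 3)) (h : P * P' = 1) (h' : P' * P = 1) : GL (Fin 2) (ZMod 3) :=
  ⟨P, P', h, h'⟩

/-- the fixed element of determinant `-1` -/
def gX : GL (Fin 2) (ZMod 3) := mkGL cX !![-1, 1; 1, 0] (by decide +kernel) (by decide +kernel)

theorem conj_gX {l₁ l₂ : G 2 (ZMod 3)} (h₁ : l₁ ∈ Lo 2 (ZMod 3)) (h₂ : l₂ ∈ Lo 2 (ZMod 3)) :
    ∃ r : G 2 (ZMod 3), l₁ * lv gX * l₂ = r * lv gX * r⁻¹ := by
  have : Finite (G 2 (ZMod 3)) := inferInstance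
  obtain ⟨r, -, e⟩ := conj_of_fpf (Lo 2 (ZMod 3)) (lv gX) (fun r hr => Lo_conj gX hr) (fun r hr hc => by
    obtain ⟨T, hT, rfl⟩ := hr
    have h1 := lv_lo gX hT
    have h2 : (lv gX)⁻¹ * lo T hT * lv gX = lo T hT := by
      rw [mul_assoc, ← hc]; group
    rw [h2] at h1
    have h3 := lo_inj h1
    obtain ⟨a, b, c, rfl⟩ := exists_cS hT
    obtain ⟨ha, hb, hc'⟩ := fix_all a b c h3.symm
    subst ha hb hc'
    have h4 : cS 0 0 0 = (0 : Matrix (Fin 2) (Fin 2) (ZMod 3)) := by
      ext i j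
      fin_cases i <;> fin_cases j <;> rfl
    rw [lo_congr hT h4]
    exact lo_zero) (l₁ * (lv gX * l₂ * (lv gX)⁻¹)) (mul_mem h₁ (Lo_conj gX h₂))
  refine ⟨r, ?_⟩
  rw [← e]
  group

/-- the fixed element of order five -/
def gY : G 2 (ZMod 3) := ⟨fromBlocks y11 y12 y21 y22, by rw [mem_iff]; decide +kernel⟩

/-- the normal forms -/
theorem fac_normal (t : ZMod 3) {A : GL (Fin 2) (ZMod 3)} (hA : (A : Matrix (Fin 2) (Fin 2) (ZMod 3)) = cA t)
    {S : Matrix (Fin 2) (Fin 2) (ZMod 3)} (hS : Sᵀ = S) (hS0 : S ≠ 0) {l : G 2 (ZMod 3)} (hl : l ∈ Lo 2 (ZMod 3)) :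
    ∃ u v : G 2 (ZMod 3), l * lv A * up S hS = (u * lv gX * u⁻¹) * (v * gY * v⁻¹) := by
  obtain ⟨a, b, c, rfl⟩ := exists_cS hS
  have hne : ¬ (a = 0 ∧ b = 0 ∧ c = 0) := by
    rintro ⟨rfl, rfl, rfl⟩
    apply hS0
    ext i j
    fin_cases i <;> fin_cases j <;> rfl
  have hchk := chk_all t a b c hne
  rw [ChkI] at hchk
  generalize t.val * 27 + a.val * 9 + b.val * 3 + c.val = i at hchk
  generalize tb i 0 = P at hchk
  generalize tb i 1 = P' at hchk
  generalize tb i 2 = Z at hchk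
  generalize tb i 3 = Z' at hchk
  generalize tb i 4 = T at hchk
  generalize tb i 5 = R₁ at hchk
  generalize tb i 6 = R₂ at hchk
  generalize tb i 7 = R₃ at hchk
  generalize tb i 8 = R₄ at hchk
  obtain ⟨⟨p1, p2⟩, ⟨z1, z2⟩, hPA, hT, hR, e1, e2, e3, e4⟩ := hchk
  obtain ⟨gP, hgP⟩ : ∃ gP, gP = mkGL P P' p1 p2 := ⟨_, rfl⟩
  obtain ⟨gZ, hgZ⟩ : ∃ gZ, gZ = mkGL Z Z' z1 z2 := ⟨_, rfl⟩
  obtain ⟨r, hr⟩ : ∃ r : G 2 (ZMod 3), r.1 = fromBlocks R₁ R₂ R₃ R₄ := ⟨⟨_, mem_iff.2 hR⟩, rfl⟩
  have hZ : (gZ : Matrix (Fin 2) (Fin 2) (ZMod 3)) = Z := by rw [hgZ]; rfl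
  have hZi : ((gZ⁻¹ : GL (Fin 2) (ZMod 3)) : Matrix (Fin 2) (Fin 2) (ZMod 3)) = Z' := by rw [hgZ]; rfl
  have hAe : A = gP * gX * gP⁻¹ * gZ := by
    apply Units.ext
    rw [hA, ← hPA, hgP, hgZ]
    rfl
  have key : lo T hT * lv gZ * up (cS a b c) hS = r * gY * r⁻¹ := by
    rw [eq_mul_inv_iff_mul_eq]
    apply Subtype.ext
    show (fromBlocks 1 0 T 1 * fromBlocks (gZ : Matrix (Fin 2) (Fin 2) (ZMod 3)) 0 0
        ((gZ⁻¹ : GL (Fin 2) (ZMod 3)) : Matrix (Fin 2) (Fin 2) (ZMod 3))ᵀ * fromBlocks 1 (cS a b c) 0 1) * r.1 =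
      r.1 * fromBlocks y11 y12 y21 y22
    rw [hr, hZ, hZi]
    simp only [fromBlocks_multiply, Matrix.one_mul, Matrix.mul_one, Matrix.mul_zero, Matrix.zero_mul, add_zero,
      zero_add]
    rw [e1, e2, e3, e4]
  have hm : (lv gP)⁻¹ * l * lv gP ∈ Lo 2 (ZMod 3) := by
    have := Lo_conj gP⁻¹ hl
    rwa [map_inv, inv_inv] at this
  have hm' : (lv gP)⁻¹ * (lo T hT)⁻¹ * lv gP ∈ Lo 2 (ZMod 3) := by
    have := Lo_conj gP⁻¹ (inv_mem (lo_mem hT))
    rwa [map_inv, inv_inv] at this
  obtain ⟨s, hs⟩ := conj_gX hm hm'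
  refine ⟨lv gP * s, r, ?_⟩
  have e5 : l * lv A * up (cS a b c) hS = lv gP * (((lv gP)⁻¹ * l * lv gP) * lv gX * ((lv gP)⁻¹ * (lo T hT)⁻¹ * lv gP)) *
      (lv gP)⁻¹ * (lo T hT * lv gZ * up (cS a b c) hS) := by
    rw [hAe]; simp only [map_mul, map_inv]; group
  rw [e5, hs, key]
  group

/-- **`Sp_4(3)`** -/
theorem two_sp43 : ∃ x₀ y₀ : G 2 (ZMod 3), ∀ g : G 2 (ZMod 3), g ∉ Subgroup.center (G 2 (ZMod 3)) →
    ∃ u v : G 2 (ZMod 3), g = (u * x₀ * u⁻¹) * (v * y₀ * v⁻¹) := by
  refine ⟨lv gX, gY, fun g hg => ?_⟩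
  obtain ⟨t, A, C₁, D₁, E₁, htg, hC, hAdet, hAns⟩ := exists_corner (by norm_num) hg (Δ := 1) one_ne_zero
  obtain ⟨R, hR⟩ := exists_gl (M := A) (by rw [hAdet]; exact one_ne_zero)
  obtain ⟨T, S, hT, hS, e, hCS, -⟩ := gauss htg R hR
  have hS0 : S ≠ 0 := by
    rintro rfl
    exact hC (by rw [hCS, Matrix.mul_zero])
  obtain ⟨hdet, hcomm⟩ := comp_all (A 0 0) (A 0 1) (A 1 0) (A 1 1) (by rw [← hAdet, Matrix.det_fin_two])
    (by
      rintro ⟨h1, h2, h3⟩
      apply hAns (A 0 0)
      ext i j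
      (revert i j; simp only [h1, h2, h3, _root_.Fin.forall_fin_succ, Fin.isValue, _root_.Matrix.scalar_apply, _root_.Fin.succ_zero_eq_one, _root_.IsEmpty.forall_iff, _root_.and_true, _root_.Matrix.diagonal_apply_eq, _root_.ne_eq, _root_.zero_ne_one, _root_.not_false_eq_true, _root_.Matrix.diagonal_apply_ne, _root_.and_self, _root_.Fin.succ_ne_zero]))
  have hAe : !![A 0 0, A 0 1; A 1 0, A 1 1] = A := by
    ext i j
    fin_cases i <;> fin_cases j <;> rfl
  rw [hAe] at hcomm
  have hd0 : (cW (A 0 0) (A 0 1) (A 1 0) (A 1 1)).det ≠ 0 := by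
    rw [Matrix.det_fin_two]
    exact hdet
  obtain ⟨W, hW⟩ := exists_gl hd0
  obtain ⟨K, hK⟩ : ∃ K : GL (Fin 2) (ZMod 3), (K : Matrix (Fin 2) (Fin 2) (ZMod 3)) = cA (A 0 0 + A 1 1) :=
    exists_gl (by rw [cA, Matrix.det_fin_two_of]; simp only [_root_.Fin.isValue, _root_.MulZeroClass.zero_mul, _root_.mul_one, _root_.sub_neg_eq_add, _root_.zero_add, _root_.ne_eq, _root_.one_ne_zero, _root_.not_false_eq_true])
  have hRe : R = W * K * W⁻¹ := by
    rw [eq_mul_inv_iff_mul_eq]
    apply Units.ext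
    rw [Units.val_mul, Units.val_mul, hR, hW, hK, hcomm]
  have hup := lv_up W⁻¹ hS
  rw [map_inv, inv_inv] at hup
  obtain ⟨S', hS'⟩ : ∃ S', S' = ((W⁻¹ : GL (Fin 2) (ZMod 3)) : Matrix (Fin 2) (Fin 2) (ZMod 3)) * S *
    ((W⁻¹ : GL (Fin 2) (ZMod 3)) : Matrix (Fin 2) (Fin 2) (ZMod 3))ᵀ := ⟨_, rfl⟩
  have hS's : S'ᵀ = S' := by
    rw [hS', transpose_mul, transpose_mul, transpose_transpose, hS, Matrix.mul_assoc]
  have hup' : (lv W)⁻¹ * up S hS * lv W = up S' hS's := by
    rw [hup]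
    exact up_congr _ hS'.symm
  have hS'0 : S' ≠ 0 := by
    rintro rfl
    rw [up_zero] at hup'
    have h1 : up S hS = 1 := by
      have h2 : up S hS = lv W * ((lv W)⁻¹ * up S hS * lv W) * (lv W)⁻¹ := by group
      rw [h2, hup']; group
    have h2 := h1.trans up_zero.symm
    exact hS0 (up_inj h2)
  have hlm : (lv W)⁻¹ * lo T hT * lv W ∈ Lo 2 (ZMod 3) := by
    have := Lo_conj W⁻¹ (lo_mem hT)
    rwa [map_inv, inv_inv] at this
  obtain ⟨u, v, huv⟩ := fac_normal _ hK hS's hS'0 hlm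
  refine ⟨t⁻¹ * lv W * u, t⁻¹ * lv W * v, ?_⟩
  have e2 : g = t⁻¹ * (lv W * (((lv W)⁻¹ * lo T hT * lv W) * lv K * ((lv W)⁻¹ * up S hS * lv W)) * (lv W)⁻¹) * t := by
    have e3 : lv W * (((lv W)⁻¹ * lo T hT * lv W) * lv K * ((lv W)⁻¹ * up S hS * lv W)) * (lv W)⁻¹ = t * g * t⁻¹ := by
      rw [e, hRe]; simp only [map_mul, map_inv]; group
    rw [e3]; group
  rw [hup', huv] at e2
  rw [e2]
  group

/-- change of the field -/
def gmap {K L : Type*} [Field K] [Field L] (n : ℕ) (φ : K ≃+* L) : G n K ≃* G n L where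
  toFun g := ⟨g.1.map φ, SymplecticGroup.map_mem g.2 φ⟩
  invFun g := ⟨g.1.map φ.symm, SymplecticGroup.map_mem g.2 φ.symm⟩
  left_inv g := Subtype.ext (by
    show (g.1.map φ).map φ.symm = g.1
    rw [Matrix.map_map]
    ext i j
    exact φ.symm_apply_apply _)
  right_inv g := Subtype.ext (by
    show (g.1.map φ.symm).map φ = g.1
    rw [Matrix.map_map]
    ext i j
    exact φ.apply_symm_apply _)
  map_mul' g h := Subtype.ext (by
    show (g.1 * h.1).map φ = g.1.map φ * h.1.map φ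
    exact Matrix.map_mul)

/-- **`Sp_4(3)`**, any field with three elements -/
theorem two_sp43' {F : Type*} [Field F] [Finite F] (h3 : Nat.card F = 3) : ∃ x₀ y₀ : G 2 F, ∀ g : G 2 F,
    g ∉ Subgroup.center (G 2 F) → ∃ u v : G 2 F, g = (u * x₀ * u⁻¹) * (v * y₀ * v⁻¹) := by
  have := Fintype.ofFinite F
  have : Fact (Nat.Prime 3) := ⟨Nat.prime_three⟩
  let φ : ZMod 3 ≃+* F := ZMod.ringEquivOfPrime F Nat.prime_three (by rw [← Nat.card_eq_fintype_card, h3])
  let e : G 2 (ZMod 3) ≃* G 2 F := gmap 2 φ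
  obtain ⟨x₀, y₀, h⟩ := two_sp43
  refine ⟨e x₀, e y₀, fun g hg => ?_⟩
  obtain ⟨u, v, huv⟩ := h (e.symm g) (by
    intro hc
    apply hg
    rw [Subgroup.mem_center_iff] at hc ⊢
    intro k
    apply e.symm.injective
    rw [map_mul, map_mul, hc])
  refine ⟨e u, e v, ?_⟩
  apply e.symm.injective
  rw [huv]
  simp

end Cfsg.Agent.H140.TC.Sp

namespace Cfsg.Agent.H140.TC

open Cfsg.Agent.H140.TC.Sp

/-- **`PSp_2m(F)`** -/
theorem tc_isPSp {G : Type*} [Group G] (h : Cfsg.IsPSp G) : TC G := by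
  obtain ⟨F, _, _, m, hm, h2, ⟨e⟩⟩ := h
  refine TC.of_equiv e ?_
  by_cases hex : 3 ≤ m ∨ 4 ≤ Nat.card F
  · exact tc_psp hm F hex
  · have hm2 : m = 2 := by omega
    subst hm2
    have h3 := h2 rfl
    rw [← Nat.card_eq_fintype_card] at h3
    exact tc_of_two_sp (two_sp43' (by omega))

end Cfsg.Agent.H140.TC
end

private theorem dce_c1ca787cceae : _root_.True := by
  try have : _root_.True := by simp only [_root_.Cfsg.Agent.H140.TC.Sp.cS.eq_1]
  try have : _root_.True := by simp only [_root_.Cfsg.Agent.H140.TC.Sp.cA.eq_1]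
  try have : _root_.True := by simp only [_root_.Cfsg.Agent.H140.TC.Sp.ChkI.eq_1]
  exact _root_.True.intro
end

-- part: H334/TC/Rows
section
prune_inst 0x189040300000000000000000010000004010000
set_option linter.all false
open scoped Cfsg.Agent.FastGrp

-- part: H334/TC/Eng
section
/-!
# Two fixed classes in the Mathieu groups (S4173, S2464; helper334): the engine
-/

set_option autoImplicit false
set_option linter.unusedSectionVars false

namespace Cfsg.Agent.H334.TC

open Cfsg Cfsg.Agent.H334.Ore.Mat Cfsg.Agent.H729.Trans Cfsg.Agent.H334.Ore.PwB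
open Cfsg.Agent.SporadicStructure.M24El Cfsg.Agent.SporadicA.GolayPerm Cfsg.Agent.SporadicA.GolayBase

/-- The check of `r.c = a * b`, `a = u x u⁻¹`, `b = v y v⁻¹`; `w = (a, u, b, v)`. -/
def chkU (F : List ℕ) (x y : ℕ) (r : Rec) (w : ℕ × ℕ × ℕ × ℕ) : Bool :=
  Nat.beq (pcomp w.1 w.2.2.1) r.c && (Nat.beq (pcomp w.1 w.2.1) (pcomp w.2.1 x) &&
    (Nat.beq (pcomp w.2.2.1 w.2.2.2) (pcomp w.2.2.2 y) && (inG F w.1 && (inG F w.2.1 &&
      (inG F w.2.2.1 && inG F w.2.2.2)))))

/-- The check of a list. -/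
def chkAllU (F : List ℕ) (x y : ℕ) : List Rec → List (ℕ × ℕ × ℕ × ℕ) → Bool
  | [], [] => true
  | r :: D, w :: W => chkU F x y r w && chkAllU F x y D W
  | _, _ => false

theorem exists_chkU {F : List ℕ} {x y : ℕ} : ∀ {D : List Rec} {W : List (ℕ × ℕ × ℕ × ℕ)}, chkAllU F x y D W = true →
    ∀ r ∈ D, ∃ w, chkU F x y r w = true := by
  intro D
  induction D with
  | nil => intro W _ r hr; exact absurd hr List.not_mem_nil
  | cons r D ih =>
    intro W h s hs
    cases W with
    | nil => exact Bool.noConfusion h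
    | cons w W =>
      have h1 : chkU F x y r w = true ∧ chkAllU F x y D W = true := by
        have h2 : (chkU F x y r w && chkAllU F x y D W) = true := h
        rwa [Bool.and_eq_true] at h2
      rcases List.mem_cons.1 hs with rfl | hs
      · exact ⟨w, h1.1⟩
      · exact ih h1.2 s hs

/-- The check of an element of order dividing `n`, `n` prime to `6`. -/
def chkO (F : List ℕ) (x n : ℕ) : Bool := inG F x && (Nat.beq (ppw x n) idP && Nat.beq (Nat.gcd n 6) 1)

theorem row3_of_data {G : Type*} [Group G] [Finite G] {φ : G →* M24} (hφ : Function.Injective φ) {F : List ℕ}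
    (hmem : ∀ c : ℕ, ok c = true → (∀ b ∈ F, papp c b = b) → ∃ x : G, φ x = el c) (D : List Rec) {x n : ℕ}
    {W : List (ℕ × ℕ × ℕ × ℕ)} (hn : n.Prime) (hW : chkAllU F x x D W = true) (hx : chkO F x n = true)
    (h1x : (List.range 24).any (fun i => !(Nat.beq (papp x i) i)) = true)
    (hcov : ∀ g : G, g = 1 ∨ ∃ r ∈ D, ∃ x : G, φ x = el r.c ∧ IsConj x g) : Cfsg.Agent.H210.TC.Row3 G := by
  unfold chkO at hx
  rw [Bool.and_eq_true, Bool.and_eq_true] at hx
  have h8 := inG_iff hx.1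
  obtain ⟨X, hX⟩ := hmem _ h8.1 h8.2
  have hox := h8.1
  have hX1 : X ≠ 1 := by
    rintro rfl
    obtain ⟨i, hi, h⟩ := List.any_eq_true.1 h1x
    have h2 := im_el hox (List.mem_range.1 hi)
    rw [← hX, map_one, im_one (List.mem_range.1 hi)] at h2
    rw [← h2, Nat.beq_refl] at h
    exact Bool.noConfusion h
  have hXn : X ^ n = 1 := by
    apply hφ
    rw [map_pow, hX, ← (el_ppw h8.1 n).2, Nat.eq_of_beq_eq_true hx.2.1, el_idP, map_one]
  have : Fact n.Prime := ⟨hn⟩
  have hord : orderOf X = n := orderOf_eq_prime hXn hX1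
  refine Cfsg.Agent.H210.TC.Row3.of_sq (x := X) (by rw [hord]; exact hn)
    (by rw [hord]; exact Nat.eq_of_beq_eq_true hx.2.2) fun g hg => ?_
  rcases hcov g with rfl | ⟨r, hr, c, hc, hcg⟩
  · exact absurd rfl hg
  · obtain ⟨w, hw⟩ := exists_chkU hW r hr
    unfold chkU at hw
    rw [Bool.and_eq_true, Bool.and_eq_true, Bool.and_eq_true, Bool.and_eq_true, Bool.and_eq_true, Bool.and_eq_true] at hw
    obtain ⟨h1, h2, h3, ha, hu, hb, hv⟩ := hw
    obtain ⟨a, ha'⟩ := hmem _ (inG_iff ha).1 (inG_iff ha).2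
    obtain ⟨u, hu'⟩ := hmem _ (inG_iff hu).1 (inG_iff hu).2
    obtain ⟨b, hb'⟩ := hmem _ (inG_iff hb).1 (inG_iff hb).2
    obtain ⟨v, hv'⟩ := hmem _ (inG_iff hv).1 (inG_iff hv).2
    have ea : a * u = u * X := by
      apply hφ
      rw [map_mul, map_mul, ha', hu', hX, ← el_pcomp (inG_iff ha).1 (inG_iff hu).1, Nat.eq_of_beq_eq_true h2,
        el_pcomp (inG_iff hu).1 hox]
    have eb : b * v = v * X := by
      apply hφ
      rw [map_mul, map_mul, hb', hv', hX, ← el_pcomp (inG_iff hb).1 (inG_iff hv).1, Nat.eq_of_beq_eq_true h3,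
        el_pcomp (inG_iff hv).1 hox]
    have ec : c = a * b := by
      apply hφ
      rw [map_mul, ha', hb', hc, ← el_pcomp (inG_iff ha).1 (inG_iff hb).1, Nat.eq_of_beq_eq_true h1]
    obtain ⟨k, hk⟩ := isConj_iff.1 hcg
    refine ⟨k * u, k * v, ?_⟩
    have ea' : a = u * X * u⁻¹ := by rw [← ea, mul_inv_cancel_right]
    have eb' : b = v * X * v⁻¹ := by rw [← eb, mul_inv_cancel_right]
    rw [← hk, ec, ea', eb']
    group

end Cfsg.Agent.H334.TC
end

-- part: H334/TC/M22
section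
/-!
# One fixed class for `M22` (S4173, S2464, S2452; helper334): the data
-/

set_option autoImplicit false
set_option Elab.async false

namespace Cfsg.Agent.H334.TC.M22T

open Cfsg.Agent.H334.Ore Cfsg.Agent.H334.Ore.Mat Cfsg.Agent.H334.Ore.PwB Cfsg.Agent.H334.TC

def X : ℕ := 973927421301535459106453854890594400

def W : List (ℕ × ℕ × ℕ × ℕ) := [(964686758106578551770017657193711680, 975514760955473150332378702496211008, 968855309618167736727450553066693184, 978354570402364371630312473405706304),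
  (963747937917840802435262913547131520, 969239830041229344936049161311298240, 965890822977207968023468887089067456, 978329692106316285575188279644834880),
  (975121942807662244022793019297175232, 973764151997393966964606972653159072, 979284730111389692634733192191235584, 963224790508668744428302719983984704),
  (983469565673555262003976897451707616, 958128684069464874606985576244988544, 971498310404395361723633813185445952, 966179837287314584282477190611354752),
  (958270985453689715229406508674764480, 961919265525920739417432785932696928, 981438601422012161030060784353656512, 978357692489226938020272445966499904),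
  (965058771331994470530942063150126400, 967112960824892674894887256976872672, 983457884175860601735050160531417152, 977062443172569160574087399385516160),
  (976735546849477483226790890987313472, 978807641889231118036814362731332704, 967884726615402721134761780234952864, 970192004751370140445208468701494304),
  (958735955323870519600351720973319360, 963795395532186070587562875720157344, 975612210391869818947751214383279616, 968588388233980157217884057262999616),
  (976974134100052125076715248071296416, 979369450322567600748732234738342944, 979097080039007810382275951858063680, 966300349053403612126268089571820576),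
  (963837997091745943356094340972194976, 974416836540036963379502029125993664, 981670134240625275355789257721594464, 968461040845350489055836381231039648),
  (980946480020929109696130953222598912, 974262589463123050809132420154204800, 980294787024296515006523737711495648, 969930263421173571305956755722705952)]

private noncomputable def _root_.Cfsg.Agent.GolayF.f0 : {f // @Cfsg.Agent.H334.TC.chkAllU = f} :=
  ⟨_, by delta Cfsg.Agent.H334.Ore.Mat.inG Cfsg.Agent.H334.TC.chkAllU Cfsg.Agent.H334.TC.chkAllU._f Cfsg.Agent.H334.TC.chkU; rewrite [Cfsg.Agent.GolayF.papp_eq, Cfsg.Agent.GolayF.pcomp_eq, Cfsg.Agent.GolayF.ok_eq]; exact rfl⟩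

theorem hW : chkAllU M22Data.F X X M22Data.D W = true := by (rewrite [Cfsg.Agent.GolayF.f0.2]; decide +kernel)

private noncomputable def _root_.Cfsg.Agent.GolayF.f1 : {f // @Cfsg.Agent.H334.TC.chkO = f} :=
  ⟨_, by delta Cfsg.Agent.H334.Ore.Mat.inG Cfsg.Agent.H334.Ore.PwB.ppw Cfsg.Agent.H334.Ore.PwB.ppw._f Cfsg.Agent.H334.TC.chkO; rewrite [Cfsg.Agent.GolayF.papp_eq, Cfsg.Agent.GolayF.pcomp_eq, Cfsg.Agent.GolayF.ok_eq]; exact rfl⟩

theorem hX : chkO M22Data.F X 11 = true := by (rewrite [Cfsg.Agent.GolayF.f1.2]; decide +kernel)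


theorem h1 : (List.range 24).any (fun i => !(Nat.beq (Cfsg.Agent.SporadicA.GolayPerm.papp X i) i)) = true := by
  (rewrite [Cfsg.Agent.GolayF.papp_eq]; decide +kernel)

end Cfsg.Agent.H334.TC.M22T
end

-- part: H334/TC/M23
section
/-!
# One fixed class for `M23` (S4173, S2464, S2452; helper334): the data
-/

set_option autoImplicit false
set_option Elab.async false

namespace Cfsg.Agent.H334.TC.M23T

open Cfsg.Agent.H334.Ore Cfsg.Agent.H334.Ore.Mat Cfsg.Agent.H334.Ore.PwB Cfsg.Agent.H334.TC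

def X : ℕ := 982252470930009687161553335856700853

def W : List (ℕ × ℕ × ℕ × ℕ) := [(983314558965791705375801854165069198, 959492689910529724500680581078634887, 960994853479373877475745753548232933, 972483494155271159849957753199636736),
  (967513074175575412654188235726438868, 967981151451437089974572838711382158, 962695024885321253985823152890550979, 980186808555743802276554206165083360),
  (963596014260450268246791528089947723, 962620257463528856519944154453313729, 955928155541370478580066235147425322, 961003994467273053877490805100329120),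
  (969998057387603836029027896554692084, 959703548972236571724120317469143687, 977672105551838451791832964365601206, 978360223460319703021202639393436288),
  (972259068197164072560586854484285802, 968375501039834206163941446392338709, 962161004337484385742973394146835858, 972989341370129459705232104812104832),
  (974314215058557298779807014938945063, 972501864721912438440696397890651747, 980262979130346845043844086864985345, 965820555294065366747761561360341600),
  (982683280227504080555961595790109028, 984454386185521156172359302461332806, 968383815088866644091750823143876134, 971227710191044817222727460658916896),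
  (959542307396257089812499659257895376, 968500848816352961827218757375902006, 975033269544449860032406774065831598, 976731605487744298121147722600894688),
  (965380999964889145765914731225462860, 956006468765773614354283123218361428, 979574720448574176872605919478874473, 968746512961654513929283366433492096),
  (983065801126021720669194916352774767, 979019753121168139407100903207175301, 965118430235829526042636985653962926, 958559975976790699461536080462029376),
  (957352931461965983410171332249333773, 965006801856486498008632918897973312, 983022798234368208832707023466076395, 975303969827472754940620876636817536),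
  (956174073494065260452794809865034023, 976978326438828816197551186093811918, 962341552436398548611422818493126670, 967653622539726375611761826682049600),
  (963563234605365392185673615361460615, 972561398995621257680976154154020224, 958637992829929812346003958920675534, 968938054612371522296675673408330368),
  (980549504905278023965878011533263339, 981604380045173113687680537455069355, 982088860992438442395760492084402510, 971539431921516796572931761265387680),
  (976449272401627316413423098777386597, 979154446911904047730804361055939732, 967762911797846131384736897164301555, 969136679480723150522309592408774912),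
  (963272639282305265828335061964082861, 957437825935949566950522906205466726, 976605247282068319428031011411674386, 971716981688268995024908104417453312)]

theorem hW : chkAllU M23Data.F X X M23Data.D W = true := by (rewrite [Cfsg.Agent.GolayF.f0.2]; decide +kernel)

theorem hX : chkO M23Data.F X 23 = true := by (rewrite [Cfsg.Agent.GolayF.f1.2]; decide +kernel)


theorem h1 : (List.range 24).any (fun i => !(Nat.beq (Cfsg.Agent.SporadicA.GolayPerm.papp X i) i)) = true := by
  (rewrite [Cfsg.Agent.GolayF.papp_eq]; decide +kernel)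

end Cfsg.Agent.H334.TC.M23T
end

-- part: H334/TC/M24
section
/-!
# One fixed class for `M24` (S4173, S2464, S2452; helper334): the data
-/

set_option autoImplicit false
set_option Elab.async false

namespace Cfsg.Agent.H334.TC.M24T

open Cfsg.Agent.H334.Ore Cfsg.Agent.H334.Ore.Mat Cfsg.Agent.H334.Ore.PwB Cfsg.Agent.H334.TC

def X : ℕ := 798750777926542184211457386217854674

def W : List (ℕ × ℕ × ℕ × ℕ) := [(15917991956507400681083734801952197, 50280671861699087416474045030445554, 752124206032913854654077077968475671, 644674199555108178478152204782285856),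
  (29351604729357683579074640982058054, 106687117715830317888238676619657873, 391068329757175930542852802482997484, 362716843168076321487116043762161824),
  (757326179959540338610482891157281109, 687596543135656083002703993449681555, 753331396784624605208392922864990291, 63022620699823230579213672684953888),
  (555063759704639130926840788489883781, 316016805329460688743351042643667632, 675216680036043104116898708777636512, 667524154277273879154271337901079905),
  (112409566361426132448653236319233393, 545204656362512556204771407556713641, 225300239512965994830410279358180033, 648688069279556408840515303219280096),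
  (465343652710265902759472863499268782, 860192967190584386145068706020033682, 291238581386863223222225657726109293, 653075423335867909632701280578376288),
  (269554888181263190824483168386826804, 920673700559994744213137727701454144, 927537567985361499522589456680340897, 174453641796632630629174636613997888),
  (582843462619472823725455657892419239, 706896032371673259356012892130517673, 170117941057681439763251969216981526, 815851555691902908750231251506988192),
  (134232161736203595471240649398371372, 926221879972954259648562059590928896, 418005809812824854357348925121758607, 305180880054109020209205552452552064),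
  (843061188173696025335694083333146965, 666404126853395594453058949257742767, 72174341878525989153229777414695182, 632866577921208180672990487279356544),
  (304074090823280884546252545229115794, 484965137192081907295720705590638738, 878806952071679953333856023678226836, 172889859970121418747090437698661056),
  (815637671598508213061443905632210337, 517976706840118466421236076902809845, 295156835560682373246216798859921556, 970071192208502291846854397156074624),
  (560206833642354842432842051446147811, 417021809877054045045266196080905398, 818013057298233155203757425768341932, 833993128838565104528734354951813216),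
  (28906476150880081730644114983564945, 760315322521404426919772259790459397, 752372815712898558292661615335855244, 136853355982243514876504127571153408),
  (638276866385816642474971465397782948, 268786349069567734172155292085170934, 487643041693884488291981816495355182, 404108212708176090060863391093248704),
  (548296490257765822300583146287745172, 4237286016278209595375914573213153, 644157369777781765078047612712897847, 268103139473574229196600853447386272),
  (505137231984213066996966722512790167, 552636385633633383142763590645383523, 637402636959564231817414468783679944, 651703145646121247132830506773141024),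
  (68945507567570104015060316355007563, 560427790877325852881682734716784168, 382955561963715847924384654631259494, 312498857385588780549259000852593920),
  (938080839021811929721294384786779650, 683315896732814572499424699922231411, 69746436977197961087936592161903876, 390088499194182435044747033686811264),
  (417225258133258633763665470570058755, 256495342513663426554667507890241900, 759517268661708348057962110251245588, 392168535384673790019793279290463424),
  (226241013214711736234001364180774402, 258976781958355861596811936957826144, 70100612809882706838820980705023308, 544845751033366481166610497012280960),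
  (921158950784272519706157489873198700, 425834266052663688863430678299130085, 510201045719576069894638229423626891, 861233473082370194884084072724375648),
  (769867316432475039829796386193985859, 773884578459482265193502509137017930, 729619644371176043805635606135098468, 689505946829286543578828782416104512),
  (251353733197746363392567230999315757, 569895365533607843833871443200432496, 507926765292001631782476551131111984, 44914822138732289054637956794751328),
  (982122449266211917329657811876222288, 299334626288596122503779950625478275, 335454977388978470666362635955941611, 591398910250863939812011702846902304)]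

theorem hW : chkAllU M24Data.F X X M24Data.D W = true := by (rewrite [Cfsg.Agent.GolayF.f0.2]; decide +kernel)

theorem hX : chkO M24Data.F X 23 = true := by (rewrite [Cfsg.Agent.GolayF.f1.2]; decide +kernel)


theorem h1 : (List.range 24).any (fun i => !(Nat.beq (Cfsg.Agent.SporadicA.GolayPerm.papp X i) i)) = true := by
  (rewrite [Cfsg.Agent.GolayF.papp_eq]; decide +kernel)

end Cfsg.Agent.H334.TC.M24T
end

-- part: H334/TC/Rows
section
/-!
# One fixed class in `M22`, `M23`, `M24` (S4173, S2464, S2452; helper334)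

Every nonidentity element is a product of two conjugates of `x`, `x` in 11A (`M22`), 23A (`M23`), 23A (`M24`).
-/

set_option autoImplicit false

namespace Cfsg.Agent.H334.TC

open Cfsg Cfsg.Agent.H334.Ore Cfsg.Agent.H210.TC

/-- **The row `M22`.** -/
theorem row3_m22 {S : Type*} [Group S] (h : Spor.IsoM22 S) : Row3 S := by
  obtain ⟨e⟩ := h
  exact Row3.of_equiv e
    (row3_of_data Cfsg.Agent.H729.M22Deg.inc_injective Ore.M22.hmem M22Data.D (by norm_num) M22T.hW M22T.hX M22T.h1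
      Ore.M22.cov)

/-- **The row `M23`.** -/
theorem row3_m23 {S : Type*} [Group S] (h : Spor.IsoM23 S) : Row3 S := by
  obtain ⟨e⟩ := h
  exact Row3.of_equiv e
    (row3_of_data Ore.M23.inc23_injective Ore.M23.hmem M23Data.D (by norm_num) M23T.hW M23T.hX M23T.h1 Ore.M23.cov)

/-- **The row `M24`.** -/
theorem row3_m24 {S : Type*} [Group S] (h : Spor.IsoM24 S) : Row3 S := by
  obtain ⟨e⟩ := h
  exact Row3.of_equiv e
    (row3_of_data Ore.M24R.id_injective Ore.M24R.hmem M24Data.D (by norm_num) M24T.hW M24T.hX M24T.h1 Ore.M24R.cov)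

end Cfsg.Agent.H334.TC
end
end

-- part: H258/TC/Co2
section
set_option linter.all false
open scoped Cfsg.Agent.FastGrp

/-!
# `Co2` is covered by two fixed classes of elements of order 23 (helper258)

* `ord23` : every element of order 23 is conjugate to `r` or `r⁻¹`, `r` one fixed word;
* `prd23` : for every `a` of order 23 and every `g ≠ 1` : `g = (u a u⁻¹) (v a⁻¹ v⁻¹)`;
* `tc_co2` : the row of `Co2`.
-/

set_option autoImplicit false
set_option maxRecDepth 1000000

namespace Cfsg.Agent.H258.TC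

open Cfsg Cfsg.Agent.H633.Ore Cfsg.Agent.H68.Ore.Words Cfsg.Agent.H612.Ore.CoTwo23
open Cfsg.Agent.H258.TwoB (pwZ pwL pwZ_eq rp_pw)

/-- `g` is a product of a conjugate of `a` and a conjugate of `a⁻¹` -/
def Prd {G : Type*} [Group G] (a g : G) : Prop := ∃ u v : G, g = (u * a * u⁻¹) * (v * a⁻¹ * v⁻¹)

theorem Prd.conj {G : Type*} [Group G] {a g : G} (h : Prd a g) (x : G) : Prd a (x * g * x⁻¹) := by
  obtain ⟨u, v, rfl⟩ := h
  exact ⟨x * u, x * v, by group⟩

theorem Prd.inv {G : Type*} [Group G] {a g : G} (h : Prd a g) : Prd a g⁻¹ := by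
  obtain ⟨u, v, rfl⟩ := h
  exact ⟨v, u, by group⟩

theorem Prd.of_comm {G : Type*} [Group G] {a A B : G} (h : (∃ x, A = x * a * x⁻¹) ∨ ∃ x, A = x * a⁻¹ * x⁻¹) :
    Prd a (A * B * A⁻¹ * B⁻¹) := by
  rcases h with ⟨x, rfl⟩ | ⟨x, rfl⟩
  · exact ⟨x, B * x, by group⟩
  · refine ⟨x * a⁻¹ * x⁻¹ * B * x, x, ?_⟩
    group

/-- the word of order 23 -/
def p50 : List ℕ × List ℕ := Cfsg.Agent.H68.Ore.Co2Words.L.getD 50 ([], [])

/-- the other words -/
def L' : List (List ℕ × List ℕ) := Cfsg.Agent.H68.Ore.Co2Words.L.filter fun p => !(p == ([], [])) && !(p == p50)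

/-- check of `r ^ 23 ≠ 1` -/
noncomputable def chk23 (gs : ℕ → List ℕ) (id : List ℕ) (L : List (List ℕ × List ℕ)) : Bool :=
  List.rec true (fun p _ ih => wF gs (cw p).reverse id fun R => pwZ R 23 id fun X =>
    cond (Nat.beq (linL X 1) 1) false ih) L

theorem mem_L' {p : List ℕ × List ℕ} (hp : p ∈ Cfsg.Agent.H68.Ore.Co2Words.L) : p = ([], []) ∨ p = p50 ∨ p ∈ L' := by
  by_cases h1 : p = ([], [])
  · exact Or.inl h1
  by_cases h2 : p = p50
  · exact Or.inr (Or.inl h2)
  right; right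
  rw [L', List.mem_filter]
  refine ⟨hp, ?_⟩
  simp [h1, h2]

section

variable {G : Type*} [Group G] {Y : Type*} [MulAction G Y] (M : Mdl G Y) {tt : ℕ → G} {gs : ℕ → List ℕ}

theorem sound23 (hgs : ∀ k, M.Rp (gs k) (tt k)) (hy : ∃ y : Y, M.cd y = 1) : ∀ L : List (List ℕ × List ℕ),
    chk23 gs (idL M.w) L = true → ∀ p ∈ L, wd tt (cw p) ^ 23 ≠ 1 := by
  intro L
  induction L with
  | nil => intro _ p hp; exact absurd hp List.not_mem_nil
  | cons q L ih =>
    intro h p hp
    have h' : (wF gs (cw q).reverse (idL M.w) fun R => pwZ R 23 (idL M.w) fun X =>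
      cond (Nat.beq (linL X 1) 1) false (chk23 gs (idL M.w) L)) = true := h
    rw [wF_eq, pwZ_eq] at h'
    cases h1 : Nat.beq (linL (pwL (mW gs (cw q).reverse (idL M.w)) 23 (idL M.w)) 1) 1
    swap
    · rw [h1] at h'; exact absurd h' Bool.false_ne_true
    rw [h1, cond_false] at h'
    rcases List.mem_cons.1 hp with h2 | h2
    · subst h2
      intro hr
      obtain ⟨y, hy⟩ := hy
      have h8 := rp_pw M (rp_wd M hgs (cw p)) 23 y
      rw [hr, one_smul, hy] at h8
      rw [← h8] at h1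
      exact absurd h1 (by decide)
    · exact ih h' p h2

/-- soundness of the table of helper612, with the first member of order 23 -/
theorem soundI (hgs : ∀ k, M.Rp (gs k) (tt k)) (htt : ∀ k, tt k * tt k = 1) (hy : ∃ y : Y, M.cd y = 1) {a b A B : List ℕ}
    (h : chkI gs (idL M.w) a b A B = true) : ∃ A B : G, wd tt (cw (a, b)) = A * B * A⁻¹ * B⁻¹ ∧ orderOf A = 23 := by
  unfold chkI at h
  rw [wF_eq, wF_eq, wF_eq] at h
  cases h1 : beqL (mW gs (cw (a, b)).reverse (idL M.w)) (mW gs (cw (A, B)).reverse (idL M.w))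
  · rw [h1] at h; exact absurd h Bool.false_ne_true
  rw [h1] at h
  have h1 := eq_of_beqL h1
  have e1 : wd tt (cw (a, b)) = wd tt (cw (A, B)) := by
    refine eq_of_rp M (rp_wd M hgs _) ?_
    rw [h1]
    exact rp_wd M hgs _
  have hX := rp_wd M hgs A
  generalize mW gs A.reverse (idL M.w) = X at h hX
  cases h2 : Nat.beq (linL X 1) 1
  swap
  · rw [h2] at h; exact absurd h Bool.false_ne_true
  rw [h2] at h
  obtain ⟨X', e3, h3⟩ := rp_pow M hX (β := Bool) fun X23 => beqL X23 (idL M.w)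
  have h4 : beqL X' (idL M.w) = true := by rw [← e3]; exact h
  have h5 : (wd tt A) ^ 23 = 1 := by
    refine eq_of_rp M h3 ?_
    rw [eq_of_beqL h4]
    exact Mdl.Rp.one M
  have h6 : wd tt A ≠ 1 := by
    intro h7
    obtain ⟨y, hy⟩ := hy
    have h8 := hX y
    rw [h7, one_smul, hy] at h8
    rw [← h8] at h2
    exact absurd h2 (by decide)
  have : Fact (Nat.Prime 23) := ⟨by norm_num⟩
  exact ⟨wd tt A, wd tt B, by rw [e1, wd_cw htt], orderOf_eq_prime h5 h6⟩

/-- all elements of order 23 are conjugate to one word or its inverse -/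
theorem ord_of (hgs : ∀ k, M.Rp (gs k) (tt k)) (hy : ∃ y : Y, M.cd y = 1) (h23 : chk23 gs (idL M.w) L' = true)
    (hc : ∀ g : G, ∃ w ∈ Cfsg.Agent.H68.Ore.Co2Words.L.map cw, IsConj (wd tt w) g ∨ IsConj (wd tt w)⁻¹ g) {g : G}
    (hg : orderOf g = 23) : IsConj (wd tt (cw p50)) g ∨ IsConj (wd tt (cw p50))⁻¹ g := by
  obtain ⟨w, hw, h⟩ := hc g
  obtain ⟨p, hp, rfl⟩ := List.mem_map.1 hw
  have hor : orderOf (wd tt (cw p)) = 23 := by
    rw [← hg]
    rcases h with h | h
    · obtain ⟨x, rfl⟩ := isConj_iff.1 h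
      exact (MulEquiv.orderOf_eq (MulAut.conj x) (wd tt (cw p))).symm
    · obtain ⟨x, rfl⟩ := isConj_iff.1 h
      rw [← orderOf_inv (wd tt (cw p))]
      exact (MulEquiv.orderOf_eq (MulAut.conj x) (wd tt (cw p))⁻¹).symm
  rcases mem_L' hp with h1 | h1 | h1
  · exfalso
    have h2 : wd tt (cw p) = 1 := by rw [h1]; rfl
    rw [h2, orderOf_one] at hor
    norm_num at hor
  · rw [← h1]; exact h
  · exfalso
    refine sound23 M hgs hy L' h23 p h1 ?_
    rw [← hor]
    exact pow_orderOf_eq_one _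

/-- **two fixed classes of order 23** -/
theorem prd_of (hgs : ∀ k, M.Rp (gs k) (tt k)) (htt : ∀ k, tt k * tt k = 1) (hy : ∃ y : Y, M.cd y = 1)
    (hT : chkAll gs (idL M.w) T = true) (h23 : chk23 gs (idL M.w) L' = true)
    (hc : ∀ g : G, ∃ w ∈ Cfsg.Agent.H68.Ore.Co2Words.L.map cw, IsConj (wd tt w) g ∨ IsConj (wd tt w)⁻¹ g) {a : G}
    (ha : orderOf a = 23) {g : G} (hg : g ≠ 1) : Prd a g := by
  have key : ∀ T : List (List ℕ × List ℕ × List ℕ × List ℕ), chkAll gs (idL M.w) T = true → ∀ t ∈ T,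
      chkI gs (idL M.w) t.1 t.2.1 t.2.2.1 t.2.2.2 = true := by
    intro T
    induction T with
    | nil => intro _ t ht; exact absurd ht List.not_mem_nil
    | cons s T ih =>
      intro h t ht
      have h' : cond (chkI gs (idL M.w) s.1 s.2.1 s.2.2.1 s.2.2.2) (chkAll gs (idL M.w) T) false = true := h
      cases h1 : chkI gs (idL M.w) s.1 s.2.1 s.2.2.1 s.2.2.2
      · rw [h1] at h'; exact absurd h' Bool.false_ne_true
      · rw [h1] at h'
        rcases List.mem_cons.1 ht with h2 | h2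
        · rw [h2]; exact h1
        · exact ih h' t h2
  have hcl : ∀ A : G, orderOf A = 23 → (∃ x, A = x * a * x⁻¹) ∨ ∃ x, A = x * a⁻¹ * x⁻¹ := by
    intro A hA
    generalize hr : wd tt (cw p50) = r
    have h1 := ord_of M hgs hy h23 hc ha
    have h2 := ord_of M hgs hy h23 hc hA
    rw [hr] at h1 h2
    rcases h1 with h1 | h1 <;> rcases h2 with h2 | h2 <;> obtain ⟨x, hx⟩ := isConj_iff.1 h1 <;>
      obtain ⟨y, hy⟩ := isConj_iff.1 h2
    · left; exact ⟨y * x⁻¹, by rw [← hx, ← hy]; group⟩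
    · right; exact ⟨y * x⁻¹, by rw [← hx, ← hy]; group⟩
    · right; exact ⟨y * x⁻¹, by rw [← hx, ← hy]; group⟩
    · left; exact ⟨y * x⁻¹, by rw [← hx, ← hy]; group⟩
  obtain ⟨w, hw, hg'⟩ := hc g
  obtain ⟨p, hp, rfl⟩ := List.mem_map.1 hw
  have h3 : Prd a (wd tt (cw p)) := by
    rcases T_L p hp with h1 | ⟨t, ht, h1⟩
    · exfalso
      have h2 : wd tt (cw p) = 1 := by rw [h1]; rfl
      rw [h2] at hg'
      apply hg
      rcases hg' with hg' | hg'
      · rwa [isConj_one_right] at hg'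
      · rwa [inv_one, isConj_one_right] at hg'
    · obtain ⟨A, B, e, hA⟩ := soundI M hgs htt hy (key T hT t ht)
      rw [h1] at e
      rw [e]
      exact Prd.of_comm (hcl A hA)
  rcases hg' with h | h
  · obtain ⟨x, rfl⟩ := isConj_iff.1 h
    exact h3.conj x
  · obtain ⟨x, rfl⟩ := isConj_iff.1 h
    exact h3.inv.conj x

end

/-! ### `Co2` -/

theorem chkAll_ok : chkAll Co2.GG (idL 22) T = true := by
  delta chkAll chkI pow23
  rewrite [show @wF Bool = _ from LinFast.w_eq]
  simp only [LinFast.mul_eq]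
  decide +kernel

theorem chk23_ok : chk23 Co2.GG (idL 22) L' = true := by
  delta chk23
  rewrite [show @wF Bool = _ from LinFast.w_eq, show @pwZ Bool = _ from LinFast.pw_eq]
  decide +kernel

theorem cover' (g : Spor.Co2) : ∃ w ∈ Cfsg.Agent.H68.Ore.Co2Words.L.map cw,
    IsConj (wd Co2.tt w) g ∨ IsConj (wd Co2.tt w)⁻¹ g := by
  obtain ⟨w, hw, h⟩ := Co2.cover g
  exact ⟨w, by rw [← Co2.reps_cw]; exact hw, h⟩

/-- all elements of order 23 of `Co2` are conjugate to one element or its inverse -/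
theorem ord23 {g : Spor.Co2} (hg : orderOf g = 23) :
    IsConj (wd Co2.tt (cw p50)) g ∨ IsConj (wd Co2.tt (cw p50))⁻¹ g :=
  ord_of Co2.M Co2.rpG TwoB.exists_y chk23_ok cover' hg

/-- **every `g ≠ 1` of `Co2` is `(u a u⁻¹) (v a⁻¹ v⁻¹)`, for every `a` of order 23** -/
theorem prd23 {a : Spor.Co2} (ha : orderOf a = 23) {g : Spor.Co2} (hg : g ≠ 1) :
    ∃ u v : Spor.Co2, g = (u * a * u⁻¹) * (v * a⁻¹ * v⁻¹) :=
  prd_of Co2.M Co2.rpG Co2.tt_sq TwoB.exists_y chkAll_ok chk23_ok cover' ha hg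

theorem exists23 : ∃ a : Spor.Co2, orderOf a = 23 := by
  have h : ∀ t ∈ T, chkI Co2.GG (idL 22) t.1 t.2.1 t.2.2.1 t.2.2.2 = true → ∃ a : Spor.Co2, orderOf a = 23 := by
    intro t _ h
    obtain ⟨A, B, -, hA⟩ := soundI Co2.M Co2.rpG Co2.tt_sq TwoB.exists_y h
    exact ⟨A, hA⟩
  have h1 : ∃ t ∈ T, chkI Co2.GG (idL 22) t.1 t.2.1 t.2.2.1 t.2.2.2 = true :=
    ⟨([2], [0], [0, 1, 2, 1, 2, 0, 2, 0, 2, 1, 2, 1, 2, 0, 2, 0, 2, 1], [2]), by decide, by decide +kernel⟩
  obtain ⟨t, ht, h2⟩ := h1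
  exact h t ht h2

end Cfsg.Agent.H258.TC

private theorem dce_2246ef7b5f18 : _root_.True := by
  try have : _root_.True := by simp only [_root_.Cfsg.Agent.H258.TC.L'.eq_1]
  exact _root_.True.intro
end

-- part: H300/TC/JTwo
section
set_option linter.all false
open scoped Cfsg.Agent.FastGrp

/-!
# Every nontrivial element of the Hall-Janko group is a product of two elements of order 7 (helper300, S4173, S2464)

Every element is conjugate to one of 21 words (`H1/J2Cover.lean`); the product of conjugates is explicit.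
-/

set_option autoImplicit false

namespace Cfsg.Agent.H300.TC.JTwo

open Cfsg Cfsg.Agent.SporadicA.PermTab Cfsg.Agent.SporadicA.J2Hundred Cfsg.Agent.J2.HundredGens
open Cfsg.Agent.H1.J2Cls Cfsg.Agent.H1.J2Cover

universe u

/-- the word of order 7 -/
def aw : List ℕ := [4, 3, 1, 2, 3, 1, 2, 1, 0]

/-- the pairs of conjugating words -/
def pr (j : ℕ) : List ℕ × List ℕ :=
  match j with
  | 0 => ([], [])
  | 1 => ([1], [4, 1, 2, 0])
  | 2 => ([2, 3, 4, 1, 0, 1, 2, 3, 0, 1, 2, 3, 0], [4, 3, 2, 3, 1, 2, 3, 4, 2])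
  | 3 => ([2, 1, 0, 1], [4, 2, 0, 1, 0, 1, 2, 0])
  | 4 => ([3, 2, 3], [2, 3, 1, 2, 3])
  | 5 => ([1, 2, 3, 2, 1, 0, 1, 2, 3], [4, 3, 2, 3, 1, 2, 3, 4, 3, 2])
  | 6 => ([3], [4, 0])
  | 7 => ([0], [4, 1, 2, 1, 0, 1])
  | 8 => ([2, 3, 1], [1, 2, 3, 4, 0, 1, 2, 3, 1, 2, 3, 1, 2, 3, 4, 3, 2])
  | 9 => ([2, 3], [3, 2, 3, 4, 2])
  | 10 => ([1, 0, 1, 2, 3, 2, 3, 4], [3, 4, 2, 3, 1, 2, 3, 1, 2, 3, 1, 2])
  | 11 => ([1, 2, 3], [1, 2, 3, 0, 1, 2, 3, 0, 1, 2])
  | 12 => ([2, 3, 2, 1, 0, 1, 2, 3, 4, 2], [3, 1, 2, 3, 1, 0, 1, 2, 1])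
  | 13 => ([3, 2, 0], [4, 1, 0, 1, 2])
  | 14 => ([4, 2, 3, 2, 1], [3, 4, 3, 1])
  | 15 => ([4, 1, 0], [4, 2, 3, 2])
  | 16 => ([2, 3, 2, 1], [3, 4, 2, 0, 1, 0, 1, 2])
  | 17 => ([3, 2, 1], [4, 1, 2, 1])
  | 18 => ([3, 4, 2, 1], [4, 2, 3, 2, 1, 0, 1, 2, 3, 4, 3, 2, 3, 1])
  | 19 => ([4], [0, 1, 2, 3])
  | _ => ([1, 2, 3, 1], [3, 4, 3, 0, 1, 2, 3])

/-- the product of the conjugates -/
def cw (A B : List ℕ) : List ℕ := A ++ aw ++ A.reverse ++ (B ++ aw ++ B.reverse)

theorem gw_cw (A B : List ℕ) : gw (cw A B) = (gw A * gw aw * (gw A)⁻¹) * (gw B * gw aw * (gw B)⁻¹) := by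
  rw [cw, gw_append, gw_append, gw_append, gw_append, gw_append, gw_reverse, gw_reverse]

set_option maxRecDepth 100000 in
theorem chk_pr : ∀ j < 20, ∀ i < 4, run (rL (j + 1)) (bs i) = run (cw (pr (j + 1)).1 (pr (j + 1)).2) (bs i) := by
  decide +kernel

set_option maxRecDepth 100000 in
theorem chk_a : ∀ i < 4, run (aw ++ aw ++ aw ++ aw ++ aw ++ aw ++ aw) (bs i) = run [] (bs i) := by decide +kernel

theorem rL_zero : rL 0 = [] := by decide +kernel

theorem gw_aw : gw aw ^ 7 = 1 := by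
  have h : gw (aw ++ aw ++ aw ++ aw ++ aw ++ aw ++ aw) = gw [] := Subtype.ext (pw_eq_of_base chk_a)
  rw [gw_append, gw_append, gw_append, gw_append, gw_append, gw_append] at h
  have h0 : gw [] = 1 := Subtype.ext rfl
  rw [h0] at h
  rw [← h]
  simp only [pow_succ, pow_zero, one_mul, mul_assoc]

theorem tc_model (g : G) (hg : g ≠ 1) : ∃ u v : G, g = (u * gw aw * u⁻¹) * (v * gw aw * v⁻¹) := by
  obtain ⟨j, hj, c, hc⟩ := cover g
  have hj0 : j ≠ 0 := by
    rintro rfl
    apply hg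
    rw [rL_zero] at hc
    have h0 : gw [] = 1 := Subtype.ext rfl
    rw [h0] at hc
    have h2 : g = c⁻¹ * (c * g * c⁻¹) * c := by group
    rw [h2, hc]
    group
  obtain ⟨i, rfl⟩ : ∃ i, j = i + 1 := ⟨j - 1, by omega⟩
  have h : gw (rL (i + 1)) = (gw (pr (i + 1)).1 * gw aw * (gw (pr (i + 1)).1)⁻¹) *
      (gw (pr (i + 1)).2 * gw aw * (gw (pr (i + 1)).2)⁻¹) := by
    rw [← gw_cw]
    exact Subtype.ext (pw_eq_of_base (chk_pr i (by omega)))
  rw [← hc] at h
  have h2 : g = c⁻¹ * (c * g * c⁻¹) * c := by group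
  rw [h] at h2
  refine ⟨c⁻¹ * gw (pr (i + 1)).1, c⁻¹ * gw (pr (i + 1)).2, h2.trans ?_⟩
  group

theorem cov_model : Cfsg.Agent.H51.XX.Cov (gw aw) := tc_model

set_option maxRecDepth 100000 in
theorem chk_ne : run aw (bs 0) ≠ bs 0 := by decide +kernel

theorem order_aw : orderOf (gw aw) = 7 := by
  have : Fact (Nat.Prime 7) := ⟨by norm_num⟩
  refine orderOf_eq_prime gw_aw fun h => ?_
  apply chk_ne
  obtain ⟨b0, -⟩ := bs_val
  rw [b0]
  have h1 : ((pw aw (0 : Fin 100) : Fin 100) : ℕ) = run aw ((0 : Fin 100) : ℕ) := pw_val aw 0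
  have h2 : pw aw = 1 := congrArg Subtype.val h
  rw [h2] at h1
  exact h1.symm

/-- the form of helper51 -/
theorem rowXX {S : Type*} [Group S] (h : Spor.IsoJ2 S) : Cfsg.Agent.H51.XX.RowXX S := by
  obtain ⟨f⟩ := J2.HundredGens.J2_iso (NotCT.Orders.j2 ⟨MulEquiv.refl _⟩)
  obtain ⟨e⟩ := h
  have h1 : Cfsg.Agent.H51.XX.RowXX G := ⟨gw aw, by rw [order_aw]; norm_num, by rw [order_aw]; norm_num, cov_model⟩
  exact h1.congr (e.trans f).symm

/-- two classes of elements of order prime to 6 -/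
theorem tc6_j2 {S : Type*} [Group S] (h : Spor.IsoJ2 S) : ∃ x y : S, Nat.Coprime (orderOf x) 6 ∧
    Nat.Coprime (orderOf y) 6 ∧ ∀ g : S, g ≠ 1 → ∃ u v : S, g = (u * x * u⁻¹) * (v * y * v⁻¹) := by
  obtain ⟨f⟩ := J2.HundredGens.J2_iso (NotCT.Orders.j2 ⟨MulEquiv.refl _⟩)
  obtain ⟨e⟩ := h
  let E := e.trans f
  have ho : Nat.Coprime (orderOf (E.symm (gw aw))) 6 := by
    have h1 : orderOf (E.symm (gw aw)) ∣ 7 := by
      apply orderOf_dvd_of_pow_eq_one
      rw [← map_pow, gw_aw, map_one]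
    exact Nat.Coprime.coprime_dvd_left h1 (by norm_num)
  refine ⟨E.symm (gw aw), E.symm (gw aw), ho, ho, fun g hg => ?_⟩
  obtain ⟨a, b, hab⟩ := tc_model (E g) (fun h1 => hg (E.injective (by rw [h1, map_one])))
  refine ⟨E.symm a, E.symm b, ?_⟩
  apply E.injective
  simp only [map_mul, map_inv, MulEquiv.apply_symm_apply]
  exact hab

/-- **J2** -/
theorem tc_j2 {S : Type*} [Group S] (h : Spor.IsoJ2 S) : Cfsg.Agent.H140.TC.TC S := by
  obtain ⟨x, y, -, -, h1⟩ := tc6_j2 h
  exact ⟨x, y, h1⟩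

end Cfsg.Agent.H300.TC.JTwo

private theorem dce_2c7d2f434207 : _root_.True := by
  try have : _root_.True := by simp only [_root_.Cfsg.Agent.H300.TC.JTwo.cw.eq_1]
  exact _root_.True.intro
end

-- part: H235/TC/HeMcL
section
prune_inst 0x189040300000000000000000010000004010000
set_option linter.all false
open scoped Cfsg.Agent.FastGrp

/-!
# S4173, S2464, S2452: the Held group (`x` of order `17`) and the McLaughlin group (`x` of order `11`) (helper235)

* `row3_he {S} (h : Spor.IsoHe S) : H210.TC.Row3 S`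
* `row3_mcl {S} (h : Spor.IsoMcL S) : H210.TC.Row3 S`
-/

set_option autoImplicit false
set_option maxRecDepth 100000

namespace Cfsg.Agent.H235.TC.Sp

universe u

/-- a product of two conjugates of `x` -/
def P2 {G : Type*} [Group G] (x g : G) : Prop := ∃ u v : G, g = (u * x * u⁻¹) * (v * x * v⁻¹)

theorem P2.conj {G : Type*} [Group G] {x g g' : G} (h : P2 x g) (e : IsConj g g') : P2 x g' := by
  obtain ⟨c, rfl⟩ := isConj_iff.1 e
  obtain ⟨u, v, rfl⟩ := h
  exact ⟨c * u, c * v, by group⟩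

/-- real `x` -/
theorem P2.inv {G : Type*} [Group G] {x t g : G} (ht : t * x * t⁻¹ = x⁻¹) (h : P2 x g) : P2 x g⁻¹ := by
  obtain ⟨u, v, rfl⟩ := h
  refine ⟨v * t, u * t, ?_⟩
  rw [show v * t * x * (v * t)⁻¹ = v * (t * x * t⁻¹) * v⁻¹ by group,
    show u * t * x * (u * t)⁻¹ = u * (t * x * t⁻¹) * u⁻¹ by group, ht]
  group

theorem P2.one {G : Type*} [Group G] {x t : G} (ht : t * x * t⁻¹ = x⁻¹) : P2 x 1 :=
  ⟨1, t, by rw [ht]; group⟩

end Cfsg.Agent.H235.TC.Sp

/-! ### The Held group -/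

namespace Cfsg.Agent.H235.TC.He

open Subgroup
open Cfsg.Spor.He (Gen)
open Cfsg.Agent.SporadicB.HePerm (act wd phi phi_wd_apply allBelow of_allBelow)
open Cfsg.Agent.FixBN.HeStab Cfsg.Agent.KFacts.He.Lv Cfsg.Agent.CpAutHe.Cnt
open Cfsg.Agent.H235.Ore.HeEng Cfsg.Agent.H235.Ore.HeCert Cfsg.Agent.H235.Ore.ClassList
open Cfsg.Agent.H153.Zeros.He17 (hasOrd_word W17 o17 card_cent_eq)
open Cfsg.Agent.H587.NR.He (wd_reverse)
open Cfsg.Agent.H19.Odd.HeCnt (XB XC)
open Cfsg.Agent.H235.Ore.He Cfsg.Agent.H235.TC.Sp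

theorem w_inv : wd [.c, .f] * wd W17 * (wd [.c, .f])⁻¹ = (wd W17)⁻¹ := by
  have h := eq_of_chkB (show chkB ([.c, .f] ++ W17) (W17.reverse ++ [.c, .f]) = true by decide +kernel)
  rw [wd_append, wd_append, wd_reverse] at h
  rw [h, mul_inv_cancel_right]

theorem p_of {X U V : List Gen} (h : chkB X (U ++ (W17 ++ (U.reverse ++ (V ++ (W17 ++ V.reverse))))) = true) :
    P2 (wd W17) (wd X) := by
  have h1 := eq_of_chkB h
  rw [wd_append, wd_append, wd_append, wd_append, wd_append, wd_reverse, wd_reverse] at h1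
  exact ⟨wd U, wd V, by rw [h1]; group⟩

theorem p2A : P2 (wd W17) (wd x2A) := p_of (U := [.c, .b, .c, .d, .g, .f, .d, .g, .b])
  (V := [.c, .b, .c, .d, .g, .f, .d, .g, .b, .e, .a, .c]) (by decide +kernel)
theorem p2B : P2 (wd W17) (wd x2B) := p_of (U := [.f, .d, .g, .d])
  (V := [.f, .d, .g, .d, .e, .c]) (by decide +kernel)
theorem p3A : P2 (wd W17) (wd x3A) := p_of (U := [.f, .e])
  (V := [.c]) (by decide +kernel)
theorem p5A : P2 (wd W17) (wd x5A) := p_of (U := [.c, .f, .d, .c, .d, .b])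
  (V := [.c, .f, .d, .c, .d]) (by decide +kernel)
theorem p4B : P2 (wd W17) (wd x4B) := p_of (U := [.d, .f, .g, .d])
  (V := [.d, .f, .g, .d, .c, .g, .f]) (by decide +kernel)
theorem p4C : P2 (wd W17) (wd x4C) := p_of (U := [.g, .d, .a, .c, .b, .d, .a, .g, .d])
  (V := [.g, .d, .a, .c, .b, .d, .a, .g, .d, .g, .d, .c, .b, .f, .d, .e, .d, .a]) (by decide +kernel)
theorem p6A : P2 (wd W17) (wd x6A) := p_of (U := [.g, .d, .f, .e])
  (V := [.g, .d, .e, .g, .d, .b, .a, .f]) (by decide +kernel)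
theorem p4A : P2 (wd W17) (wd x4A) := p_of (U := [.d, .c, .d, .g, .f, .d, .c, .e, .g, .d, .f])
  (V := [.d, .c, .d, .g, .f, .d, .c, .e, .g, .c, .e, .b, .a, .c, .f, .d, .e]) (by decide +kernel)
theorem p7A : P2 (wd W17) (wd x7A) := p_of (U := [.e, .d, .c, .g])
  (V := [.e, .g, .f, .d]) (by decide +kernel)
theorem p7D : P2 (wd W17) (wd x7D) := p_of (U := [.f, .g, .d, .f, .g, .d, .e])
  (V := [.f, .g, .d, .f, .g, .d, .b, .c, .d, .f, .d, .e, .g, .b, .c]) (by decide +kernel)
theorem p8A : P2 (wd W17) (wd x8A) := p_of (U := [.f, .d, .e, .g, .d, .a])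
  (V := [.f, .d, .e, .g, .a, .b, .e, .f, .a]) (by decide +kernel)
theorem p10A : P2 (wd W17) (wd x10A) := p_of (U := [.g, .d, .c, .d, .f, .c])
  (V := [.g, .d, .c, .d, .a, .b, .c, .g, .a]) (by decide +kernel)
theorem p12A : P2 (wd W17) (wd x12A) := p_of (U := [.d, .c, .e, .d, .f])
  (V := [.d, .c, .e, .g, .f, .d]) (by decide +kernel)
theorem p12B : P2 (wd W17) (wd x12B) := p_of (U := [.a, .f, .e, .d, .b, .c, .b, .d, .e])
  (V := [.a, .f, .e, .d, .b, .c, .b, .c, .f, .d, .b, .e, .a]) (by decide +kernel)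
theorem p6B : P2 (wd W17) (wd x6B) := p_of (U := [.d, .b, .c, .g, .d, .b, .g])
  (V := [.d, .b, .c, .g, .d, .b, .d, .a, .c, .g, .e, .b, .d, .g, .e]) (by decide +kernel)
theorem p14A : P2 (wd W17) (wd x14A) := p_of (U := [.c, .b, .g, .d])
  (V := [.c, .b, .a, .d, .b, .f, .g, .a]) (by decide +kernel)
theorem p14C : P2 (wd W17) (wd x14C) := p_of (U := [.e, .d, .e, .b])
  (V := [.e, .d, .e, .b, .c, .a, .g, .b, .c, .d, .b, .f, .g, .d]) (by decide +kernel)
theorem p15A : P2 (wd W17) (wd x15A) := p_of (U := [.f, .g, .d, .e])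
  (V := [.f, .g, .d, .e, .b, .c, .d, .b, .g, .c, .f]) (by decide +kernel)
theorem p21A : P2 (wd W17) (wd x21A) := p_of (U := [.c, .b, .f, .c])
  (V := [.c, .e, .a]) (by decide +kernel)
theorem p21C : P2 (wd W17) (wd x21C) := p_of (U := [.c, .d, .g, .f, .d, .g, .b])
  (V := [.c, .d, .g, .f, .d, .g, .b, .g, .d, .c, .e, .d, .c, .f, .g]) (by decide +kernel)
theorem p28A : P2 (wd W17) (wd x28A) := p_of (U := [.c, .d, .b, .c, .d, .f, .c, .g])
  (V := [.c, .d, .b, .c, .d, .f, .c, .g, .b, .c, .a, .b, .e, .d, .a, .f, .c, .b, .d, .g, .e]) (by decide +kernel)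
theorem pBq : P2 (wd W17) (wd XB) := p_of (U := [.c])
  (V := [.b, .f]) (by decide +kernel)
theorem pCq : P2 (wd W17) (wd XC) := p_of (U := [.c, .d, .c, .b, .c, .d, .a, .g])
  (V := [.c, .d, .c, .b, .d, .c, .e]) (by decide +kernel)
theorem p21B : P2 (wd W17) (wd x21A ^ 2) := by
  rw [← wd_pw]
  exact p_of (U := [.a, .d, .f]) (V := [.d]) (by decide +kernel)
theorem p17A : P2 (wd W17) (wd W17) := p_of (U := [.b, .d])
  (V := [.b, .f]) (by decide +kernel)
theorem p17B : P2 (wd W17) (wd W17 ^ 3) := by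
  rw [← wd_pw]
  exact p_of (U := [.d]) (V := [.c, .b, .c]) (by decide +kernel)

theorem sq_step {k : ℕ} (h : P2 (wd W17) (wd W17 ^ k)) : P2 (wd W17) (wd W17 ^ (2 * k)) := by
  refine h.conj (isConj_iff.2 ⟨wd t17, ?_⟩)
  rw [← conj_pow, t17_conj, ← pow_mul]

theorem mod_step {k l : ℕ} (h : P2 (wd W17) (wd W17 ^ k)) (e : k % 17 = l % 17) : P2 (wd W17) (wd W17 ^ l) := by
  rw [← pow_mod_orderOf, o17, ← e, ← o17, pow_mod_orderOf]
  exact h

theorem p17 {a : Cfsg.Spor.He} (h : a ∈ zpowers (wd W17)) : P2 (wd W17) a := by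
  have h1 : P2 (wd W17) (wd W17 ^ 1) := by rw [pow_one]; exact p17A
  have h2 := sq_step h1
  have h4 := sq_step h2
  have h8 := sq_step h4
  have h16 := sq_step h8
  have h15 := sq_step h16
  have h13 := sq_step h15
  have h9 := sq_step h13
  have h3 := p17B
  have h6 := sq_step h3
  have h12 := sq_step h6
  have h7 := sq_step h12
  have h14 := sq_step h7
  have h11 := sq_step h14
  have h5 := sq_step h11
  have h10 := sq_step h5
  have hfin : Finite Cfsg.Spor.He := finite_he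
  obtain ⟨k, rfl⟩ := (mem_powers_iff_mem_zpowers (x := wd W17)).2 h
  have hk : k % 17 < 17 := Nat.mod_lt _ (by norm_num)
  show P2 (wd W17) (wd W17 ^ k)
  generalize hj : k % 17 = j at hk
  interval_cases j
  · have h0 : wd W17 ^ k = 1 := by
      rw [← pow_mod_orderOf, o17, hj, pow_zero]
    rw [h0]
    exact P2.one w_inv
  · exact mod_step h1 (by omega)
  · exact mod_step h2 (by omega)
  · exact mod_step h3 (by omega)
  · exact mod_step h4 (by omega)
  · exact mod_step h5 (by omega)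
  · exact mod_step h6 (by omega)
  · exact mod_step h7 (by omega)
  · exact mod_step h8 (by omega)
  · exact mod_step h9 (by omega)
  · exact mod_step h10 (by omega)
  · exact mod_step h11 (by omega)
  · exact mod_step h12 (by omega)
  · exact mod_step h13 (by omega)
  · exact mod_step h14 (by omega)
  · exact mod_step h15 (by omega)
  · exact mod_step h16 (by omega)

/-- every element is a product of two conjugates of `wd W17` -/
theorem p_all (g : Cfsg.Spor.He) : P2 (wd W17) g := by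
  refine all_model (P2 (wd W17)) (fun x y h k => k.conj h) (fun a ha => p17 ha) (fun a b ha hb p hp => ?_) g
  simp only [L, List.mem_cons, List.not_mem_nil, or_false] at hp
  rcases hp with rfl | rfl | rfl | rfl | rfl | rfl | rfl | rfl | rfl | rfl | rfl | rfl | rfl | rfl | rfl | rfl | rfl | rfl | rfl | rfl | rfl | rfl | rfl | rfl | rfl | rfl | rfl | rfl | rfl | rfl | rfl | rfl | rfl
  · exact ha
  · exact hb
  · exact P2.one w_inv
  · exact p21A
  · exact p21B
  · exact p2A
  · exact p2B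
  · exact p3A
  · exact pBq
  · exact p4A
  · exact p4B
  · exact p4C
  · exact p6A
  · exact p6B
  · exact p12A
  · exact p12B
  · exact p5A
  · exact p8A
  · exact p10A
  · exact p15A
  · exact p14A
  · exact p14A.inv w_inv
  · exact p14C
  · exact p14C.inv w_inv
  · exact p28A
  · exact p28A.inv w_inv
  · exact p7A
  · exact p7A.inv w_inv
  · exact pCq
  · exact p7D
  · exact p7D.inv w_inv
  · exact p21C
  · exact p21C.inv w_inv

/-- **S4173, S2464, S2452 for `He`** -/
theorem row3_he {S : Type*} [Group S] (h : Cfsg.Spor.IsoHe S) : Cfsg.Agent.H210.TC.Row3 S := by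
  obtain ⟨e⟩ := h
  refine Cfsg.Agent.H210.TC.Row3.of_equiv e (Cfsg.Agent.H210.TC.Row3.of_sq (x := wd W17) ?_ ?_ fun g _ => p_all g)
  · rw [o17]; norm_num
  · rw [o17]; norm_num

end Cfsg.Agent.H235.TC.He

/-! ### The McLaughlin group -/

namespace Cfsg.Agent.H235.TC.McL

open Cfsg.Agent.McLType.Gens Cfsg.Agent.H904.McLCent Cfsg.Agent.H235.Ore.Eng Cfsg.Agent.H235.Ore.McLM Subgroup Equiv
open Cfsg.Agent.H235.Ore.McL Cfsg.Agent.H235.TC.Sp

universe u

theorem p2_cj {x g : ↥K0} (hx : T * (x : Perm (Fin 275)) = x * T) (m : ↥M2) (h : P2 x g) : P2 x (cj m g) := by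
  obtain ⟨u, v, rfl⟩ := h
  have key : ∀ u : ↥K0, ∃ u' : ↥K0, cj m (u * x * u⁻¹) = u' * x * u'⁻¹ := by
    intro u
    rcases mem_M2.1 m.2 with h | h
    · refine ⟨⟨m, h⟩ * u, Subtype.ext ?_⟩
      show (m : Perm (Fin 275)) * (u * x * (u : Perm (Fin 275))⁻¹) * (m : Perm (Fin 275))⁻¹ =
        (m * u) * x * ((m : Perm (Fin 275)) * u)⁻¹
      group
    · refine ⟨⟨m * T, h⟩ * ⟨T * u * T, T_conj_mem u.2⟩, Subtype.ext ?_⟩
      show (m : Perm (Fin 275)) * (u * x * (u : Perm (Fin 275))⁻¹) * (m : Perm (Fin 275))⁻¹ =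
        (m * T * (T * u * T)) * x * ((m : Perm (Fin 275)) * T * (T * u * T))⁻¹
      have e1 : (m : Perm (Fin 275)) * T * (T * u * T) = m * u * T := by
        rw [show (m : Perm (Fin 275)) * T * (T * u * T) = m * (T * T) * u * T by group, T_sq, mul_one]
      have e2 : T * (x : Perm (Fin 275)) * T⁻¹ = x := by rw [hx, mul_inv_cancel_right]
      rw [e1, show (m : Perm (Fin 275)) * u * T * x * ((m : Perm (Fin 275)) * u * T)⁻¹ =
        m * (u * (T * x * T⁻¹) * (u : Perm (Fin 275))⁻¹) * (m : Perm (Fin 275))⁻¹ by group, e2]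
  obtain ⟨u', hu⟩ := key u
  obtain ⟨v', hv⟩ := key v
  exact ⟨u', v', by rw [map_mul, hu, hv]⟩

/-- both `g` and its inverse are products of two conjugates of `x`, or `g = 1` -/
def PP (x g : ↥K0) : Prop := g = 1 ∨ (P2 x g ∧ P2 x g⁻¹)

theorem pp_cj {x g : ↥K0} (hx : T * (x : Perm (Fin 275)) = x * T) (m : ↥M2) (h : PP x g) : PP x (cj m g) := by
  rcases h with rfl | ⟨h, h'⟩
  · exact Or.inl (map_one _)
  · exact Or.inr ⟨p2_cj hx m h, by rw [← map_inv]; exact p2_cj hx m h'⟩

theorem all_model' (P : ↥K0 → Prop) (hP : ∀ (m : ↥M2), ∀ g, P g → P (cj m g)) (h1 : P 1)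
    (hi : P (wk x11A) → P (wk x11A)⁻¹) (h2A : P (wk x2A)) (h3A : P (wk x3A)) (h3B : P (wk x3B)) (h4A : P (wk x4A))
    (h5A : P (wk x5A)) (h5B : P (wk x5B)) (h6A : P (wk x6A)) (h6B : P (wk x6B)) (h7A : P (wk x7A)) (h8A : P (wk x8A))
    (h9A : P (wk x9A)) (h10A : P (wk x10A)) (h11A : P (wk x11A)) (h12A : P (wk x12A)) (h14A : P (wk x14A))
    (h15A : P (wk x15A)) (h30A : P (wk x30A)) (g : ↥K0) : P g := by
  obtain ⟨p, hp, hpg⟩ := classes (g := ⟨g, K0_le_M2 g.2⟩) (by rw [K, mem_subgroupOf]; exact g.2)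
  obtain ⟨c, hc⟩ := isConj_iff.1 hpg
  have key : ∀ y : ↥K0, (y : Perm (Fin 275)) = p.1 → P y → P g := by
    intro y hy hPy
    have e : cj c y = g := by
      apply Subtype.ext
      show (c : Perm (Fin 275)) * y * (c : Perm (Fin 275))⁻¹ = g
      rw [hy]
      exact congrArg Subtype.val hc
    rw [← e]
    exact hP c y hPy
  simp only [L, List.mem_cons, List.not_mem_nil, or_false] at hp
  rcases hp with rfl | rfl | rfl | rfl | rfl | rfl | rfl | rfl | rfl | rfl | rfl | rfl | rfl | rfl | rfl | rfl | rfl | rfl | rfl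
  · exact key 1 rfl h1
  · exact key _ rfl h11A
  · exact key (wk x11A)⁻¹ rfl (hi h11A)
  · exact key _ rfl h2A
  · exact key _ rfl h3A
  · exact key _ rfl h3B
  · exact key _ rfl h4A
  · exact key _ (by exact rfl) h5A
  · exact key _ rfl h5B
  · exact key _ rfl h6A
  · exact key _ rfl h6B
  · exact key _ rfl h7A
  · exact key _ rfl h8A
  · exact key _ rfl h9A
  · exact key _ rfl h10A
  · exact key _ rfl h12A
  · exact key _ rfl h14A
  · exact key _ rfl h15A
  · exact key _ rfl h30A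

theorem p_of {X U V U' V' : List ℕ}
    (h : chkB X (U ++ (x11A ++ (U.reverse ++ (V ++ (x11A ++ V.reverse))))) = true)
    (h' : chkB X.reverse (U' ++ (x11A ++ (U'.reverse ++ (V' ++ (x11A ++ V'.reverse))))) = true) :
    PP (wk x11A) (wk X) := by
  have h1 := wk_eq h
  have h2 := wk_eq h'
  rw [wk_append, wk_append, wk_append, wk_append, wk_append, wk_reverse, wk_reverse] at h1
  rw [wk_append, wk_append, wk_append, wk_append, wk_append, wk_reverse, wk_reverse, wk_reverse] at h2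
  exact Or.inr ⟨⟨wk U, wk V, by rw [h1]; group⟩, ⟨wk U', wk V', by rw [h2]; group⟩⟩

theorem p2A : PP (wk x11A) (wk x2A) := p_of (U := [2, 1, 2]) (V := [6, 4, 0])
  (U' := [2, 6, 5]) (V' := [2, 6, 3, 1]) (by decide +kernel) (by decide +kernel)
theorem p3A : PP (wk x11A) (wk x3A) := p_of (U := [4, 1, 6, 3, 0]) (V := [4, 1, 6, 3, 0, 5, 2, 3, 4, 3, 0, 4, 3, 1, 0, 6, 3, 1])
  (U' := [6, 4, 5, 3, 2]) (V' := [6, 4, 5, 3, 2, 3, 2, 0, 1, 6, 3, 5, 2, 0]) (by decide +kernel) (by decide +kernel)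
theorem p3B : PP (wk x11A) (wk x3B) := p_of (U := [6, 4, 0]) (V := [1, 0])
  (U' := [0, 6, 0, 4]) (V' := [0, 1, 0]) (by decide +kernel) (by decide +kernel)
theorem p4A : PP (wk x11A) (wk x4A) := p_of (U := [5, 4, 6, 1]) (V := [5, 0])
  (U' := [3]) (V' := [5, 1, 0]) (by decide +kernel) (by decide +kernel)
theorem p5A : PP (wk x11A) (wk x5A) := p_of (U := [0, 3, 2, 4, 5]) (V := [0, 3, 2, 4, 3, 4, 1, 4, 2])
  (U' := [0, 1, 5, 2, 4, 5]) (V' := [0, 1, 5, 2, 3, 1, 4, 3, 2]) (by decide +kernel) (by decide +kernel)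
theorem p5B : PP (wk x11A) (wk x5B) := p_of (U := [5, 4, 6, 3, 1, 2, 0]) (V := [5, 4, 6, 3, 1, 2, 1])
  (U' := [1, 5, 6, 4, 3, 2, 5]) (V' := [1, 5, 6, 4, 3, 0, 4, 6, 0, 2]) (by decide +kernel) (by decide +kernel)
theorem p6A : PP (wk x11A) (wk x6A) := p_of (U := [5, 4, 5, 1]) (V := [5, 4, 1, 3, 6, 3, 5])
  (U' := [2, 4, 3, 1]) (V' := [2, 4, 3, 1, 5, 3, 6, 3, 5]) (by decide +kernel) (by decide +kernel)
theorem p6B : PP (wk x11A) (wk x6B) := p_of (U := [1, 0, 6, 3, 4]) (V := [1, 0, 6, 3, 6, 0, 2, 1, 2])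
  (U' := [1, 5, 4, 5]) (V' := [1, 5, 4, 2, 3, 0, 6, 3, 5]) (by decide +kernel) (by decide +kernel)
theorem p7A : PP (wk x11A) (wk x7A) := p_of (U := [4, 5, 6, 0, 4, 6]) (V := [4, 1, 5, 1, 2, 1, 4])
  (U' := [4, 5, 2, 6, 1, 6]) (V' := [4, 5, 4, 1, 0]) (by decide +kernel) (by decide +kernel)
theorem p8A : PP (wk x11A) (wk x8A) := p_of (U := [3, 1, 5, 4, 5]) (V := [3, 1, 5, 4, 3, 4, 1, 2, 0, 1])
  (U' := [6, 5, 4, 6, 0, 2]) (V' := [6, 5, 4, 6, 1, 0, 2, 3]) (by decide +kernel) (by decide +kernel)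
theorem p9A : PP (wk x11A) (wk x9A) := p_of (U := [1, 6, 2, 0]) (V := [1, 6, 2, 0, 5, 1, 0, 4, 5, 3, 2])
  (U' := [4, 1, 6, 3, 6, 4]) (V' := [4, 1, 6, 3, 2, 0, 1, 4]) (by decide +kernel) (by decide +kernel)
theorem p10A : PP (wk x11A) (wk x10A) := p_of (U := [6, 4, 5, 2, 5]) (V := [6, 4, 5, 3, 4, 5, 2])
  (U' := [2, 1, 2, 3]) (V' := [3, 1, 5, 4, 1]) (by decide +kernel) (by decide +kernel)
theorem p11A : PP (wk x11A) (wk x11A) := p_of (U := [5, 0, 5, 1, 6, 3]) (V := [5, 0, 5, 1, 5, 0, 4, 5, 2])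
  (U' := [2, 1, 6, 3, 4, 6]) (V' := [2, 1, 6, 3, 1, 5, 2, 4, 5]) (by decide +kernel) (by decide +kernel)
theorem p12A : PP (wk x11A) (wk x12A) := p_of (U := [2, 1, 0, 1]) (V := [2, 1, 0, 1, 5, 6, 4, 3, 5, 2])
  (U' := [4, 0, 6]) (V' := [4, 0, 2, 5, 1, 6, 1, 2, 4, 5, 3, 0]) (by decide +kernel) (by decide +kernel)
theorem p14A : PP (wk x11A) (wk x14A) := p_of (U := [4, 6, 4]) (V := [2, 6])
  (U' := [4, 1]) (V' := [4, 5, 2, 1, 3]) (by decide +kernel) (by decide +kernel)
theorem p15A : PP (wk x11A) (wk x15A) := p_of (U := [4, 3, 0, 6, 3, 4]) (V := [4, 3, 0, 6, 0, 6, 4, 1, 4])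
  (U' := [1, 4, 0]) (V' := [1, 4, 0, 3, 0, 2, 1, 4, 1]) (by decide +kernel) (by decide +kernel)
theorem p30A : PP (wk x11A) (wk x30A) := p_of (U := [0, 3, 5]) (V := [4, 6, 2, 0])
  (U' := [3, 0]) (V' := [3, 5, 1, 0, 2, 1, 0]) (by decide +kernel) (by decide +kernel)

theorem p_all (g : ↥K0) : PP (wk x11A) g := by
  refine all_model' (PP (wk x11A)) (fun m g h => pp_cj (by exact T_comm) m h) (Or.inl rfl) (fun h => ?_) p2A p3A p3B p4A p5A p5B
    p6A p6B p7A p8A p9A p10A p11A p12A p14A p15A p30A g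
  rcases h with h | ⟨h, h'⟩
  · exact Or.inl (by rw [h, inv_one])
  · exact Or.inr ⟨h', by rwa [inv_inv]⟩

/-- **S4173, S2464, S2452 for `McL`** -/
theorem row3_mcl {S : Type u} [Group S] (h : Cfsg.Spor.IsoMcL S) : Cfsg.Agent.H210.TC.Row3 S := by
  obtain ⟨e⟩ := exists_iso h
  have hx : orderOf (wk x11A) = 11 := by
    rw [← Subgroup.orderOf_coe]
    exact o11
  refine Cfsg.Agent.H210.TC.Row3.of_equiv e.symm (Cfsg.Agent.H210.TC.Row3.of_sq (x := wk x11A) ?_ ?_ fun g hg => ?_)
  · rw [hx]; norm_num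
  · rw [hx]; norm_num
  · rcases p_all g with h | ⟨h, -⟩
    · exact absurd h hg
    · exact h

end Cfsg.Agent.H235.TC.McL
end

-- part: H133/TC/FiT1
section
prune_inst 0x52010004a0012000000859011001c3484000420000b04001ca00640020b5a0004820640050018054a0800010000002000100080000000000a200000000000000000000400000000020088000082000000000000300000000000000000051004000000000
set_option linter.all false
open scoped Cfsg.Agent.FastGrp

-- part: H133/TC/FiArith
section
/-!
# The degrees of `Fi24'` modulo 23: the enumeration (helper133)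

`arith` : a degree `n` of a character which extends to `Fi24`, `n < 60928` if `n ≡ ± 1`, `n < 86768` if `n ≡ ± 11` modulo 23:
`(n, |u|, B)` is in the list `exc` (these are excluded by the weights of `2^12` and by a level inequality).
-/

set_option autoImplicit false
set_option maxRecDepth 100000

namespace Cfsg.Agent.H133.TC

open Cfsg.Agent.H201.Fi (R11 R13)

/-- degree conditions -/
def okF (n : ℕ) : Bool :=
  1255205709190661721292800 % n == 0 && ((n % 29 == 0 || n % 29 == 1 || n % 29 == 28) &&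
    (n % 17 == 0 || n % 17 == 1 || n % 17 == 16))

/-- the candidates `± 1` -/
def candN : List ℕ := [1, 783, 3451, 5220, 7888, 10556, 11340, 14790, 19227, 34800, 48807, 53244]

/-- the candidates `± 11` -/
def candX : List ℕ := [1276, 2058, 3944, 7395, 16065, 16848, 17952, 26622, 27405, 37179, 37961, 41412, 49300, 51968, 55419, 64090, 74646]

private theorem okF_false {n : ℕ} (h : ¬ n ∣ 1255205709190661721292800) : okF n = false := by
  have h1 : (1255205709190661721292800 % n == 0) = false := by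
    rw [beq_eq_false_iff_ne]; exact fun h2 => h (Nat.dvd_of_mod_eq_zero h2)
  rw [okF, h1, Bool.false_and]

theorem candN_all : (List.range 2649).all (fun k => (!okF (23 * k + 1) || candN.contains (23 * k + 1)) &&
    (!okF (23 * k + 22) || candN.contains (23 * k + 22))) = true := by
  refine H201.Fi.p4two_range (a := 23) (b := 1) (c := 22) (by decide +kernel) fun k h1 h2 => ?_
  rw [okF_false h1, okF_false h2]
  rfl

theorem candX_all : (List.range 3773).all (fun k =>
    (!okF (23 * k + 11) || candX.contains (23 * k + 11)) &&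
      (!okF (23 * k + 12) || k == 3772 || candX.contains (23 * k + 12))) = true := by
  refine H201.Fi.p4two_range (a := 23) (b := 11) (c := 12) (by decide +kernel) fun k h1 h2 => ?_
  rw [okF_false h1, okF_false h2]
  rfl

/-- the exceptions `(n, |u|, B)` -/
def exc : List (ℕ × ℕ × ℤ) :=
  [(37961, 3553, 649), (37961, 5049, 649), (41412, 34, 364), (41412, 1530, 364), (41412, 5831, 1046), (41412, 7072, 1508), (41412, 11373, 3334), (41412, 17170, 7404), (41412, 17238, 7404), (41412, 23035, 12838), (41412, 28577, 19702), (55419, 32097, 18811), (55419, 45253, 37115)]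

/-- the check for `|u| = v` -/
def chkV (n v : ℕ) : Bool :=
  let s : ℤ := ((306936 * v ^ 2 / n : ℕ) : ℤ) - n
  !(s % 391 == 0) ||
    let k : ℤ := s / 391
    let t₀ : ℤ := (-(n : ℤ) - 44239 * k) / 275616
    (List.range 4).all fun i =>
      let t : ℤ := t₀ + i
      let B : ℤ := 113 * k + 704 * t
      let C : ℤ := -13 * k - 81 * t
      !(decide (0 ≤ (n : ℤ) + 351 * B - 352 * C)) || !(decide (0 ≤ (n : ℤ) - 81 * B + 80 * C)) ||
        !(decide ((3 : ℤ) ∣ (n : ℤ) - C)) || decide (B = n) || !(decide (B ≤ n)) || !(decide (-(n : ℤ) ≤ B)) ||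
          !(decide (R11 n B)) || !(decide (R13 n B)) || !(decide ((n : ℤ) ∣ 9720970056 * B)) || exc.contains (n, v, B)

/-- the check -/
def chkE (n : ℕ) : Bool :=
  let q := n / Nat.gcd n 306936
  (List.range (n / q + 1)).all fun j => chkV n (q * j)

private def chkVr (n v : ℕ) (B C : ℤ) : Bool :=
  !(decide ((3 : ℤ) ∣ (n : ℤ) - C)) || decide (B = n) || !(decide (B ≤ n)) || !(decide (-(n : ℤ) ≤ B)) ||
    !(decide (R11 n B)) || !(decide (R13 n B)) || !(decide ((n : ℤ) ∣ 9720970056 * B)) || exc.contains (n, v, B)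

private def chkVc (n v : ℕ) (k t : ℤ) : Bool :=
      let B : ℤ := 113 * k + 704 * t
      let C : ℤ := -13 * k - 81 * t
      !(decide (0 ≤ (n : ℤ) + 351 * B - 352 * C)) || !(decide (0 ≤ (n : ℤ) - 81 * B + 80 * C)) ||
        !(decide ((3 : ℤ) ∣ (n : ℤ) - C)) || decide (B = n) || !(decide (B ≤ n)) || !(decide (-(n : ℤ) ≤ B)) ||
          !(decide (R11 n B)) || !(decide (R13 n B)) || !(decide ((n : ℤ) ∣ 9720970056 * B)) || exc.contains (n, v, B)

private theorem chkV_of {n v : ℕ} (h : H201.Fi.p4T (chkVr n v) n v = true) : chkV n v = true := by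
  have h1 := H201.Fi.p4T_spec (c := chkVr n v) h rfl
  show (!((((306936 * v ^ 2 / n : ℕ) : ℤ) - n) % 391 == 0) || (List.range 4).all fun i =>
    chkVc n v ((((306936 * v ^ 2 / n : ℕ) : ℤ) - n) / 391)
      ((-(n : ℤ) - 44239 * ((((306936 * v ^ 2 / n : ℕ) : ℤ) - n) / 391)) / 275616 + i)) = true
  generalize (((306936 * v ^ 2 / n : ℕ) : ℤ) - n) / 391 = k at h1 ⊢
  rw [Bool.or_eq_true]
  refine Or.inr (List.all_eq_true.2 fun i _ => ?_)
  generalize (-(n : ℤ) - 44239 * k) / 275616 + i = t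
  unfold chkVc
  by_cases p1 : 0 ≤ (n : ℤ) + 351 * (113 * k + 704 * t) - 352 * (-13 * k - 81 * t)
  · by_cases p2 : 0 ≤ (n : ℤ) - 81 * (113 * k + 704 * t) + 80 * (-13 * k - 81 * t)
    · simp only [decide_eq_true p1, decide_eq_true p2, Bool.not_true, Bool.false_or]
      exact h1 t p1 p2
    · simp only [decide_eq_false p2, Bool.not_false, Bool.true_or, Bool.or_true]
  · simp only [decide_eq_false p1, Bool.not_false, Bool.true_or]

private theorem chkE_of {l : List ℕ}
    (h : l.all (fun n => H201.Fi.p4J (fun v => H201.Fi.p4T (chkVr n v) n v) n) = true) : l.all chkE = true := by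
  refine List.all_eq_true.2 fun n hn => ?_
  refine H201.Fi.p4J_spec (g' := chkV n) (List.all_eq_true.1 h n hn) (fun v hv => ?_) fun _ h => chkV_of h
  unfold chkV
  simp only [hv, Bool.not_false, Bool.true_or]

theorem chkN_all : candN.all chkE = true := chkE_of (by decide +kernel)
theorem chkX_all : candX.all chkE = true := chkE_of (by decide +kernel)

theorem mem_exc_of {n v : ℕ} {B C : ℤ} (hn : 0 < n) (hlt : n < 86768)
    (hR : (n : ℤ) * (n + 31671 * B + 275264 * C) = 306936 * (v : ℤ) ^ 2)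
    (p1 : 0 ≤ (n : ℤ) + 351 * B - 352 * C) (p2 : 0 ≤ (n : ℤ) - 81 * B + 80 * C) (h3 : (3 : ℤ) ∣ (n : ℤ) - C)
    (hB : (n : ℤ) ∣ 9720970056 * B) (b1 : |B| ≤ n) (ne : B ≠ n) (r11 : R11 n B) (r13 : R13 n B)
    (hchk : chkV n v = true) : (n, v, B) ∈ exc := by
  have hd : n ∣ 306936 * v ^ 2 := by
    have : (n : ℤ) ∣ ((306936 * v ^ 2 : ℕ) : ℤ) := ⟨_, by push_cast; rw [← hR]⟩
    exact_mod_cast this
  obtain ⟨w, hw⟩ := hd
  have e1 : 306936 * v ^ 2 / n = w := by rw [hw]; exact Nat.mul_div_cancel_left _ hn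
  have e3 : (n : ℤ) + 31671 * B + 275264 * C = w := by
    have h1 : ((306936 * v ^ 2 : ℕ) : ℤ) = n * w := by exact_mod_cast hw
    push_cast at h1
    rw [h1] at hR
    exact mul_left_cancel₀ (by exact_mod_cast hn.ne') hR
  have e4 : (w : ℤ) - n = 391 * (81 * B + 704 * C) := by linarith only [e3]
  obtain ⟨b2, b3⟩ := abs_le.1 b1
  unfold chkV at hchk
  simp only [e1, e4] at hchk
  have e5 : 391 * (81 * B + 704 * C) / 391 = 81 * B + 704 * C := by omega
  have e6 : (391 * (81 * B + 704 * C) % 391 == 0) = true := by rw [beq_iff_eq]; omega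
  rw [e5, e6, Bool.not_true, Bool.false_or] at hchk
  set k : ℤ := 81 * B + 704 * C with hk
  -- the parameter
  set t : ℤ := -(13 * B + 113 * C) with ht
  have f1 : 113 * k + 704 * t = B := by rw [hk, ht]; ring
  have f2 : -13 * k - 81 * t = C := by rw [hk, ht]; ring
  have hk0 : -(n : ℤ) ≤ 391 * k := by omega
  have g1 : 0 ≤ (n : ℤ) + 44239 * k + 275616 * t := by linarith only [p1]
  have g2 : 0 ≤ (n : ℤ) - 10193 * k - 63504 * t := by linarith only [p2]
  have f3 : (-(n : ℤ) - 44239 * k) / 275616 ≤ t := by omega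
  have f4 : t - (-(n : ℤ) - 44239 * k) / 275616 < 4 := by (clear * - hlt p2 e3; solve | lia | omega)
  obtain ⟨i, hi⟩ : ∃ i : ℕ, t = (-(n : ℤ) - 44239 * k) / 275616 + i :=
    ⟨(t - (-(n : ℤ) - 44239 * k) / 275616).toNat, by (clear * - f3; omega)⟩
  have h5 := List.all_eq_true.1 hchk i (List.mem_range.2 (by omega))
  rw [← hi, f1, f2, decide_eq_true p1, decide_eq_true p2, decide_eq_true h3, decide_eq_false ne, decide_eq_true b3,
    decide_eq_true b2, decide_eq_true r11, decide_eq_true r13, decide_eq_true hB] at h5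
  simpa using h5

theorem mem_candN {n : ℕ} (h : okF n = true) (h23 : n % 23 = 1 ∨ n % 23 = 22) (hn : n < 60928) : n ∈ candN := by
  have hk : n / 23 < 2649 ∨ n = 60927 + 1 := by omega
  rcases hk with hk | hk
  · have h1 := List.all_eq_true.1 candN_all (n / 23) (List.mem_range.2 hk)
    rw [Bool.and_eq_true] at h1
    rcases h23 with h2 | h2
    · have e : 23 * (n / 23) + 1 = n := by omega
      rw [e, h, Bool.not_true, Bool.false_or, List.contains_iff_mem] at h1
      exact h1.1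
    · have e : 23 * (n / 23) + 22 = n := by omega
      rw [e, h, Bool.not_true, Bool.false_or, List.contains_iff_mem] at h1
      exact h1.2
  · omega

theorem mem_candX {n : ℕ} (h : okF n = true) (h23 : n % 23 = 11 ∨ n % 23 = 12) (hn : n < 86768) : n ∈ candX := by
  have hk : n / 23 < 3773 := by omega
  have h1 := List.all_eq_true.1 candX_all (n / 23) (List.mem_range.2 hk)
  rw [Bool.and_eq_true] at h1
  rcases h23 with h2 | h2
  · have e : 23 * (n / 23) + 11 = n := by omega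
    rw [e, h, Bool.not_true, Bool.false_or, List.contains_iff_mem] at h1
    exact h1.1
  · have e : 23 * (n / 23) + 12 = n := by omega
    have e2 : (n / 23 == 3772) = false := by rw [beq_eq_false_iff_ne]; omega
    rw [e, e2, h, Bool.not_true, Bool.false_or, Bool.false_or, List.contains_iff_mem] at h1
    exact h1.2

/-- **the enumeration** -/
theorem arith {n : ℕ} {u B C : ℤ} (hn : n ∣ 1255205709190661721292800)
    (h29 : n % 29 = 0 ∨ n % 29 = 1 ∨ n % 29 = 28) (h17 : n % 17 = 0 ∨ n % 17 = 1 ∨ n % 17 = 16)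
    (h23 : ((n % 23 = 1 ∨ n % 23 = 22) ∧ n < 60928) ∨ ((n % 23 = 11 ∨ n % 23 = 12) ∧ n < 86768))
    (hR : (n : ℤ) * (n + 31671 * B + 275264 * C) = 306936 * u ^ 2)
    (p1 : 0 ≤ (n : ℤ) + 351 * B - 352 * C) (p2 : 0 ≤ (n : ℤ) - 81 * B + 80 * C)
    (hu : (n : ℤ) ∣ 306936 * u) (hB : (n : ℤ) ∣ 9720970056 * B) (h3 : (3 : ℤ) ∣ (n : ℤ) - C)
    (b1 : |B| ≤ n) (u1 : |u| ≤ n) (ne : B ≠ n) (r11 : R11 n B) (r13 : R13 n B) : (n, u.natAbs, B) ∈ exc := by
  have hpos : 0 < n := Nat.pos_of_ne_zero (by rintro rfl; simp at h23)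
  have hlt : n < 86768 := by omega
  have hok : okF n = true := by
    rw [okF, Bool.and_eq_true, Bool.and_eq_true]
    refine ⟨?_, ?_, ?_⟩
    · rw [beq_iff_eq]; exact Nat.mod_eq_zero_of_dvd hn
    · rcases h29 with h | h | h <;> simp [h]
    · rcases h17 with h | h | h <;> simp [h]
  have h4 : chkE n = true := by
    rcases h23 with ⟨h, hl⟩ | ⟨h, hl⟩
    · exact List.all_eq_true.1 chkN_all n (mem_candN hok h hl)
    · exact List.all_eq_true.1 chkX_all n (mem_candX hok h hl)
  have hqd : n / Nat.gcd n 306936 ∣ u.natAbs := by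
    have h5 : n ∣ 306936 * u.natAbs := by
      have := Int.natAbs_dvd_natAbs.2 hu
      rwa [Int.natAbs_mul, Int.natAbs_natCast] at this
    have hg : 0 < Nat.gcd n 306936 := Nat.gcd_pos_of_pos_left _ hpos
    have h6 : Nat.Coprime (n / Nat.gcd n 306936) (306936 / Nat.gcd n 306936) := Nat.coprime_div_gcd_div_gcd hg
    apply h6.dvd_of_dvd_mul_left
    obtain ⟨g1, hg1⟩ := Nat.gcd_dvd_left n 306936
    obtain ⟨g2, hg2⟩ := Nat.gcd_dvd_right n 306936
    set g := Nat.gcd n 306936 with hgdef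
    have e5 : n / g = g1 := by rw [hg1]; exact Nat.mul_div_cancel_left _ hg
    have e6 : 306936 / g = g2 := by rw [hg2]; exact Nat.mul_div_cancel_left _ hg
    rw [e5, e6]
    rw [hg1, hg2, mul_assoc] at h5
    exact Nat.dvd_of_mul_dvd_mul_left hg h5
  obtain ⟨j, hj⟩ := hqd
  unfold chkE at h4
  set q := n / Nat.gcd n 306936 with hq
  have hq0 : 0 < q := Nat.div_pos (Nat.le_of_dvd hpos (Nat.gcd_dvd_left _ _)) (Nat.gcd_pos_of_pos_left _ hpos)
  have hu' : q * j ≤ n := by
    rw [← hj]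
    have : ((u.natAbs : ℕ) : ℤ) ≤ (n : ℤ) := by rw [Int.natCast_natAbs]; exact u1
    exact_mod_cast this
  have hj' : j < n / q + 1 := by
    rw [Nat.lt_succ_iff, Nat.le_div_iff_mul_le hq0, mul_comm]; exact hu'
  have h5 := List.all_eq_true.1 h4 j (List.mem_range.2 hj')
  rw [hj]
  exact mem_exc_of hpos hlt (B := B) (C := C) (by rw [hR, ← hj, Int.natCast_natAbs, sq_abs]) p1 p2 h3 hB b1 ne r11 r13 h5

end Cfsg.Agent.H133.TC
end

-- part: H201/Fi/Weights
section
/-!
# The restriction of a character to `2^12` with `M24`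

`e : GolayPt → G` commuting elements of square 1, permuted by `M24` in `G`, with product 1 over the octads.  For a
character `χ` of `G` there are `a0 a1 b0 b1 c : ℕ` with

* `χ 1 = a0 + a1 + 759 (b0 + b1) + 2576 c`;
* `χ (e p) = a0 - a1 + 253 (b0 - b1)`;
* `χ (e p * e q) = a0 + a1 + 55 (b0 + b1) - 112 c`; and so on for three and four factors.
-/

set_option autoImplicit false
set_option maxRecDepth 100000

open scoped ComplexConjugate

namespace Cfsg.Agent.H201.Fi

open Cfsg Cfsg.Agent.H852.GolayMod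

universe u

/-- words as a multiplicative group -/
abbrev Wd : Type := Multiplicative (GolayPt → ZMod 2)

/-- the word of a point -/
def pt1 (p : GolayPt) : Wd := Multiplicative.ofAdd (ind {p})

/-! ### Generation -/

theorem pt_gen {H : Subgroup Wd} (h : ∀ p, pt1 p ∈ H) (w : Wd) : w ∈ H := by
  have h1 : w = ∏ p ∈ Finset.univ.filter (fun p => Multiplicative.toAdd w p ≠ 0), pt1 p := by
    apply Multiplicative.toAdd.injective
    rw [toAdd_prod]
    funext q
    rw [Finset.sum_apply]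
    have h2 : ∀ p, Multiplicative.toAdd (pt1 p) q = if q = p then 1 else 0 := by
      intro p
      show ind {p} q = _
      rw [ind_apply]
      simp
    simp only [h2]
    rw [Finset.sum_ite_eq]
    by_cases h3 : Multiplicative.toAdd w q = 0
    · rw [if_neg (by simp [h3]), h3]
    · rw [if_pos (by simp [h3])]
      exact ((z2 _).resolve_left h3)
  rw [h1]
  exact H.prod_mem fun p _ => h p

theorem hom_ext {G : Type*} [Group G] {f g : Wd →* G} (h : ∀ p, f (pt1 p) = g (pt1 p)) : f = g := by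
  ext w
  exact pt_gen (H := f.eqLocus g) h w

/-! ### The homomorphism -/

section Hom

variable {G : Type*} [Group G] {e : GolayPt → G}

/-- the homomorphism of an element of square 1 -/
noncomputable def h2 {x : G} (hx : x * x = 1) : Multiplicative (ZMod 2) →* G where
  toFun a := if Multiplicative.toAdd a = 0 then 1 else x
  map_one' := by simp
  map_mul' a b := by
    rw [toAdd_mul]
    rcases z2 (Multiplicative.toAdd a) with h | h <;> rcases z2 (Multiplicative.toAdd b) with h' | h' <;>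
      rw [h, h']
    · simp
    · simp only [_root_.zero_add, _root_.one_ne_zero, ↓ _root_.reduceIte, _root_.one_mul]
    · simp only [_root_.add_zero, _root_.one_ne_zero, ↓ _root_.reduceIte, _root_.mul_one]
    · rw [if_pos (by decide), if_neg (by decide), hx]

theorem exists_hom (sq : ∀ p, e p * e p = 1) (comm : ∀ p q, e p * e q = e q * e p) :
    ∃ φ : Wd →* G, ∀ p, φ (pt1 p) = e p := by
  have hc : Pairwise fun p q => ∀ x y, Commute (h2 (sq p) x) (h2 (sq q) y) := by
    intro p q _ x y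
    show Commute (if _ then 1 else e p) (if _ then 1 else e q)
    split_ifs
    · exact Commute.one_left _
    · exact Commute.one_left _
    · exact Commute.one_right _
    · exact comm p q
  let ψ : (GolayPt → Multiplicative (ZMod 2)) →* G := MonoidHom.noncommPiCoprod (fun p => h2 (sq p)) hc
  let τ : Wd →* (GolayPt → Multiplicative (ZMod 2)) :=
    { toFun := fun w p => Multiplicative.ofAdd (Multiplicative.toAdd w p)
      map_one' := rfl
      map_mul' := fun _ _ => rfl }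
  refine ⟨ψ.comp τ, fun p => ?_⟩
  have h1 : τ (pt1 p) = Pi.mulSingle p (Multiplicative.ofAdd 1) := by
    funext q
    show Multiplicative.ofAdd (ind {p} q) = _
    rw [ind_apply]
    by_cases h : q = p
    · subst h; simp only [_root_.Finset.mem_singleton, ↓ _root_.reduceIte, _root_.Pi.mulSingle_eq_same]
    · rw [Pi.mulSingle_eq_of_ne h]; simp [h]
  show ψ (τ (pt1 p)) = e p
  rw [h1, MonoidHom.noncommPiCoprod_mulSingle]
  show (if Multiplicative.toAdd (Multiplicative.ofAdd (1 : ZMod 2)) = 0 then (1 : G) else e p) = e p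
  exact if_neg (by decide)

end Hom

/-! ### The action of `M24` -/

section Act

/-- the action of a permutation -/
def actM (σ : Equiv.Perm GolayPt) : Wd →* Wd where
  toFun w := Multiplicative.ofAdd (act σ (Multiplicative.toAdd w))
  map_one' := rfl
  map_mul' _ _ := rfl

theorem actM_pt (σ : Equiv.Perm GolayPt) (p : GolayPt) : actM σ (pt1 p) = pt1 (σ p) := by
  apply Multiplicative.toAdd.injective
  show act σ (ind {p}) = ind {σ p}
  rw [act_ind, Finset.map_singleton]
  rfl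

theorem actM_inv (σ : Equiv.Perm GolayPt) (w : Wd) : actM σ (actM σ⁻¹ w) = w := by
  apply Multiplicative.toAdd.injective
  funext p
  show Multiplicative.toAdd w (σ⁻¹.symm (σ.symm p)) = Multiplicative.toAdd w p
  have h : σ⁻¹.symm (σ.symm p) = p := σ.apply_symm_apply p
  rw [h]

/-- the action as a permutation -/
def actE (σ : Equiv.Perm GolayPt) : Wd ≃ Wd where
  toFun := actM σ
  invFun := actM σ⁻¹
  left_inv w := by
    have := actM_inv σ⁻¹ w
    rwa [inv_inv] at this
  right_inv := actM_inv σ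

end Act

/-! ### Linear characters -/

/-- the sign -/
noncomputable def sgn (x : ZMod 2) : ℂ := if x = 0 then 1 else -1

theorem sgn_add (x y : ZMod 2) : sgn (x + y) = sgn x * sgn y := by
  unfold sgn
  rcases z2 x with rfl | rfl <;> rcases z2 y with rfl | rfl
  · simp
  · simp only [_root_.zero_add, _root_.one_ne_zero, ↓ _root_.reduceIte, _root_.mul_neg, _root_.mul_one]
  · simp only [_root_.add_zero, _root_.one_ne_zero, ↓ _root_.reduceIte, _root_.mul_one]
  · rw [if_pos (by decide), if_neg (by decide)]; norm_num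

theorem sgn_zero : sgn 0 = 1 := if_pos rfl

theorem sgn_mul_self (x : ZMod 2) : sgn x * sgn x = 1 := by
  rw [← sgn_add, show x + x = 0 from by rcases z2 x with rfl | rfl <;> decide, sgn_zero]

theorem conj_sgn (x : ZMod 2) : conj (sgn x) = sgn x := by
  unfold sgn
  split_ifs <;> simp only [_root_.map_one, _root_.map_neg]

/-- the scalar product -/
def dot (w v : GolayPt → ZMod 2) : ZMod 2 := ∑ p, w p * v p

theorem dot_add (w v v' : GolayPt → ZMod 2) : dot w (v + v') = dot w v + dot w v' := by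
  unfold dot
  rw [← Finset.sum_add_distrib]
  exact Finset.sum_congr rfl fun p _ => by rw [Pi.add_apply, mul_add]

theorem add_dot (w w' v : GolayPt → ZMod 2) : dot (w + w') v = dot w v + dot w' v := by
  unfold dot
  rw [← Finset.sum_add_distrib]
  exact Finset.sum_congr rfl fun p _ => by rw [Pi.add_apply, add_mul]

theorem dot_zero (w : GolayPt → ZMod 2) : dot w 0 = 0 := by
  unfold dot
  simp

theorem dot_act (σ : Equiv.Perm GolayPt) (w v : GolayPt → ZMod 2) : dot (act σ w) (act σ v) = dot w v := by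
  unfold dot
  exact Fintype.sum_equiv σ.symm _ _ fun p => rfl

theorem dot_ind (w : GolayPt → ZMod 2) (s : Finset GolayPt) : dot w (ind s) = ∑ p ∈ s, w p := by
  unfold dot
  simp only [ind_apply, mul_ite, mul_one, mul_zero]
  rw [Finset.sum_ite_mem, Finset.univ_inter]

/-- the linear character of a word -/
noncomputable def lam (w : GolayPt → ZMod 2) (a : Wd) : ℂ := sgn (dot w (Multiplicative.toAdd a))

theorem lam_mul (w : GolayPt → ZMod 2) (a b : Wd) : lam w (a * b) = lam w a * lam w b := by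
  unfold lam
  rw [toAdd_mul, dot_add, sgn_add]

theorem lam_one (w : GolayPt → ZMod 2) : lam w 1 = 1 := by
  unfold lam
  rw [toAdd_one, dot_zero, sgn_zero]

theorem lam_mul_self (w : GolayPt → ZMod 2) (a : Wd) : lam w a * lam w a = 1 := sgn_mul_self _

theorem conj_lam (w : GolayPt → ZMod 2) (a : Wd) : conj (lam w a) = lam w a := conj_sgn _

theorem lam_def (w : GolayPt → ZMod 2) (a : Wd) : lam w a = sgn (dot w (Multiplicative.toAdd a)) := rfl

attribute [irreducible] lam

/-- the value as a unit -/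
noncomputable def lamV (w : GolayPt → ZMod 2) (a : Wd) : ℂˣ := ⟨lam w a, lam w a, lam_mul_self w a, lam_mul_self w a⟩

theorem lamV_coe (w : GolayPt → ZMod 2) (a : Wd) : ((lamV w a : ℂˣ) : ℂ) = lam w a := rfl

/-- the linear character as a homomorphism -/
noncomputable def lamU (w : GolayPt → ZMod 2) : Wd →* ℂˣ :=
  MonoidHom.mk' (lamV w) fun a b => by
    apply Units.ext
    rw [Units.val_mul, lamV_coe, lamV_coe, lamV_coe, lam_mul]

theorem lamU_apply (w : GolayPt → ZMod 2) (a : Wd) : ((lamU w a : ℂˣ) : ℂ) = lam w a := rfl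

theorem isChar_lam (w : GolayPt → ZMod 2) : IsCharacter Wd (lam w) := by
  have h := Cfsg.Agent.Characters.Linear.isCharacter_hom (lamU w)
  simp only [lamU_apply] at h
  exact h

/-- orthogonality -/
theorem sum_lam (c : GolayPt → ZMod 2) (hc : c ≠ 0) : ∑ w, sgn (dot w c) = 0 := by
  obtain ⟨p, hp⟩ : ∃ p, c p ≠ 0 := by
    by_contra h
    exact hc (funext fun q => by_contra fun hq => h ⟨q, hq⟩)
  have hp1 : c p = 1 := (z2 _).resolve_left hp
  have h1 : ∑ w, sgn (dot w c) = ∑ w, sgn (dot (w + ind {p}) c) :=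
    (Fintype.sum_equiv (Equiv.addRight (ind {p})) _ _ fun w => rfl).symm
  have h2 : ∀ w, sgn (dot (w + ind {p}) c) = - sgn (dot w c) := by
    intro w
    rw [add_dot, sgn_add]
    have h3 : dot (ind {p}) c = 1 := by
      unfold dot
      simp only [ind_apply, Finset.mem_singleton, ite_mul, one_mul, zero_mul]
      rw [Finset.sum_ite_eq', if_pos (Finset.mem_univ _), hp1]
    rw [h3]
    unfold sgn
    rw [if_neg (show (1 : ZMod 2) ≠ 0 by decide)]
    ring
  simp only [h2, Finset.sum_neg_distrib] at h1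
  exact CharZero.eq_neg_self_iff.1 h1

/-! ### Multiplicities -/

section Mult

variable {G : Type u} [Group G] {χ : G → ℂ} {φ : Wd →* G}

theorem card_Wd : (Nat.card Wd : ℂ) = ∑ _w : GolayPt → ZMod 2, (1 : ℂ) := by
  rw [Finset.sum_const, nsmul_eq_mul, mul_one, Finset.card_univ, Nat.card_eq_fintype_card, Fintype.card_multiplicative]

theorem card_ne : (Nat.card Wd : ℂ) ≠ 0 := by
  have : 0 < Nat.card Wd := Nat.card_pos
  exact_mod_cast this.ne'

theorem exists_mult (hχ : IsCharacter G χ) (φ : Wd →* G) (w : GolayPt → ZMod 2) :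
    ∃ m : ℕ, ∑ a : Wd, χ (φ a) * lam w a = (Nat.card Wd : ℂ) * m := by
  obtain ⟨m, hm⟩ := Cfsg.Agent.Characters.Core.classInner_isNat
    (Cfsg.Agent.Characters.Core.isCharacter_comp φ hχ) (isChar_lam w)
  refine ⟨m, ?_⟩
  rw [← hm, Cfsg.Agent.Characters.Core.classInner_def, ← mul_assoc, mul_inv_cancel₀ card_ne, one_mul]
  exact Finset.sum_congr rfl fun a _ => by rw [conj_lam]; rfl

theorem Wd_sq (a : Wd) : a * a = 1 := by
  apply Multiplicative.toAdd.injective
  exact add_self _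

/-- Fourier inversion -/
theorem inversion {m : (GolayPt → ZMod 2) → ℕ}
    (hm : ∀ w, ∑ a : Wd, χ (φ a) * lam w a = (Nat.card Wd : ℂ) * m w) (a : Wd) :
    χ (φ a) = ∑ w, (m w : ℂ) * lam w a := by
  apply mul_left_cancel₀ card_ne
  rw [Finset.mul_sum]
  have h1 : ∀ w, (Nat.card Wd : ℂ) * ((m w : ℂ) * lam w a) = ∑ b : Wd, χ (φ b) * lam w (b * a) := by
    intro w
    rw [← mul_assoc, ← hm w, Finset.sum_mul]
    exact Finset.sum_congr rfl fun b _ => by rw [lam_mul, mul_assoc]
  simp only [h1]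
  rw [Finset.sum_comm]
  simp only [← Finset.mul_sum]
  rw [Finset.sum_eq_single a]
  · rw [Wd_sq]
    simp only [lam_one]
    rw [← card_Wd, mul_comm]
  · intro b _ hb
    have h2 : ∑ w, lam w (b * a) = 0 := by
      simp only [lam_def]
      apply sum_lam
      intro h3
      apply hb
      have h4 : b * a = 1 := h3
      have h5 : b = a⁻¹ := eq_inv_of_mul_eq_one_left h4
      rw [h5, inv_eq_iff_mul_eq_one]
      exact Wd_sq a
    rw [h2, mul_zero]
  · intro h; exact absurd (Finset.mem_univ a) h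

theorem lam_act (σ : Equiv.Perm GolayPt) (w : GolayPt → ZMod 2) (a : Wd) : lam (act σ w) (actM σ a) = lam w a := by
  rw [lam_def, lam_def]
  have h : Multiplicative.toAdd (actM σ a) = act σ (Multiplicative.toAdd a) := rfl
  rw [h, dot_act]

/-- invariance -/
theorem mult_act {m : (GolayPt → ZMod 2) → ℕ}
    (hm : ∀ w, ∑ a : Wd, χ (φ a) * lam w a = (Nat.card Wd : ℂ) * m w) {σ : Equiv.Perm GolayPt}
    (hσ : ∀ a, χ (φ (actM σ a)) = χ (φ a)) (w : GolayPt → ZMod 2) : m (act σ w) = m w := by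
  have h1 : (Nat.card Wd : ℂ) * m (act σ w) = (Nat.card Wd : ℂ) * m w := by
    rw [← hm, ← hm]
    refine (Fintype.sum_equiv (actE σ) _ _ fun a => ?_).symm
    show χ (φ a) * lam w a = χ (φ (actM σ a)) * lam (act σ w) (actM σ a)
    rw [hσ, lam_act]
  exact_mod_cast mul_left_cancel₀ card_ne h1

/-- the multiplicity is zero outside the code -/
theorem mult_code {m : (GolayPt → ZMod 2) → ℕ}
    (hm : ∀ w, ∑ a : Wd, χ (φ a) * lam w a = (Nat.card Wd : ℂ) * m w)
    (hc : ∀ c ∈ golayCode, φ (Multiplicative.ofAdd c) = 1) {w : GolayPt → ZMod 2} (hw : w ∉ golayCode) : m w = 0 := by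
  obtain ⟨c, hcc, hc1⟩ : ∃ c ∈ golayCode, dot w c = 1 := by
    by_contra h
    apply hw
    rw [← ind_support₂ w]
    apply Cfsg.Agent.S5549.mem_of_orth
    apply LinearMap.ext
    intro c
    rw [Cfsg.Agent.S5549.fs_eq_dot, LinearMap.zero_apply, ind_support₂]
    by_contra h1
    exact (h ⟨c, c.2, (z2 _).resolve_left h1⟩ :)
  have h1 : ∑ a : Wd, χ (φ a) * lam w a = - ∑ a : Wd, χ (φ a) * lam w a := by
    rw [← Finset.sum_neg_distrib]
    refine (Fintype.sum_equiv (Equiv.mulRight (Multiplicative.ofAdd c)) _ _ fun a => ?_).symm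
    show -(χ (φ a) * lam w a) = χ (φ (a * Multiplicative.ofAdd c)) * lam w (a * Multiplicative.ofAdd c)
    rw [map_mul, hc c hcc, mul_one, lam_mul]
    have h2 : lam w (Multiplicative.ofAdd c) = -1 := by
      rw [lam_def]
      show sgn (dot w c) = -1
      rw [hc1]
      exact if_neg (by decide)
    rw [h2]; ring
  have h3 : ∑ a : Wd, χ (φ a) * lam w a = 0 := CharZero.eq_neg_self_iff.1 h1
  rw [hm] at h3
  exact_mod_cast (mul_eq_zero.1 h3).resolve_left card_ne

end Mult

end Cfsg.Agent.H201.Fi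
end

-- part: H201/Fi/Count
section
/-!
# Sums of signs over the Golay code
-/

set_option autoImplicit false
set_option maxRecDepth 100000

namespace Cfsg.Agent.H201.Fi

open Cfsg Cfsg.Agent.H852.GolayMod Cfsg.Agent.Golay.Core

/-- the parity of the bits -/
def par : List ℕ → ℕ → Bool
  | [], _ => false
  | i :: l, m => xor (m.testBit i) (par l m)

theorem par_spec (w : GolayPt → ZMod 2) : ∀ L : List GolayPt,
    (L.map w).sum = if par (L.map pos) (mask w) = true then 1 else 0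
  | [] => by simp [par]
  | p :: L => by
    rw [List.map_cons, List.sum_cons, par_spec w L, List.map_cons, par, testBit_mask]
    rcases z2 (w p) with h | h <;> rw [h] <;> cases par (L.map pos) (mask w) <;> decide

/-- the number of the words of weight `k` and given parity -/
def cn (k : ℕ) (l : List ℕ) (b : Bool) : ℕ := cntD (fun j => popc 24 (enc j) == k && (par l (enc j) == b)) 12 0

theorem ncard_cn (k : ℕ) (L : List GolayPt) (b : Bool) :
    {w : GolayPt → ZMod 2 | w ∈ golayCode ∧ (hammingNorm w = k ∧ par (L.map pos) (mask w) = b)}.ncard =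
      cn k (L.map pos) b := by
  rw [cn]
  apply ncard_golayCode_filter (fun w => hammingNorm w = k ∧ par (L.map pos) (mask w) = b)
    (fun m => popc 24 m == k && (par (L.map pos) m == b))
  intro w _
  rw [Bool.and_eq_true, beq_iff_eq, beq_iff_eq, hammingNorm_eq_popc]

open Classical in
/-- the sum of the signs over the words of weight `k` -/
noncomputable def S (k : ℕ) (L : List GolayPt) : ℂ :=
  ∑ w : GolayPt → ZMod 2, if w ∈ golayCode ∧ hammingNorm w = k then sgn ((L.map w).sum) else 0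

open Classical in
theorem S_eq (k : ℕ) (L : List GolayPt) : S k L = (cn k (L.map pos) false : ℂ) - cn k (L.map pos) true := by
  have h1 : ∀ w : GolayPt → ZMod 2, (if w ∈ golayCode ∧ hammingNorm w = k then sgn ((L.map w).sum) else 0) =
      (if w ∈ golayCode ∧ (hammingNorm w = k ∧ par (L.map pos) (mask w) = false) then (1 : ℂ) else 0) -
        (if w ∈ golayCode ∧ (hammingNorm w = k ∧ par (L.map pos) (mask w) = true) then (1 : ℂ) else 0) := by
    intro w
    by_cases h : w ∈ golayCode ∧ hammingNorm w = k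
    · rw [if_pos h, par_spec]
      cases hp : par (L.map pos) (mask w)
      · simp [h.1, h.2, sgn_zero]
      · have h1 : sgn 1 = -1 := if_neg (by decide)
        simp [h.1, h.2, h1]
    · rw [if_neg h, if_neg (fun h' => h ⟨h'.1, h'.2.1⟩), if_neg (fun h' => h ⟨h'.1, h'.2.1⟩), sub_zero]
  unfold S
  simp only [h1]
  rw [Finset.sum_sub_distrib, Finset.sum_boole, Finset.sum_boole, ← ncard_cn, ← ncard_cn]
  congr 2
  · rw [← Set.ncard_coe_finset]; congr 1; ext w; simp
  · rw [← Set.ncard_coe_finset]; congr 1; ext w; simp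

/-- the table -/
def tab : List (ℕ × List ℕ × ℤ) := [
  (0, [], 1), (8, [], 759), (12, [], 2576), (16, [], 759), (24, [], 1),
  (0, [23], 1), (8, [23], 253), (12, [23], 0), (16, [23], -253), (24, [23], -1),
  (0, [23, 0], 1), (8, [23, 0], 55), (12, [23, 0], -112), (16, [23, 0], 55), (24, [23, 0], 1),
  (0, [23, 0, 1], 1), (8, [23, 0, 1], -3), (12, [23, 0, 1], 0), (16, [23, 0, 1], 3), (24, [23, 0, 1], -1),
  (0, [23, 0, 1, 2], 1), (8, [23, 0, 1, 2], -9), (12, [23, 0, 1, 2], 16), (16, [23, 0, 1, 2], -9), (24, [23, 0, 1, 2], 1)]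

/-! ### Fast evaluation of the counts: one pass for each list of positions -/

/-- the numbers of ones of the bytes, four bits each -/
def popTab : ℕ :=
  0x8776766576656554766565546554544376656554655454436554544354434332766565546554544365545443544343326554544354434332544343324332322176656554655454436554544354434332655454435443433254434332433232216554544354434332544343324332322154434332433232214332322132212110

theorem popTab_spec : ∀ m < 256, popc 8 m = (popTab >>> (4 * m)) % 16 := by decide +kernel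

theorem popc_add (a : ℕ) : ∀ b n : ℕ, popc (b + a) n = popc b n + popc a (n / 2 ^ b)
  | 0, n => by rw [Nat.zero_add, popc_zero_left, Nat.zero_add, pow_zero, Nat.div_one]
  | b + 1, n => by
    rw [Nat.add_right_comm, popc_succ, popc_succ, popc_add a b, Nat.div_div_eq_div_mul, ← pow_succ', Nat.add_assoc]

theorem popc_mod : ∀ a n : ℕ, popc a (n % 2 ^ a) = popc a n
  | 0, n => rfl
  | a + 1, n => by
    rw [popc_succ, popc_succ, pow_succ', Nat.mod_mul_right_div_self, popc_mod a, Nat.mod_mul_right_mod]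

/-- the number of ones, from the table -/
def popf (n : ℕ) : ℕ :=
  (popTab >>> (4 * (n % 256))) % 16 +
    ((popTab >>> (4 * (n / 256 % 256))) % 16 + (popTab >>> (4 * (n / 256 / 256 % 256))) % 16)

theorem popc_eq_popf (n : ℕ) : popc 24 n = popf n := by
  have h8 : ∀ m, popc 8 m = (popTab >>> (4 * (m % 256))) % 16 := by
    intro m
    rw [← popc_mod 8 m]
    exact popTab_spec _ (Nat.mod_lt _ (by norm_num))
  rw [show 24 = 8 + (8 + 8) from rfl, popc_add, popc_add, h8, h8, h8]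
  rfl

theorem sum_two (f : ℕ → ℕ) (N : ℕ) :
    ∑ k ∈ Finset.range (2 * N), f k = ∑ k ∈ Finset.range N, (f (2 * k) + f (2 * k + 1)) := by
  induction N with
  | zero => rfl
  | succ N ih => rw [Nat.mul_succ, Finset.sum_range_succ, Finset.sum_range_succ, ih, Finset.sum_range_succ, add_assoc]

/-- the sum of `f` over the words `a + w`, `w` in the span of the list -/
def spn (f : ℕ → ℕ) : List ℕ → ℕ → ℕ
  | [], a => f a
  | c :: L, a => spn f L a + spn f L (Nat.xor a c)

theorem spn_spec (f : ℕ → ℕ) : ∀ (L : List ℕ) (a : ℕ),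
    spn f L a = ∑ k ∈ Finset.range (2 ^ L.length), f (a ^^^ lin L k)
  | [], a => by simp [spn, lin]
  | c :: L, a => by
    rw [spn, spn_spec f L, spn_spec f L, List.length_cons, pow_succ', sum_two, ← Finset.sum_add_distrib]
    refine Finset.sum_congr rfl fun k _ => ?_
    have h1 : lin (c :: L) (2 * k) = lin L k := by
      rw [lin_cons, Nat.mul_mod_right, Nat.mul_zero, Nat.mul_div_cancel_left k (by norm_num), Nat.zero_xor]
    have h2 : lin (c :: L) (2 * k + 1) = c ^^^ lin L k := by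
      have e1 : (2 * k + 1) % 2 = 1 := by omega
      have e2 : (2 * k + 1) / 2 = k := by omega
      rw [lin_cons, e1, e2, Nat.mul_one]
    rw [h1, h2, ← Nat.xor_assoc]
    rfl

/-- the digits of a sum of few powers -/
theorem digit_sum {N B : ℕ} (code : ℕ → ℕ) (hN : N < B) (c : ℕ) :
    (∑ k ∈ Finset.range N, B ^ code k) / B ^ c % B = ∑ k ∈ Finset.range N, if code k = c then 1 else 0 := by
  have hB : 0 < B := by omega
  have h : ∀ k, B ^ code k = (if code k < c then B ^ code k else 0) +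
      B ^ c * ((if code k = c then 1 else 0) + B * (if c < code k then B ^ (code k - c - 1) else 0)) := by
    intro k
    rcases lt_trichotomy (code k) c with h | h | h
    · rw [if_pos h, if_neg (by omega), if_neg (by omega)]; simp
    · rw [if_neg (by omega), if_pos h, if_neg (by omega), h]; simp
    · rw [if_neg (by omega), if_neg (by omega), if_pos h, Nat.zero_add, Nat.zero_add, ← pow_succ', ← pow_add]
      congr 1
      omega
  rw [Finset.sum_congr rfl (fun k _ => h k), Finset.sum_add_distrib, ← Finset.mul_sum, Finset.sum_add_distrib,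
    ← Finset.mul_sum]
  have hX : ∑ k ∈ Finset.range N, (if code k < c then B ^ code k else 0) < B ^ c := by
    rcases c with _ | c
    · simp
    · calc ∑ k ∈ Finset.range N, (if code k < c + 1 then B ^ code k else 0)
          ≤ ∑ k ∈ Finset.range N, B ^ c := by
            refine Finset.sum_le_sum fun k _ => ?_
            split_ifs with h
            · exact Nat.pow_le_pow_right hB (by omega)
            · exact Nat.zero_le _
        _ = N * B ^ c := by rw [Finset.sum_const, Finset.card_range, smul_eq_mul]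
        _ < B ^ (c + 1) := by rw [pow_succ']; exact Nat.mul_lt_mul_of_pos_right hN (pow_pos hB c)
  have hn : ∑ k ∈ Finset.range N, (if code k = c then 1 else 0) < B := by
    refine lt_of_le_of_lt ?_ hN
    calc ∑ k ∈ Finset.range N, (if code k = c then 1 else 0) ≤ ∑ k ∈ Finset.range N, 1 := by
          refine Finset.sum_le_sum fun k _ => ?_
          split_ifs <;> norm_num
      _ = N := by simp
  rw [Nat.add_mul_div_left _ _ (pow_pos hB c), Nat.div_eq_of_lt hX, Nat.zero_add, Nat.add_mul_mod_self_left,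
    Nat.mod_eq_of_lt hn]

/-- all counts for one list, as digits to the base `8192` -/
def pk (l : List ℕ) : ℕ := spn (fun m => 8192 ^ (2 * popf m + (par l m).toNat)) basis 0

theorem cn_eq (k : ℕ) (l : List ℕ) (b : Bool) : cn k l b = pk l / 8192 ^ (2 * k + b.toNat) % 8192 := by
  have hlen : basis.length = 12 := rfl
  rw [pk, spn_spec, hlen, digit_sum (fun j => 2 * popf (0 ^^^ lin basis j) + (par l (0 ^^^ lin basis j)).toNat)
    (by norm_num), cn, ← card_filter_range, Finset.card_filter]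
  refine Finset.sum_congr rfl fun j _ => ?_
  have e : (popc 24 (enc j) == k && (par l (enc j) == b)) = true ↔
      2 * popf (0 ^^^ lin basis j) + (par l (0 ^^^ lin basis j)).toNat = 2 * k + b.toNat := by
    rw [Nat.zero_xor, ← popc_eq_popf, Bool.and_eq_true, beq_iff_eq, beq_iff_eq, enc]
    cases par l (lin basis j) <;> cases b <;> simp <;> omega
  exact if_congr e rfl rfl

private def frc (x : ℕ) (k : ℕ → ℕ) : ℕ := Nat.rec (k 0) (fun m _ => k (Nat.succ m)) x

private theorem frc_eq (x : ℕ) (k : ℕ → ℕ) : frc x k = k x := by cases x <;> rfl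

private def spnF (f : ℕ → ℕ) (L : List ℕ) : ℕ → ℕ :=
  List.rec f (fun c _ ih a => Nat.add (ih a) (frc (Nat.xor a c) ih)) L

private theorem spnF_eq (f : ℕ → ℕ) : ∀ (L : List ℕ) (a : ℕ), spnF f L a = spn f L a
  | [], _ => rfl
  | c :: L, a => by
    rw [spn, ← spnF_eq f L, ← spnF_eq f L]
    exact congrArg (Nat.add (spnF f L a)) (frc_eq (Nat.xor a c) (spnF f L))

private def popF (n : ℕ) : ℕ :=
  Nat.mul 2 (Nat.add (Nat.mod (Nat.shiftRight popTab (Nat.mul 4 (Nat.mod n 256))) 16)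
    (Nat.add (Nat.mod (Nat.shiftRight popTab (Nat.mul 4 (Nat.mod (Nat.div n 256) 256))) 16)
      (Nat.mod (Nat.shiftRight popTab (Nat.mul 4 (Nat.mod (Nat.div (Nat.div n 256) 256) 256))) 16)))

private def parF (l : List ℕ) (m : ℕ) : ℕ := List.rec 0 (fun i _ r => Nat.add (Nat.shiftRight m i) r) l

private theorem parF_eq (m : ℕ) : ∀ l : List ℕ, parF l m % 2 = (par l m).toNat
  | [] => rfl
  | i :: l => by
    have h1 : parF (i :: l) m = m >>> i + parF l m := rfl
    have h2 := parF_eq m l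
    have h3 : m.testBit i = decide (m >>> i % 2 = 1) := by rw [Nat.testBit_eq_decide_div_mod_eq, Nat.shiftRight_eq_div_pow]
    rw [h1, par, h3]
    generalize m >>> i = x
    generalize parF l m = y at h2 ⊢
    generalize par l m = b at h2 ⊢
    rcases Nat.mod_two_eq_zero_or_one x with h | h <;> cases b <;> simp [h] at h2 ⊢ <;> omega

private def pkF (l : List ℕ) : ℕ := spnF (fun m => Nat.pow 8192 (Nat.add (popF m) (Nat.mod (parF l m) 2))) basis 0

private theorem pkF_eq (l : List ℕ) : pkF l = pk l := by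
  rw [pkF, pk, spnF_eq]
  congr 1
  funext m
  rw [← parF_eq]
  rfl

private theorem pk_all : pkF [] = 1 * 8192 ^ 0 + 759 * 8192 ^ 16 + 2576 * 8192 ^ 24 + 759 * 8192 ^ 32 + 1 * 8192 ^ 48 ∧
    pkF [23] = 1 * 8192 ^ 0 + 506 * 8192 ^ 16 + 253 * 8192 ^ 17 + 1288 * 8192 ^ 24 + 1288 * 8192 ^ 25 + 253 * 8192 ^ 32 + 506 * 8192 ^ 33 + 1 * 8192 ^ 49 ∧
    pkF [23, 0] = 1 * 8192 ^ 0 + 407 * 8192 ^ 16 + 352 * 8192 ^ 17 + 1232 * 8192 ^ 24 + 1344 * 8192 ^ 25 + 407 * 8192 ^ 32 + 352 * 8192 ^ 33 + 1 * 8192 ^ 48 ∧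
    pkF [23, 0, 1] = 1 * 8192 ^ 0 + 378 * 8192 ^ 16 + 381 * 8192 ^ 17 + 1288 * 8192 ^ 24 + 1288 * 8192 ^ 25 + 381 * 8192 ^ 32 + 378 * 8192 ^ 33 + 1 * 8192 ^ 49 ∧
    pkF [23, 0, 1, 2] = 1 * 8192 ^ 0 + 375 * 8192 ^ 16 + 384 * 8192 ^ 17 + 1296 * 8192 ^ 24 + 1280 * 8192 ^ 25 + 375 * 8192 ^ 32 + 384 * 8192 ^ 33 + 1 * 8192 ^ 48 := by decide +kernel

theorem pk0 : pk [] =
    1 * 8192 ^ 0 + 759 * 8192 ^ 16 + 2576 * 8192 ^ 24 + 759 * 8192 ^ 32 + 1 * 8192 ^ 48 := (pkF_eq _).symm.trans pk_all.1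

theorem pk1 : pk [23] =
    1 * 8192 ^ 0 + 506 * 8192 ^ 16 + 253 * 8192 ^ 17 + 1288 * 8192 ^ 24 + 1288 * 8192 ^ 25 + 253 * 8192 ^ 32 + 506 * 8192 ^ 33 + 1 * 8192 ^ 49 := (pkF_eq _).symm.trans pk_all.2.1

theorem pk2 : pk [23, 0] =
    1 * 8192 ^ 0 + 407 * 8192 ^ 16 + 352 * 8192 ^ 17 + 1232 * 8192 ^ 24 + 1344 * 8192 ^ 25 + 407 * 8192 ^ 32 + 352 * 8192 ^ 33 + 1 * 8192 ^ 48 := (pkF_eq _).symm.trans pk_all.2.2.1

theorem pk3 : pk [23, 0, 1] =
    1 * 8192 ^ 0 + 378 * 8192 ^ 16 + 381 * 8192 ^ 17 + 1288 * 8192 ^ 24 + 1288 * 8192 ^ 25 + 381 * 8192 ^ 32 + 378 * 8192 ^ 33 + 1 * 8192 ^ 49 := (pkF_eq _).symm.trans pk_all.2.2.2.1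

theorem pk4 : pk [23, 0, 1, 2] =
    1 * 8192 ^ 0 + 375 * 8192 ^ 16 + 384 * 8192 ^ 17 + 1296 * 8192 ^ 24 + 1280 * 8192 ^ 25 + 375 * 8192 ^ 32 + 384 * 8192 ^ 33 + 1 * 8192 ^ 48 := (pkF_eq _).symm.trans pk_all.2.2.2.2

/-- the check of one row of the table -/
theorem row_all (l : List ℕ) {n : ℕ} (h : pk l = n) (r : List (ℕ × ℤ))
    (hr : r.all (fun s => ((n / 8192 ^ (2 * s.1) % 8192 : ℕ) : ℤ) - ((n / 8192 ^ (2 * s.1 + 1) % 8192 : ℕ) : ℤ) == s.2) =
      true) :
    (r.map (fun s => (s.1, l, s.2))).all (fun t => (cn t.1 t.2.1 false : ℤ) - cn t.1 t.2.1 true == t.2.2) = true := by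
  subst h
  rw [List.all_eq_true] at hr ⊢
  intro t ht
  obtain ⟨s, hs, rfl⟩ := List.mem_map.1 ht
  have h1 := hr s hs
  have h2 := cn_eq s.1 l false
  have h3 := cn_eq s.1 l true
  rw [Bool.toNat_false, Nat.add_zero] at h2
  rw [Bool.toNat_true] at h3
  rw [← h2, ← h3] at h1
  exact h1

theorem tab_all : tab.all (fun t => (cn t.1 t.2.1 false : ℤ) - cn t.1 t.2.1 true == t.2.2) = true := by
  have h : tab =
      [(0, 1), (8, 759), (12, 2576), (16, 759), (24, 1)].map (fun s => (s.1, [], s.2)) ++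
      ([(0, 1), (8, 253), (12, 0), (16, -253), (24, -1)].map (fun s => (s.1, [23], s.2)) ++
      ([(0, 1), (8, 55), (12, -112), (16, 55), (24, 1)].map (fun s => (s.1, [23, 0], s.2)) ++
      ([(0, 1), (8, -3), (12, 0), (16, 3), (24, -1)].map (fun s => (s.1, [23, 0, 1], s.2)) ++
      [(0, 1), (8, -9), (12, 16), (16, -9), (24, 1)].map (fun s => (s.1, [23, 0, 1, 2], s.2))))) := rfl
  rw [h, List.all_append, List.all_append, List.all_append, List.all_append,
    row_all [] pk0 _ (by decide +kernel), row_all [23] pk1 _ (by decide +kernel),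
    row_all [23, 0] pk2 _ (by decide +kernel), row_all [23, 0, 1] pk3 _ (by decide +kernel),
    row_all [23, 0, 1, 2] pk4 _ (by decide +kernel)]
  decide

theorem S_tab {k : ℕ} {L : List GolayPt} {z : ℤ} (h : (k, L.map pos, z) ∈ tab) : S k L = z := by
  have h1 := List.all_eq_true.1 tab_all _ h
  rw [beq_iff_eq] at h1
  have h2 : (cn k (L.map pos) false : ℤ) - cn k (L.map pos) true = z := h1
  rw [S_eq, ← h2]
  push_cast
  ring

/-! ### The formula -/

theorem sgn_sum (w : GolayPt → ZMod 2) : ∀ L : List GolayPt, lam w (L.map pt1).prod = sgn ((L.map w).sum)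
  | [] => by rw [List.map_nil, List.prod_nil, lam_one, List.map_nil, List.sum_nil, sgn_zero]
  | p :: L => by
    rw [List.map_cons, List.prod_cons, lam_mul, sgn_sum w L, List.map_cons, List.sum_cons, sgn_add]
    congr 1
    rw [lam_def]
    have h : Multiplicative.toAdd (pt1 p) = ind {p} := rfl
    rw [h, dot_ind, Finset.sum_singleton]

universe u

section Final

variable {G : Type u} [Group G] {χ : G → ℂ} {e : GolayPt → G}

open Classical in
/-- **the weights** -/
theorem exists_weights (hχ : IsCharacter G χ) (sq : ∀ p, e p * e p = 1) (comm : ∀ p q, e p * e q = e q * e p)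
    (hM : ∀ σ ∈ M24, ∃ n : G, ∀ p, n * e p * n⁻¹ = e (σ p))
    (oct : ∃ L : List GolayPt, ind L.toFinset ∈ golayCode ∧ L.length = 8 ∧ L.Nodup ∧ (L.map e).prod = 1) :
    ∃ a0 a1 b0 b1 c : ℕ, ∀ L : List GolayPt,
      χ (L.map e).prod = a0 * S 0 L + b0 * S 8 L + c * S 12 L + b1 * S 16 L + a1 * S 24 L := by
  obtain ⟨φ, hφ⟩ := exists_hom sq comm
  have hL : ∀ L : List GolayPt, φ (L.map pt1).prod = (L.map e).prod := by
    intro L
    rw [map_list_prod, List.map_map]
    congr 1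
    exact List.map_congr_left fun p _ => hφ p
  have hconj : ∀ σ ∈ M24, ∃ n : G, ∀ a, φ (actM σ a) = n * φ a * n⁻¹ := by
    intro σ hσ
    obtain ⟨n, hn⟩ := hM σ hσ
    refine ⟨n, ?_⟩
    have h1 : φ.comp (actM σ) = (MulAut.conj n).toMonoidHom.comp φ := by
      apply hom_ext
      intro p
      show φ (actM σ (pt1 p)) = n * φ (pt1 p) * n⁻¹
      rw [actM_pt, hφ, hφ, hn]
    intro a
    exact DFunLike.congr_fun h1 a
  -- the code is in the kernel
  have hker : ∀ c ∈ golayCode, φ (Multiplicative.ofAdd c) = 1 := by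
    let W : Submodule (ZMod 2) (GolayPt → ZMod 2) :=
      { carrier := {c | φ (Multiplicative.ofAdd c) = 1}
        zero_mem' := map_one φ
        add_mem' := by
          intro a b ha hb
          show φ (Multiplicative.ofAdd (a + b)) = 1
          rw [ofAdd_add, map_mul, ha, hb, one_mul]
        smul_mem' := by
          intro x a ha
          show φ (Multiplicative.ofAdd (x • a)) = 1
          rcases z2 x with rfl | rfl
          · rw [zero_smul]; exact map_one φ
          · rw [one_smul]; exact ha }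
    have hW : Cfsg.Agent.H852.GolayMod.Inv W := by
      intro σ hσ w hw
      obtain ⟨n, hn⟩ := hconj σ hσ
      show φ (actM σ (Multiplicative.ofAdd w)) = 1
      rw [hn]
      have : φ (Multiplicative.ofAdd w) = 1 := hw
      rw [this, mul_one, mul_inv_cancel]
    obtain ⟨L, h1, h2, h3, h4⟩ := oct
    have h5 : ind L.toFinset ∈ W := by
      show φ (Multiplicative.ofAdd (ind L.toFinset)) = 1
      have h6 : Multiplicative.ofAdd (ind L.toFinset) = (L.map pt1).prod := by
        clear h1 h2 h4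
        induction L with
        | nil =>
          rw [List.toFinset_nil, List.map_nil, List.prod_nil]
          apply Multiplicative.toAdd.injective
          funext p
          show ind ∅ p = 0
          rw [ind_apply]
          simp
        | cons p L ih =>
          rw [List.nodup_cons] at h3
          rw [List.map_cons, List.prod_cons, ← ih h3.2]
          apply Multiplicative.toAdd.injective
          show ind (p :: L).toFinset = ind {p} + ind L.toFinset
          rw [← ind_symmDiff]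
          congr 1
          rw [List.toFinset_cons]
          ext q
          rw [Finset.mem_symmDiff, Finset.mem_insert, Finset.mem_singleton]
          constructor
          · rintro (rfl | h)
            · left; exact ⟨rfl, fun h => h3.1 (List.mem_toFinset.1 h)⟩
            · right
              refine ⟨h, ?_⟩
              rintro rfl
              exact h3.1 (List.mem_toFinset.1 h)
          · rintro (h | h)
            · exact Or.inl h.1
            · exact Or.inr h.1
      rw [h6, hL, h4]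
    exact fun c hc => code_le_of_octad hW h5 h1 (by rw [hammingNorm_ind, List.toFinset_card_of_nodup h3, h2]) hc
  choose m hm using fun w => exists_mult hχ φ w
  have hinv : ∀ σ ∈ M24, ∀ a, χ (φ (actM σ a)) = χ (φ a) := by
    intro σ hσ a
    obtain ⟨n, hn⟩ := hconj σ hσ
    rw [hn]
    obtain ⟨k, ρ, rfl⟩ := hχ
    rw [Representation.char_conj]
  have hact : ∀ σ ∈ M24, ∀ w, m (act σ w) = m w := fun σ hσ w => mult_act hm (hinv σ hσ) w
  -- representatives
  obtain ⟨f1, -, -, f4, -⟩ := word_facts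
  obtain ⟨g1, -, -, g4, -⟩ := norm_facts
  set v8 := word 13062145 with hv8
  set v12 := word 8245261 with hv12
  refine ⟨m 0, m 1, m v8, m (1 + v8), m v12, fun L => ?_⟩
  have hval : ∀ w : GolayPt → ZMod 2, (m w : ℂ) * sgn ((L.map w).sum) =
      m 0 * (if w ∈ golayCode ∧ hammingNorm w = 0 then sgn ((L.map w).sum) else 0) +
      m v8 * (if w ∈ golayCode ∧ hammingNorm w = 8 then sgn ((L.map w).sum) else 0) +
      m v12 * (if w ∈ golayCode ∧ hammingNorm w = 12 then sgn ((L.map w).sum) else 0) +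
      m (1 + v8) * (if w ∈ golayCode ∧ hammingNorm w = 16 then sgn ((L.map w).sum) else 0) +
      m 1 * (if w ∈ golayCode ∧ hammingNorm w = 24 then sgn ((L.map w).sum) else 0) := by
    intro w
    by_cases hw : w ∈ golayCode
    · rcases weight_cases hw with h | h | h | h | h
      · have hw0 : w = 0 := hammingNorm_eq_zero.1 h
        rw [h]
        simp [hw, hw0]
      · obtain ⟨σ, hσ, h6⟩ := octad_act f1 hw g1 h
        have h7 : m w = m v8 := by rw [← h6, hact σ hσ]
        rw [h, h7]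
        simp [hw]
      · obtain ⟨σ, hσ, h6⟩ := dodecad_act f4 hw g4 h
        have h7 : m w = m v12 := by rw [← h6, hact σ hσ]
        rw [h, h7]
        simp [hw]
      · have h8 : hammingNorm (1 + w) = 8 := by rw [hammingNorm_one_add, h]
        obtain ⟨σ, hσ, h6⟩ := octad_act f1 (golayCode.add_mem Cfsg.Agent.Golay.Core.one_mem hw) g1 h8
        have h9 : act σ (1 + v8) = w := by
          rw [act_add, h6, ← add_assoc]
          have : act σ 1 + 1 = 0 := add_self 1
          rw [this, zero_add]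
        have h7 : m w = m (1 + v8) := by rw [← hact σ hσ (1 + v8), h9]
        rw [h, h7]
        simp [hw]
      · have hw1 : w = 1 := eq_one_of_norm h
        rw [h, ← hw1]
        simp [hw]
    · rw [mult_code hm hker hw]
      simp [hw]
  rw [← hL, inversion hm]
  simp only [sgn_sum, hval]
  rw [Finset.sum_add_distrib, Finset.sum_add_distrib, Finset.sum_add_distrib, Finset.sum_add_distrib,
    ← Finset.mul_sum, ← Finset.mul_sum, ← Finset.mul_sum, ← Finset.mul_sum, ← Finset.mul_sum]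
  rfl

/-- **the values on products of up to four of the elements** -/
theorem exists_vals (hχ : IsCharacter G χ) (sq : ∀ p, e p * e p = 1) (comm : ∀ p q, e p * e q = e q * e p)
    (hM : ∀ σ ∈ M24, ∃ n : G, ∀ p, n * e p * n⁻¹ = e (σ p))
    (oct : ∃ L : List GolayPt, ind L.toFinset ∈ golayCode ∧ L.length = 8 ∧ L.Nodup ∧ (L.map e).prod = 1) :
    ∃ a0 a1 b0 b1 c : ℕ, χ 1 = a0 + a1 + 759 * (b0 + b1) + 2576 * c ∧
      χ (e none) = a0 - a1 + 253 * (b0 - b1) ∧
      χ (e none * e (some 0)) = a0 + a1 + 55 * (b0 + b1) - 112 * c ∧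
      χ (e none * (e (some 0) * e (some 1))) = a0 - a1 - 3 * (b0 - b1) ∧
      χ (e none * (e (some 0) * (e (some 1) * e (some 2)))) = a0 + a1 - 9 * (b0 + b1) + 16 * c := by
  obtain ⟨a0, a1, b0, b1, c, h⟩ := exists_weights hχ sq comm hM oct
  refine ⟨a0, a1, b0, b1, c, ?_, ?_, ?_, ?_, ?_⟩
  · have h1 := h []
    rw [List.map_nil, List.prod_nil, S_tab (k := 0) (z := 1) (by decide +kernel),
      S_tab (k := 8) (z := 759) (by decide +kernel), S_tab (k := 12) (z := 2576) (by decide +kernel),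
      S_tab (k := 16) (z := 759) (by decide +kernel), S_tab (k := 24) (z := 1) (by decide +kernel)] at h1
    rw [h1]; push_cast; ring
  · have h1 := h [none]
    rw [S_tab (k := 0) (z := 1) (by decide +kernel),
      S_tab (k := 8) (z := 253) (by decide +kernel), S_tab (k := 12) (z := 0) (by decide +kernel),
      S_tab (k := 16) (z := -253) (by decide +kernel), S_tab (k := 24) (z := -1) (by decide +kernel)] at h1
    simp only [List.map_cons, List.map_nil, List.prod_cons, List.prod_nil, mul_one] at h1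
    rw [h1]; push_cast; ring
  · have h1 := h [none, some 0]
    rw [S_tab (k := 0) (z := 1) (by decide +kernel),
      S_tab (k := 8) (z := 55) (by decide +kernel), S_tab (k := 12) (z := -112) (by decide +kernel),
      S_tab (k := 16) (z := 55) (by decide +kernel), S_tab (k := 24) (z := 1) (by decide +kernel)] at h1
    simp only [List.map_cons, List.map_nil, List.prod_cons, List.prod_nil, mul_one] at h1
    rw [h1]; push_cast; ring
  · have h1 := h [none, some 0, some 1]
    rw [S_tab (k := 0) (z := 1) (by decide +kernel),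
      S_tab (k := 8) (z := -3) (by decide +kernel), S_tab (k := 12) (z := 0) (by decide +kernel),
      S_tab (k := 16) (z := 3) (by decide +kernel), S_tab (k := 24) (z := -1) (by decide +kernel)] at h1
    simp only [List.map_cons, List.map_nil, List.prod_cons, List.prod_nil, mul_one] at h1
    rw [h1]; push_cast; ring
  · have h1 := h [none, some 0, some 1, some 2]
    rw [S_tab (k := 0) (z := 1) (by decide +kernel),
      S_tab (k := 8) (z := -9) (by decide +kernel), S_tab (k := 12) (z := 16) (by decide +kernel),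
      S_tab (k := 16) (z := -9) (by decide +kernel), S_tab (k := 24) (z := 1) (by decide +kernel)] at h1
    simp only [List.map_cons, List.map_nil, List.prod_cons, List.prod_nil, mul_one] at h1
    rw [h1]; push_cast; ring

end Final

end Cfsg.Agent.H201.Fi
end

-- part: H201/Fi/Fi24W
section
/-!
# The weights of the 24 commuting transpositions of `Fi24`
-/

set_option autoImplicit false

namespace Cfsg.Agent.H201.Fi

open Cfsg Cfsg.Agent.Schreier.FiTwentyFour Cfsg.Agent.H852.GolayMod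

theorem oct0_prod : (oct0.map d).prod = 1 := by rw [← word_WO, WO_eq_one]

theorem oct0_code : ind oct0.toFinset ∈ golayCode := by
  have h : ind oct0.toFinset = Cfsg.Agent.Golay.Core.word 8536111 := by
    funext p; revert p; decide +kernel
  rw [h, Cfsg.Agent.Golay.Core.word_mem_golayCode_iff (show 8536111 < 2 ^ 24 by norm_num)]
  decide +kernel

theorem exists_conj24 : ∀ σ ∈ M24, ∃ n : Cfsg.Spor.Fi24, ∀ p, n * d p * n⁻¹ = d (σ p) := by
  intro σ hσ
  obtain ⟨n, -, hn⟩ := le_Phi hσ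
  exact ⟨n, fun p => conj_d (hn p)⟩

/-- the values of a character of `Fi24` on products of commuting transpositions -/
theorem weights24 {χ : Cfsg.Spor.Fi24 → ℂ} (hχ : IsCharacter Cfsg.Spor.Fi24 χ) :
    ∃ a0 a1 b0 b1 c : ℕ, χ 1 = a0 + a1 + 759 * (b0 + b1) + 2576 * c ∧
      χ (d none) = a0 - a1 + 253 * (b0 - b1) ∧
      χ (d none * d (some 0)) = a0 + a1 + 55 * (b0 + b1) - 112 * c ∧
      χ (d none * (d (some 0) * d (some 1))) = a0 - a1 - 3 * (b0 - b1) ∧
      χ (d none * (d (some 0) * (d (some 1) * d (some 2)))) = a0 + a1 - 9 * (b0 + b1) + 16 * c :=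
  exists_vals hχ d_sq d_comm exists_conj24 ⟨oct0, oct0_code, rfl, by decide, oct0_prod⟩

end Cfsg.Agent.H201.Fi
end

-- part: H201/Fi/Srg
section
/-!
# An inequality for Gram matrices on strongly regular graphs

`srg` : `M` symmetric with `M² = θ M + μ J` and row sums `ρ`; vectors `v i` with `∑ j, M i j ⟪v i, v j⟫ = τ` and
`⟪v i, e⟫ = x`.  Then `ρ x² ≤ τ ⟪e, e⟫`.
-/

set_option autoImplicit false

open scoped InnerProductSpace

namespace Cfsg.Agent.H201.Fi

variable {H : Type*} [NormedAddCommGroup H] [InnerProductSpace ℝ H] {ι : Type*} [Fintype ι]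

theorem srg {M : ι → ι → ℝ} {v : ι → H} {e : H} {θ μ ρ τ x : ℝ} (hθ : 0 < θ) (hρ : 0 < ρ) (i₀ : ι)
    (hsym : ∀ i j, M i j = M j i) (hM : ∀ i j, ∑ f, M i f * M f j = θ * M i j + μ)
    (hrow : ∀ i, ∑ j, M i j = ρ) (hτ : ∀ i, ∑ j, M i j * ⟪v i, v j⟫_ℝ = τ) (hx : ∀ i, ⟪v i, e⟫_ℝ = x) :
    ρ * x ^ 2 ≤ τ * ⟪e, e⟫_ℝ := by
  set N : ℝ := (Fintype.card ι : ℝ) with hN
  have hN0 : 0 < N := by
    have : Nonempty ι := ⟨i₀⟩
    rw [hN]
    exact_mod_cast Fintype.card_pos
  set w : H := ∑ i, v i with hw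
  set S : ι → H := fun f => ∑ j, M f j • v j with hS
  -- the sum of the norms
  have h1 : ∑ f, ⟪S f, S f⟫_ℝ = θ * (N * τ) + μ * ⟪w, w⟫_ℝ := by
    have e1 : ∀ f, ⟪S f, S f⟫_ℝ = ∑ i, ∑ j, M f i * M f j * ⟪v i, v j⟫_ℝ := by
      intro f
      show ⟪∑ i, M f i • v i, ∑ j, M f j • v j⟫_ℝ = _
      rw [sum_inner]
      refine Finset.sum_congr rfl fun i _ => ?_
      rw [inner_sum]
      refine Finset.sum_congr rfl fun j _ => ?_
      rw [inner_smul_left, inner_smul_right, conj_trivial]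
      ring
    simp only [e1]
    rw [Finset.sum_comm]
    have e2 : ∀ i, ∑ f, ∑ j, M f i * M f j * ⟪v i, v j⟫_ℝ = θ * τ + μ * ⟪v i, w⟫_ℝ := by
      intro i
      rw [Finset.sum_comm]
      have e3 : ∀ j, ∑ f, M f i * M f j * ⟪v i, v j⟫_ℝ = θ * (M i j * ⟪v i, v j⟫_ℝ) + μ * ⟪v i, v j⟫_ℝ := by
        intro j
        rw [← Finset.sum_mul]
        have e4 : ∑ f, M f i * M f j = θ * M i j + μ := by
          rw [← hM i j]
          exact Finset.sum_congr rfl fun f _ => by rw [hsym f i]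
        rw [e4]; ring
      simp only [e3]
      rw [Finset.sum_add_distrib, ← Finset.mul_sum, ← Finset.mul_sum, hτ i, hw, inner_sum]
    simp only [e2]
    rw [Finset.sum_add_distrib, Finset.sum_const, ← Finset.mul_sum, hw, sum_inner, Finset.card_univ, nsmul_eq_mul]
    simp only [← hw]
    ring
  -- the sum of the `S f`
  have h2 : ∑ f, S f = ρ • w := by
    simp only [hS]
    rw [Finset.sum_comm, hw, Finset.smul_sum]
    refine Finset.sum_congr rfl fun j _ => ?_
    rw [← Finset.sum_smul]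
    congr 1
    rw [← hrow j]
    exact Finset.sum_congr rfl fun f _ => hsym f j
  -- Cauchy-Schwarz for the sum
  have h3 : ρ ^ 2 * ⟪w, w⟫_ℝ ≤ N * ∑ f, ⟪S f, S f⟫_ℝ := by
    have e1 : ρ ^ 2 * ⟪w, w⟫_ℝ = ⟪∑ f, S f, ∑ f, S f⟫_ℝ := by
      rw [h2, inner_smul_left, inner_smul_right, conj_trivial]; ring
    have e2 : 0 ≤ ∑ i, ∑ j, ⟪S i - S j, S i - S j⟫_ℝ :=
      Finset.sum_nonneg fun i _ => Finset.sum_nonneg fun j _ => real_inner_self_nonneg
    have e3 : ∑ i, ∑ j, ⟪S i - S j, S i - S j⟫_ℝ = 2 * (N * ∑ f, ⟪S f, S f⟫_ℝ) - 2 * ⟪∑ f, S f, ∑ f, S f⟫_ℝ := by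
      have e4 : ∀ i, ∑ j, ⟪S i - S j, S i - S j⟫_ℝ =
          N * ⟪S i, S i⟫_ℝ - 2 * ⟪S i, ∑ j, S j⟫_ℝ + ∑ j, ⟪S j, S j⟫_ℝ := by
        intro i
        simp only [real_inner_sub_sub_self]
        rw [Finset.sum_add_distrib, Finset.sum_sub_distrib, Finset.sum_const, Finset.card_univ, nsmul_eq_mul,
          ← Finset.mul_sum, ← inner_sum]
      simp only [e4]
      rw [Finset.sum_add_distrib, Finset.sum_sub_distrib, Finset.sum_const, Finset.card_univ, nsmul_eq_mul,
        ← Finset.mul_sum, ← Finset.mul_sum, ← sum_inner]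
      ring
    rw [e1]
    linarith
  -- the total
  have h4 : ρ ^ 2 = θ * ρ + μ * N := by
    have e1 : ∑ j, ∑ f, M i₀ f * M f j = ρ ^ 2 := by
      rw [Finset.sum_comm]
      simp only [← Finset.mul_sum, hrow]
      rw [← Finset.sum_mul, hrow]; ring
    rw [← e1]
    simp only [hM]
    rw [Finset.sum_add_distrib, ← Finset.mul_sum, hrow, Finset.sum_const, Finset.card_univ, nsmul_eq_mul]
    ring
  have h5 : ρ * ⟪w, w⟫_ℝ ≤ N ^ 2 * τ := by
    rw [h1, h4] at h3
    have : θ * (ρ * ⟪w, w⟫_ℝ) ≤ θ * (N ^ 2 * τ) := by linarith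
    exact le_of_mul_le_mul_left this hθ
  have h6 : (N * x) ^ 2 ≤ ⟪w, w⟫_ℝ * ⟪e, e⟫_ℝ := by
    have e1 : ⟪w, e⟫_ℝ = N * x := by
      rw [hw, sum_inner]
      simp only [hx]
      rw [Finset.sum_const, Finset.card_univ, nsmul_eq_mul]
    have e2 := real_inner_mul_inner_self_le w e
    rw [e1] at e2
    linarith
  have h7 : 0 ≤ ⟪e, e⟫_ℝ := real_inner_self_nonneg
  have h8 : N ^ 2 * (ρ * x ^ 2) ≤ N ^ 2 * (τ * ⟪e, e⟫_ℝ) := by
    calc N ^ 2 * (ρ * x ^ 2) = ρ * (N * x) ^ 2 := by ring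
      _ ≤ ρ * (⟪w, w⟫_ℝ * ⟪e, e⟫_ℝ) := mul_le_mul_of_nonneg_left h6 hρ.le
      _ = (ρ * ⟪w, w⟫_ℝ) * ⟪e, e⟫_ℝ := by ring
      _ ≤ (N ^ 2 * τ) * ⟪e, e⟫_ℝ := mul_le_mul_of_nonneg_right h5 h7
      _ = N ^ 2 * (τ * ⟪e, e⟫_ℝ) := by ring
  exact le_of_mul_le_mul_left h8 (by (clear * - hN0; positivity))

end Cfsg.Agent.H201.Fi
end

-- part: H201/Fi/Gns
section
/-!
# The level inequalities for characters of 3-transposition groups

`level` : `χ` an irreducible character, `E` a set of involutions whose commuting graph is strongly regular, `z` an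
element with `z² = 1` commuting with `E`, `ε = ±1`, `X g = χ g + ε χ (z g)`.  If `X f = x` on `E` and `X (f g) = c` for
commuting `f ≠ g` in `E`, then `(r + k) x² ≤ m (r m + k c)` with `m = X 1`.
-/

set_option autoImplicit false

open scoped InnerProductSpace ComplexConjugate

namespace Cfsg.Agent.H201.Fi

open Cfsg Cfsg.Agent.Fischer480.Defs

universe u

section Vec

variable {G : Type u} [Group G] [Fintype G] {χ : G → ℂ}

/-- the sum `∑ χ (a t⁻¹) χ (t b)` -/
theorem sum_mul (hχ : IsIrrCharacter G χ) (a b : G) :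
    ∑ t, χ (a * t⁻¹) * χ (t * b) = (Nat.card G : ℂ) / χ 1 * χ (a * b) := by
  have h := Cfsg.Agent.Characters.Central.sum_char_mul_char_inv_mul hχ (a * b)
  rw [mul_div_right_comm] at h
  rw [← h]
  refine Fintype.sum_equiv ((Equiv.inv G).trans (Equiv.mulLeft a)) _ _ fun t => ?_
  show χ (a * t⁻¹) * χ (t * b) = χ (a * t⁻¹) * χ ((a * t⁻¹)⁻¹ * (a * b))
  congr 2
  group

/-- the vector of an element -/
noncomputable def vec (χ : G → ℂ) (z : G) (ε : ℝ) (a : G) : EuclideanSpace ℂ G :=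
  WithLp.toLp 2 fun t => χ (a * t⁻¹) + ε * χ (z * a * t⁻¹)

theorem vec_apply (z : G) (ε : ℝ) (a t : G) : vec χ z ε a t = χ (a * t⁻¹) + ε * χ (z * a * t⁻¹) := rfl

theorem conj_apply (hχ : IsIrrCharacter G χ) (g : G) : conj (χ g) = χ g⁻¹ := by
  obtain ⟨n, ρ, hρ, rfl⟩ := hχ
  exact (Cfsg.Agent.Characters.Core.isCharacter_apply_inv ⟨n, ρ, rfl⟩ g).symm

theorem cls (hχ : IsIrrCharacter G χ) (g h : G) : χ (h * g * h⁻¹) = χ g := by
  obtain ⟨n, ρ, hρ, rfl⟩ := hχ
  rw [Representation.char_conj]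

theorem inner_vec (hχ : IsIrrCharacter G χ) {z : G} (hz : z * z = 1) {ε : ℝ} (hε : ε * ε = 1) {a b : G}
    (ha : z * a = a * z) (hb : z * b = b * z) :
    ⟪vec χ z ε a, vec χ z ε b⟫_ℂ = 2 * ((Nat.card G : ℂ) / χ 1) * (χ (b * a⁻¹) + ε * χ (z * (b * a⁻¹))) := by
  have hzi : z⁻¹ = z := by rw [inv_eq_iff_mul_eq_one]; exact hz
  have e1 : ∀ t : G, conj (vec χ z ε a t) = χ (t * a⁻¹) + ε * χ (t * (a⁻¹ * z)) := by
    intro t
    rw [vec_apply, map_add, map_mul, Complex.conj_ofReal, conj_apply hχ, conj_apply hχ]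
    congr 2
    · group
    · congr 1
      rw [mul_inv_rev, mul_inv_rev, inv_inv, hzi]
  rw [PiLp.inner_apply]
  have e2 : ∀ t : G, ⟪vec χ z ε a t, vec χ z ε b t⟫_ℂ =
      χ (b * t⁻¹) * χ (t * a⁻¹) + ε * (χ (b * t⁻¹) * χ (t * (a⁻¹ * z))) +
        ε * (χ (z * b * t⁻¹) * χ (t * a⁻¹)) + (ε * ε) * (χ (z * b * t⁻¹) * χ (t * (a⁻¹ * z))) := by
    intro t
    rw [RCLike.inner_apply, e1, vec_apply]
    ring
  simp only [e2]
  rw [Finset.sum_add_distrib, Finset.sum_add_distrib, Finset.sum_add_distrib, ← Finset.mul_sum, ← Finset.mul_sum,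
    ← Finset.mul_sum, sum_mul hχ, sum_mul hχ, sum_mul hχ, sum_mul hχ]
  have hai : z * a⁻¹ = a⁻¹ * z := by
    rw [eq_inv_mul_iff_mul_eq, ← mul_assoc, ← ha, mul_assoc, mul_inv_cancel, mul_one]
  have e3 : χ (b * (a⁻¹ * z)) = χ (z * (b * a⁻¹)) := by
    congr 1
    rw [← hai, ← mul_assoc, ← hb, mul_assoc]
  have e4 : χ (z * b * a⁻¹) = χ (z * (b * a⁻¹)) := by rw [mul_assoc]
  have e5 : χ (z * b * (a⁻¹ * z)) = χ (b * a⁻¹) := by
    have := cls hχ (b * a⁻¹) z
    rw [hzi] at this
    rw [← this]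
    congr 1
    group
  have e6 : (ε : ℂ) * ε = 1 := by exact_mod_cast hε
  rw [e3, e4, e5, e6]
  ring

end Vec

/-! ### Counting in `E` -/

section Count

variable {G : Type u} [Group G] {E : Set G} [Fintype E]

open Classical in
/-- the adjacency matrix of the commuting graph -/
noncomputable def adj (f g : E) : ℝ := if (f : G) ≠ g ∧ Commute (f : G) g then 1 else 0

open Classical in
/-- the matrix `r I + A` -/
noncomputable def mat (r : ℕ) (f g : E) : ℝ := (if f = g then (r : ℝ) else 0) + adj f g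

theorem adj_symm (f g : E) : adj f g = adj g f := by
  unfold adj
  congr 1
  rw [eq_iff_iff]
  exact ⟨fun h => ⟨h.1.symm, h.2.symm⟩, fun h => ⟨h.1.symm, h.2.symm⟩⟩

theorem card_filter (P : G → Prop) [DecidablePred P] :
    ((Finset.univ.filter fun h : E => P h).card : ℕ) = {y | y ∈ E ∧ P y}.ncard := by
  have h1 : {y | y ∈ E ∧ P y} = Subtype.val '' ({h : E | P h} : Set E) := by
    ext y
    constructor
    · rintro ⟨h1, h2⟩; exact ⟨⟨y, h1⟩, h2, rfl⟩
    · rintro ⟨h, h1, rfl⟩; exact ⟨h.2, h1⟩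
  rw [h1, Set.ncard_image_of_injective _ Subtype.val_injective, ← Set.ncard_coe_finset]
  congr 1
  ext h
  simp only [_root_.Finset.coe_filter, _root_.Finset.mem_univ, _root_.true_and, _root_.Set.mem_ofPred_eq]

open Classical in
theorem sum_adj (f : E) : ∑ g, adj f g = ((Loc E (f : G)).ncard : ℝ) := by
  unfold adj
  rw [Finset.sum_boole, card_filter (E := E) (fun y : G => (f : G) ≠ y ∧ Commute (f : G) y)]
  congr 2
  ext y
  exact ⟨fun h => ⟨h.1, h.2.1.symm, h.2.2⟩, fun h => ⟨h.1, h.2.1.symm, h.2.2⟩⟩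

open Classical in
theorem sum_adj_mul (f g : E) : ∑ h, adj f h * adj h g =
    (({y | y ∈ E ∧ ((f : G) ≠ y ∧ Commute (f : G) y) ∧ ((y : G) ≠ g ∧ Commute y (g : G))}.ncard : ℕ) : ℝ) := by
  unfold adj
  simp only [← ite_and, mul_ite, mul_one, mul_zero]
  rw [Finset.sum_congr rfl (g := fun h : E => if ((f : G) ≠ h ∧ Commute (f : G) h) ∧ ((h : G) ≠ g ∧
    Commute (h : G) g) then (1 : ℝ) else 0)]
  · rw [Finset.sum_boole, card_filter (E := E) (fun y : G => ((f : G) ≠ y ∧ Commute (f : G) y) ∧ (y ≠ g ∧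
      Commute y (g : G)))]
  · intro h _
    by_cases h1 : (f : G) ≠ h ∧ Commute (f : G) h <;> by_cases h2 : (h : G) ≠ g ∧ Commute (h : G) g <;>
      simp [h1, h2]

variable {k l m r θ : ℕ} (hk : ∀ f ∈ E, (Loc E f).ncard = k)
  (hl : ∀ f ∈ E, ∀ g ∈ Loc E f, (Loc (Loc E f) g).ncard = l)
  (hm : ∀ f ∈ E, ∀ g ∈ E, ¬ Commute f g → (Com E f g).ncard = m)
  (e1 : r ^ 2 + k = θ * r + m) (e2 : 2 * r + l = θ + m)

include hk hl hm e1 e2

open Classical in
theorem mat_sq (f g : E) : ∑ h, mat r f h * mat r h g = θ * mat r f g + m := by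
  have h1 : ∑ h, mat r f h * mat r h g =
      (if f = g then (r : ℝ) ^ 2 else 0) + 2 * r * adj f g + ∑ h, adj f h * adj h g := by
    unfold mat
    simp only [add_mul, mul_add, Finset.sum_add_distrib, ite_mul, mul_ite, zero_mul, mul_zero, Finset.sum_ite_eq,
      Finset.sum_ite_eq', Finset.mem_univ, if_true]
    split_ifs <;> ring
  rw [h1, sum_adj_mul]
  unfold mat
  by_cases hfg : f = g
  · subst hfg
    have h2 : {y | y ∈ E ∧ ((f : G) ≠ y ∧ Commute (f : G) y) ∧ ((y : G) ≠ f ∧ Commute y (f : G))} = Loc E (f : G) := by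
      ext y
      exact ⟨fun h => ⟨h.1, h.2.1.1.symm, h.2.1.2⟩, fun h => ⟨h.1, ⟨h.2.1.symm, h.2.2⟩, h.2.1, h.2.2.symm⟩⟩
    have h3 : adj f f = 0 := by unfold adj; simp
    rw [h2, hk f f.2, h3, if_pos rfl, if_pos rfl]
    have e1' : (r : ℝ) ^ 2 + k = θ * r + m := by exact_mod_cast e1
    linarith only [e1']
  · have hfg' : (f : G) ≠ g := fun h => hfg (Subtype.ext h)
    rw [if_neg hfg, if_neg hfg]
    by_cases hc : Commute (f : G) g
    · have h2 : {y | y ∈ E ∧ ((f : G) ≠ y ∧ Commute (f : G) y) ∧ ((y : G) ≠ g ∧ Commute y (g : G))} =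
          Loc (Loc E (f : G)) (g : G) := by
        ext y
        exact ⟨fun h => ⟨⟨h.1, h.2.1.1.symm, h.2.1.2⟩, h.2.2.1, h.2.2.2.symm⟩,
          fun h => ⟨h.1.1, ⟨h.1.2.1.symm, h.1.2.2⟩, h.2.1, h.2.2.symm⟩⟩
      have h3 : adj f g = 1 := by unfold adj; rw [if_pos ⟨hfg', hc⟩]
      rw [h2, hl f f.2 g ⟨g.2, hfg'.symm, hc⟩, h3]
      have e2' : 2 * (r : ℝ) + l = θ + m := by exact_mod_cast e2
      linarith only [e2']
    · have h2 : {y | y ∈ E ∧ ((f : G) ≠ y ∧ Commute (f : G) y) ∧ ((y : G) ≠ g ∧ Commute y (g : G))} =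
          Com E (f : G) (g : G) := by
        ext y
        constructor
        · exact fun h => ⟨h.1, h.2.1.2, h.2.2.2.symm⟩
        · rintro ⟨h4, h5, h6⟩
          refine ⟨h4, ⟨?_, h5⟩, ?_, h6.symm⟩
          · rintro rfl; exact hc h6.symm
          · rintro rfl; exact hc h5
      have h3 : adj f g = 0 := by unfold adj; rw [if_neg (fun h => hc h.2)]
      rw [h2, hm f f.2 g g.2 hc, h3]
      ring

end Count

/-! ### The inequality -/

section Level

variable {G : Type u} [Group G] [Finite G] {χ : G → ℂ} {E : Set G} {k l m r θ : ℕ}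

theorem level (hχ : IsIrrCharacter G χ) (hE : E.Nonempty) (hsq : ∀ f ∈ E, f * f = 1) {z : G} (hz : z * z = 1)
    (hzE : ∀ f ∈ E, Commute z f) {ε : ℝ} (hε : ε * ε = 1) (hk : ∀ f ∈ E, (Loc E f).ncard = k)
    (hl : ∀ f ∈ E, ∀ g ∈ Loc E f, (Loc (Loc E f) g).ncard = l)
    (hm : ∀ f ∈ E, ∀ g ∈ E, ¬ Commute f g → (Com E f g).ncard = m)
    (hθ : 0 < θ) (hr : 0 < r) (e1 : r ^ 2 + k = θ * r + m) (e2 : 2 * r + l = θ + m) {M x c : ℝ}
    (hM : χ 1 + ε * χ z = M) (hx : ∀ f ∈ E, χ f + ε * χ (z * f) = x)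
    (hc : ∀ f ∈ E, ∀ g ∈ E, f ≠ g → Commute f g → χ (f * g) + ε * χ (z * (f * g)) = c) :
    (r + k) * x ^ 2 ≤ (r * M + k * c) * M := by
  classical
  have := Fintype.ofFinite G
  have := Fintype.ofFinite E
  obtain ⟨f₀, hf₀⟩ := hE
  -- the constant
  obtain ⟨d, hd0, hd⟩ : ∃ d : ℝ, 0 < d ∧ χ 1 = d := by
    have h0 := Cfsg.Agent.Characters.Central.irr_one_ne_zero hχ
    obtain ⟨n, ρ, hρ, rfl⟩ := hχ
    rw [Representation.char_one, Module.finrank_fin_fun] at h0
    refine ⟨n, ?_, ?_⟩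
    · have : n ≠ 0 := by rintro rfl; exact h0 (by norm_num)
      positivity
    · rw [Representation.char_one, Module.finrank_fin_fun]
      norm_num
  set K : ℝ := 2 * ((Nat.card G : ℝ) / d) with hK
  have hK0 : 0 < K := by
    have : 0 < Nat.card G := Nat.card_pos
    (clear * - hd0 this; positivity)
  have hin : ∀ a b : G, z * a = a * z → z * b = b * z →
      ⟪vec χ z ε a, vec χ z ε b⟫_ℝ = K * (χ (b * a⁻¹) + ε * χ (z * (b * a⁻¹))).re := by
    intro a b ha hb
    have h0 : ⟪vec χ z ε a, vec χ z ε b⟫_ℝ = (⟪vec χ z ε a, vec χ z ε b⟫_ℂ).re := by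
      rw [PiLp.inner_apply, PiLp.inner_apply, Complex.re_sum]
      rfl
    rw [h0, inner_vec hχ hz hε ha hb, hd]
    have : (2 * ((Nat.card G : ℂ) / (d : ℂ))) = ((K : ℝ) : ℂ) := by rw [hK]; push_cast; ring
    rw [this]
    rw [Complex.re_ofReal_mul]
  have hz1 : z * 1 = 1 * z := by rw [mul_one, one_mul]
  have hinv : ∀ f ∈ E, f⁻¹ = f := fun f hf => by rw [inv_eq_iff_mul_eq_one]; exact hsq f hf
  have hee : ⟪vec χ z ε 1, vec χ z ε 1⟫_ℝ = K * M := by
    rw [hin 1 1 hz1 hz1, inv_one, mul_one, mul_one, hM, Complex.ofReal_re]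
  have hself : ∀ f ∈ E, ⟪vec χ z ε f, vec χ z ε f⟫_ℝ = K * M := by
    intro f hf
    rw [hin f f (hzE f hf) (hzE f hf), mul_inv_cancel, mul_one, hM, Complex.ofReal_re]
  have hfe : ∀ f : E, ⟪vec χ z ε (f : G), vec χ z ε 1⟫_ℝ = K * x := by
    intro f
    rw [hin f 1 (hzE f f.2) hz1, one_mul, hinv f f.2, hx f f.2, Complex.ofReal_re]
  have hfg : ∀ f g : E, (f : G) ≠ g → Commute (f : G) g → ⟪vec χ z ε (f : G), vec χ z ε (g : G)⟫_ℝ = K * c := by
    intro f g h1 h2
    rw [hin f g (hzE f f.2) (hzE g g.2), hinv f f.2, hc g g.2 f f.2 h1.symm h2.symm, Complex.ofReal_re]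
  have hτ : ∀ f : E, ∑ g : E, mat r f g * ⟪vec χ z ε (f : G), vec χ z ε (g : G)⟫_ℝ = K * (r * M + k * c) := by
    intro f
    have h1 : ∀ g : E, mat r f g * ⟪vec χ z ε (f : G), vec χ z ε (g : G)⟫_ℝ =
        (if f = g then r * (K * M) else 0) + adj f g * (K * c) := by
      intro g
      unfold mat
      by_cases h2 : f = g
      · subst h2
        have h3 : adj f f = 0 := by unfold adj; simp
        rw [if_pos rfl, if_pos rfl, h3, hself f f.2]
        ring
      · rw [if_neg h2, if_neg h2, zero_add, zero_add]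
        unfold adj
        by_cases h3 : Commute (f : G) g
        · rw [if_pos ⟨fun h => h2 (Subtype.ext h), h3⟩, hfg f g (fun h => h2 (Subtype.ext h)) h3]
        · rw [if_neg (fun h => h3 h.2), zero_mul, zero_mul]
    simp only [h1]
    rw [Finset.sum_add_distrib, Finset.sum_ite_eq, if_pos (Finset.mem_univ _), ← Finset.sum_mul, sum_adj,
      hk f f.2]
    ring
  have hrow : ∀ f : E, ∑ g : E, mat r f g = (r + k : ℝ) := by
    intro f
    unfold mat
    rw [Finset.sum_add_distrib, Finset.sum_ite_eq, if_pos (Finset.mem_univ _), sum_adj, hk f f.2]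
  have hsym : ∀ f g : E, mat r f g = mat r g f := by
    intro f g
    unfold mat
    rw [adj_symm f g]
    by_cases h : f = g
    · rw [if_pos h, if_pos h.symm]
    · rw [if_neg h, if_neg (fun h' => h h'.symm)]
  have hθ' : (0 : ℝ) < θ := by exact_mod_cast hθ
  have hρ' : (0 : ℝ) < r + k := by
    have : (0 : ℝ) < r := by exact_mod_cast hr
    (clear * - hr; positivity)
  have key := srg (M := mat (E := E) r) (v := fun f : E => vec χ z ε (f : G)) (e := vec χ z ε 1) hθ' hρ' ⟨f₀, hf₀⟩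
    hsym (fun f g => mat_sq hk hl hm e1 e2 f g) hrow hτ hfe
  rw [hee] at key
  have h8 : K ^ 2 * ((r + k) * x ^ 2) ≤ K ^ 2 * ((r * M + k * c) * M) := by linarith only [key]
  exact le_of_mul_le_mul_left h8 (by (clear * - hK0; positivity))

end Level

end Cfsg.Agent.H201.Fi
end

-- part: H201/Fi/Levels
section
/-!
# The level inequalities for the types `Fi24`, `Fi23`, `Fi22`

`X g = χ g + ε χ (z g)`, `M = X 1`, `x = X f`, `c = X (f g)` (`f`, `g` commuting members of `E`):

* `level8` : `392 x² ≤ M (M + 391 c)` for `E` of type `T8`;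
* `level7` : `391 x² ≤ M (M + 390 c)` for `E` of type `T7`;
* `level6` : `78 x² ≤ M (M + 77 c)` for `E` of type `T6`;
* `lv1`, `lv2` : the levels 1 and 2 for `E` of type `T8`; `lv7` : the level 1 for `E` of type `T7`.
-/

set_option autoImplicit false

namespace Cfsg.Agent.H201.Fi

open Cfsg Cfsg.Agent.Fischer480.Defs

universe u

variable {G : Type u} [Group G] [Finite G] {χ : G → ℂ} {E : Set G}

theorem nonempty_of_ncard {α : Type*} {s : Set α} {n : ℕ} (h : s.ncard = n) (hn : n ≠ 0) : s.Nonempty := by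
  rw [Set.nonempty_iff_ne_empty]
  rintro rfl
  rw [Set.ncard_empty] at h
  exact hn h.symm

theorem level7 (hχ : IsIrrCharacter G χ) (hT : IsT7 E) (hsq : ∀ f ∈ E, f * f = 1) {z : G} (hz : z * z = 1)
    (hzE : ∀ f ∈ E, Commute z f) {ε : ℝ} (hε : ε * ε = 1) {M x c : ℝ}
    (hM : χ 1 + ε * χ z = M) (hx : ∀ f ∈ E, χ f + ε * χ (z * f) = x)
    (hc : ∀ f ∈ E, ∀ g ∈ E, f ≠ g → Commute f g → χ (f * g) + ε * χ (z * (f * g)) = c) :
    391 * x ^ 2 ≤ (M + 390 * c) * M := by
  obtain ⟨h1, h2, h3⟩ := hT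
  have h := level (θ := 360) (r := 9) (k := 3510) (l := 693) (m := 351) hχ (nonempty_of_ncard h1 (by norm_num)) hsq hz
    hzE hε (fun f hf => (h2 f hf).1)
    (fun f hf g hg => (Cfsg.Agent.TSp.UCount.numbers_six ((h2 f hf).2.1 g hg)).1) h3 (by norm_num) (by norm_num)
    (by norm_num) (by norm_num) hM hx hc
  push_cast at h
  linarith

/-- the values of `χ` on products of up to four commuting members of `E` -/
structure Vals4 (χ : G → ℂ) (E : Set G) (n u B X3 X4 : ℝ) : Prop where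
  one : χ 1 = n
  val1 : ∀ d ∈ E, χ d = u
  val2 : ∀ d ∈ E, ∀ e ∈ Loc E d, χ (d * e) = B
  val3 : ∀ d ∈ E, ∀ e ∈ Loc E d, ∀ f ∈ Loc (Loc E d) e, χ (d * (e * f)) = X3
  val4 : ∀ d ∈ E, ∀ e ∈ Loc E d, ∀ f ∈ Loc (Loc E d) e, ∀ g ∈ Loc (Loc (Loc E d) e) f, χ (d * (e * (f * g))) = X4

variable {n u B X3 X4 : ℝ}

end Cfsg.Agent.H201.Fi
end

-- part: H133/TC/FiT1
section
/-!
# `Fi24'`: the degrees modulo 23 (helper133, for S4173, S2464, S2452)

* `trans3` : `Fi24` is transitive on the commuting triples of transpositions;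
* `wt`, `lv` : the weights and the level inequality on `Fi23`;
* `hDN` : a non-trivial irreducible character of degree `± 1` modulo 23 has degree at least 60928;
* `hDX` : an irreducible character of degree `± 11` modulo 23 has degree at least 86768;
* `prd`, `prd23` : `x`, `y` of order 23, `|C(g)| ≤ 78382080`: `g` is the product of a conjugate of `x` and a conjugate of `y`.
-/

set_option autoImplicit false
set_option linter.unusedSectionVars false

namespace Cfsg.Agent.H133.TC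

open Cfsg Subgroup
open Cfsg.Agent.Characters Cfsg.Agent.Characters.Core Cfsg.Agent.OddOrderCharacters
open Cfsg.Agent.R08.FiTwentyFour (L facts conj_mem_L gen_mem_L sq_L finite_Fi24 index_commutator card_commutator)
open Cfsg.Agent.Fischer480.Defs
open Cfsg.Agent.Fischer.Fi23Z (z0)
open Cfsg.Agent.Fischer.Fi24Class (gen)
open Cfsg.Agent.Schreier.FiTwentyFour (d d_none d_comm d_inj d_sq gp)

local notation "Fi24" => Cfsg.Spor.Fi24

/-- the third member of the base triple -/
noncomputable def c0 : Fi24 := gen .l * facts.phi (Cfsg.Agent.Fischer.Fi23Hom.gen .a)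

/-- `Fi24` is transitive on the commuting triples of transpositions -/
theorem trans3 {a b c : Fi24} (ha : a ∈ L) (hb : b ∈ L) (hc : c ∈ L) (hab : a ≠ b) (hac : a ≠ c) (hbc : b ≠ c)
    (cab : a * b = b * a) (cac : a * c = c * a) (cbc : b * c = c * b) :
    ∃ g : Fi24, g * gen .l * g⁻¹ = a ∧ g * facts.b0 * g⁻¹ = b ∧ g * c0 * g⁻¹ = c := by
  obtain ⟨h, -, rfl, rfl⟩ := facts.exists_conj ha hb hab cab
  have e : ∀ u : Fi24, h * (h⁻¹ * u * h) * h⁻¹ = u := fun u => by group
  have h1 : h⁻¹ * c * h ∈ L := by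
    have := conj_mem_L hc h⁻¹
    rwa [inv_inv] at this
  obtain ⟨d, hd, h2⟩ := facts.commuting_iff.1 ⟨h1, fun h3 => hac (by rw [← h3, e]), by
    calc h⁻¹ * c * h * gen .l = h⁻¹ * (c * (h * gen .l * h⁻¹)) * h := by group
      _ = h⁻¹ * ((h * gen .l * h⁻¹) * c) * h := by rw [cac]
      _ = gen .l * (h⁻¹ * c * h) := by group⟩
  have hb0 : facts.b0 = gen .l * facts.phi z0 := by unfold R08.FiTwentyFour.Facts.b0; rfl
  have ll : gen .l * gen .l = (1 : Fi24) := Cfsg.Agent.Fischer.Fi24Class.gen_sq _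
  have hdz : d ≠ z0 := by
    intro hd0
    apply hbc
    rw [hb0, ← hd0, ← h2, e]
  have hdc : d * z0 = z0 * d := by
    have h3 : h⁻¹ * c * h * facts.b0 = facts.b0 * (h⁻¹ * c * h) := by
      calc h⁻¹ * c * h * facts.b0 = h⁻¹ * (c * (h * facts.b0 * h⁻¹)) * h := by group
        _ = h⁻¹ * ((h * facts.b0 * h⁻¹) * c) * h := by rw [cbc]
        _ = facts.b0 * (h⁻¹ * c * h) := by group
    rw [h2, hb0] at h3
    apply facts.phi_injective
    rw [map_mul, map_mul]
    have e1 : gen .l * facts.phi d * (gen .l * facts.phi z0) = facts.phi d * facts.phi z0 := by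
      calc gen .l * facts.phi d * (gen .l * facts.phi z0) = gen .l * (facts.phi d * gen .l) * facts.phi z0 := by
            simp only [mul_assoc]
        _ = gen .l * (gen .l * facts.phi d) * facts.phi z0 := by rw [facts.phi_comm]
        _ = (gen .l * gen .l) * (facts.phi d * facts.phi z0) := by simp only [mul_assoc]
        _ = _ := by rw [ll, one_mul]
    have e2 : gen .l * facts.phi z0 * (gen .l * facts.phi d) = facts.phi z0 * facts.phi d := by
      calc gen .l * facts.phi z0 * (gen .l * facts.phi d) = gen .l * (facts.phi z0 * gen .l) * facts.phi d := by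
            simp only [mul_assoc]
        _ = gen .l * (gen .l * facts.phi z0) * facts.phi d := by rw [facts.phi_comm]
        _ = (gen .l * gen .l) * (facts.phi z0 * facts.phi d) := by simp only [mul_assoc]
        _ = _ := by rw [ll, one_mul]
    rw [← e1, ← e2, h3]
  obtain ⟨k, hk, rfl⟩ := Cfsg.Agent.R08.FiTwentyThree.commuting_iff.1 ⟨hd, hdz, hdc⟩
  have hkz : k * z0 * k⁻¹ = z0 := by
    rw [(Cfsg.Agent.R08.FiTwentyThree.mem_K_iff k).1 hk, mul_inv_cancel_right]
  have key : ∀ x : Cfsg.Spor.Fi23, facts.phi k * (gen .l * facts.phi x) * (facts.phi k)⁻¹ =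
      gen .l * facts.phi (k * x * k⁻¹) := by
    intro x
    rw [map_mul, map_mul, map_inv, ← mul_assoc, facts.phi_comm]
    simp only [mul_assoc]
  refine ⟨h * facts.phi k, ?_, ?_, ?_⟩
  · calc h * facts.phi k * gen .l * (h * facts.phi k)⁻¹ = h * (facts.phi k * gen .l * (facts.phi k)⁻¹) * h⁻¹ := by group
      _ = h * gen .l * h⁻¹ := by rw [facts.phi_comm, mul_inv_cancel_right]
  · calc h * facts.phi k * facts.b0 * (h * facts.phi k)⁻¹ = h * (facts.phi k * facts.b0 * (facts.phi k)⁻¹) * h⁻¹ := by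
          group
      _ = h * facts.b0 * h⁻¹ := by rw [hb0, key, hkz]
  · calc h * facts.phi k * c0 * (h * facts.phi k)⁻¹ = h * (facts.phi k * c0 * (facts.phi k)⁻¹) * h⁻¹ := by group
      _ = h * (h⁻¹ * c * h) * h⁻¹ := by rw [c0, key, ← h2]
      _ = c := e c

theorem d_mem_L (p : GolayPt) : d p ∈ L := by
  unfold d
  exact conj_mem_L (gen_mem_L .l) _

/-- the weights and the values on the commuting triples -/
theorem wt (psi : IrrCharacter Fi24) {n u B C : ℤ} (V : H180.PSD.Vals psi n u B C) :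
    ∃ a0 a1 b0 b1 c : ℕ, n = a0 + a1 + 759 * (b0 + b1) + 2576 * c ∧ u = a0 - a1 + 253 * (b0 - b1) ∧
      B = a0 + a1 + 55 * (b0 + b1) - 112 * c ∧
      ∀ x ∈ L, ∀ y ∈ L, ∀ z ∈ L, x ≠ y → x ≠ z → y ≠ z → Commute x y → Commute x z → Commute y z →
        (psi : Fi24 → ℂ) (x * (y * z)) = ((a0 - a1 - 3 * (b0 - b1) : ℤ) : ℂ) := by
  have hfin := finite_Fi24
  obtain ⟨a0, a1, b0, b1, c, h1, h2, h3, h4, -⟩ := H201.Fi.weights24 (isIrr_isCharacter psi.2)
  have n01 : (none : GolayPt) ≠ some 0 := by decide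
  have n02 : (none : GolayPt) ≠ some 1 := by decide
  have n12 : (some 0 : GolayPt) ≠ some 1 := by decide
  refine ⟨a0, a1, b0, b1, c, ?_, ?_, ?_, ?_⟩
  · rw [V.one] at h1
    exact_mod_cast h1
  · rw [V.val_d _ (d_mem_L _)] at h2
    exact_mod_cast h2
  · rw [V.val_c _ (d_mem_L _) _ (d_mem_L _) (fun h => n01 (d_inj h)) (d_comm _ _)] at h3
    exact_mod_cast h3
  · intro x hx y hy z hz hxy hxz hyz cxy cxz cyz
    obtain ⟨g, rfl, rfl, rfl⟩ := trans3 hx hy hz hxy hxz hyz cxy cxz cyz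
    obtain ⟨g', e1, e2, e3⟩ := trans3 (d_mem_L none) (d_mem_L (some 0)) (d_mem_L (some 1)) (fun h => n01 (d_inj h))
      (fun h => n02 (d_inj h)) (fun h => n12 (d_inj h)) (d_comm _ _) (d_comm _ _) (d_comm _ _)
    have hcl := isIrr_isClassFunction psi.2
    have h5 : g * gen .l * g⁻¹ * (g * facts.b0 * g⁻¹ * (g * c0 * g⁻¹)) = g * (gen .l * (facts.b0 * c0)) * g⁻¹ := by group
    have h6 : d none * (d (some 0) * d (some 1)) = g' * (gen .l * (facts.b0 * c0)) * g'⁻¹ := by
      rw [← e1, ← e2, ← e3]; group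
    rw [h5, hcl, ← hcl (gen .l * (facts.b0 * c0)) g', ← h6, h4]
    push_cast
    ring

/-- **the level inequality** -/
theorem lv (psi : IrrCharacter Fi24) {n u B C X : ℤ} (V : H180.PSD.Vals psi n u B C)
    (hX : ∀ x ∈ L, ∀ y ∈ L, ∀ z ∈ L, x ≠ y → x ≠ z → y ≠ z → Commute x y → Commute x z → Commute y z →
        (psi : Fi24 → ℂ) (x * (y * z)) = (X : ℂ)) {ε : ℤ} (hε : ε * ε = 1) :
    391 * (u + ε * B) ^ 2 ≤ (n + ε * u + 390 * (B + ε * X)) * (n + ε * u) := by
  have hfin := finite_Fi24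
  have hl : gen .l ∈ L := gen_mem_L .l
  have h := H201.Fi.level7 (χ := (psi : Fi24 → ℂ)) (E := Loc L (gen .l)) (z := gen .l) (ε := (ε : ℝ))
    (M := ((n + ε * u : ℤ) : ℝ)) (x := ((u + ε * B : ℤ) : ℝ)) (c := ((B + ε * X : ℤ) : ℝ)) psi.2
    (H49.Four.TEight.isT8.2.1 _ hl) (fun f hf => sq_L hf.1) (sq_L hl) (fun f hf => hf.2.2) (by exact_mod_cast hε)
    ?_ ?_ ?_
  · have h' : (391 : ℝ) * ((u + ε * B : ℤ) : ℝ) ^ 2 ≤ (((n + ε * u : ℤ) : ℝ) + 390 * ((B + ε * X : ℤ) : ℝ)) *
        ((n + ε * u : ℤ) : ℝ) := h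
    have h'' : 391 * (u + ε * B) ^ 2 ≤ ((n + ε * u) + 390 * (B + ε * X)) * (n + ε * u) := by exact_mod_cast h'
    exact h''
  · rw [V.one, V.val_d _ hl]; push_cast; ring
  · intro f hf
    rw [V.val_d f hf.1, V.val_c _ hl f hf.1 hf.2.1.symm hf.2.2]; push_cast; ring
  · intro f hf g hg hfg hc
    rw [V.val_c f hf.1 g hg.1 hfg hc, hX _ hl f hf.1 g hg.1 hf.2.1.symm hg.2.1.symm hfg hf.2.2 hg.2.2 hc]
    push_cast; ring

/-- no exception is possible -/
theorem no_exc (psi : IrrCharacter Fi24) {n : ℕ} {u B C : ℤ} (V : H180.PSD.Vals psi n u B C)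
    (h : (n, u.natAbs, B) ∈ exc) : False := by
  obtain ⟨a0, a1, b0, b1, c, h1, h2, h3, h4⟩ := wt psi V
  have l1 := lv psi V h4 (ε := 1) (by norm_num)
  have l2 := lv psi V h4 (ε := -1) (by norm_num)
  simp only [exc, List.mem_cons, Prod.mk.injEq, List.not_mem_nil, or_false] at h
  obtain ⟨y, h7⟩ : ∃ y : ℤ, (n : ℤ) - B = 64 * y := ⟨11 * (b0 + b1) + 42 * c, by linarith⟩
  rcases h with ⟨e1, e2, e3⟩ | ⟨e1, e2, e3⟩ | ⟨e1, e2, e3⟩ | ⟨e1, e2, e3⟩ | ⟨e1, e2, e3⟩ | ⟨e1, e2, e3⟩ |
    ⟨e1, e2, e3⟩ | ⟨e1, e2, e3⟩ | ⟨e1, e2, e3⟩ | ⟨e1, e2, e3⟩ | ⟨e1, e2, e3⟩ | ⟨e1, e2, e3⟩ | ⟨e1, e2, e3⟩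
  · clear h7
    subst e1
    subst e3
    have h5 : u = 3553 ∨ u = -3553 := by clear * - e2; omega
    rcases h5 with h5 | h5
    · have h6 : (a0 - a1 - 3 * (b0 - b1) : ℤ) = 1249 ∨ (a0 - a1 - 3 * (b0 - b1) : ℤ) = 737 := by (clear * - h2 h1 h3 h5; solve | lia | omega)
      rcases h6 with h6 | h6 <;> rw [h6, h5] at l2 <;> norm_num at l2
    · have h6 : (a0 - a1 - 3 * (b0 - b1) : ℤ) = -1249 ∨ (a0 - a1 - 3 * (b0 - b1) : ℤ) = -737 := by (clear * - h2 h1 h3 h5; solve | lia | omega)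
      rcases h6 with h6 | h6 <;> rw [h6, h5] at l1 <;> norm_num at l1
  all_goals
    clear l1 l2 h4
    first | (clear * - e1 e3 h7; omega) | (clear h7; (solve | lia | omega))

/-! ### The degrees -/

open Cfsg.Agent.H26.Ore.Fi24Deg (card_F' simple_F' res17 index_two val_z13 val_z11 z13 three_psi abs_le lu_ne)
open Cfsg.Agent.H48.OreFi (finite')

/-- **characters which extend** -/
theorem caseE {χ : IrrCharacter Spor.Fi24'} {psi : IrrCharacter Fi24} (hne : (χ : Spor.Fi24' → ℂ) ≠ 1)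
    (h : ∀ g : Spor.Fi24', (psi : Fi24 → ℂ) (g : Fi24) = (χ : Spor.Fi24' → ℂ) g)
    (h23 : ((charDegree (χ : Spor.Fi24' → ℂ) % 23 = 1 ∨ charDegree (χ : Spor.Fi24' → ℂ) % 23 = 22) ∧
        charDegree (χ : Spor.Fi24' → ℂ) < 60928) ∨
      ((charDegree (χ : Spor.Fi24' → ℂ) % 23 = 11 ∨ charDegree (χ : Spor.Fi24' → ℂ) % 23 = 12) ∧
        charDegree (χ : Spor.Fi24' → ℂ) < 86768)) : False := by
  have hfin : Finite Spor.Fi24' := finite'
  have hfin' := finite_Fi24
  have hsim := simple_F'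
  obtain ⟨n, u, B, C, V⟩ := H180.PSD.exists_vals psi
  have hχ1 : (χ : Spor.Fi24' → ℂ) 1 = (charDegree (χ : Spor.Fi24' → ℂ) : ℂ) := Blocks.Knorr.charDegree_eq χ.2
  set N := charDegree (χ : Spor.Fi24' → ℂ) with hN
  have h1 := h 1
  rw [OneMemClass.coe_one, V.one, hχ1] at h1
  have hnN : n = N := by exact_mod_cast h1
  subst hnN
  have hz13 : (χ : Spor.Fi24' → ℂ) z13 = B := by rw [← h]; exact val_z13 V
  have hz11 : (χ : Spor.Fi24' → ℂ) H843.Ore.R11.z = B := by rw [← h]; exact val_z11 V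
  have hdeg : charDegree (psi : Fi24 → ℂ) = N := by
    have h4 := Blocks.Knorr.charDegree_eq psi.2
    have h6 := V.one
    rw [h4] at h6
    exact_mod_cast h6
  have h29 : N % 29 = 0 ∨ N % 29 = 1 ∨ N % 29 = 28 := by
    have h2 := H843.Fi24Ext.residue psi
    rw [hdeg] at h2
    omega
  refine no_exc psi V (arith (n := N) (u := u) (B := B) (C := C) ?_ h29 (res17 χ) h23 V.rel V.psd1 V.psd2 V.dvd_u ?_
    (three_psi V) (abs_le χ hχ1 hz13) ?_ ?_ (H843.Ore.R11.r11 χ hχ1 hz11) ?_)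
  · rw [← card_F']
    exact Blocks.Knorr.charDegree_dvd χ.2
  · obtain ⟨c, hc⟩ := V.dvd_B
    exact ⟨2 * c, by linarith only [hc]⟩
  · exact abs_le psi (by rw [V.one]; norm_cast) (V.val_d _ (gen_mem_L .l))
  · intro hB
    have := Fintype.ofFinite Spor.Fi24'
    have h2 := SmallSimple.DihedralNormalizer.eq_one_of_apply_eq χ.2 hne (s := z13) (by rw [hz13, hχ1, hB]; norm_cast)
    have h3 : (z13 : Fi24) = 1 := congrArg (fun y : Spor.Fi24' => (y : Fi24)) h2
    have h4 : H845.T13.u = (gen .l)⁻¹ := eq_inv_of_mul_eq_one_right h3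
    exact lu_ne (h4.trans (inv_eq_of_mul_eq_one_right (sq_L (gen_mem_L .l)))).symm
  · exact H26.Ore.R13.r13 H845.T13.facts index_commutator (fun d hd => R08.FiTwentyFour.odd hd) _ χ hχ1 hz13

/-- characters which do not extend have degrees `0`, `± 1/2`... modulo 23: none here -/
theorem caseS {χ : IrrCharacter Spor.Fi24'} {psi : IrrCharacter Fi24}
    (h0 : ∀ g : Fi24, g ∉ commutator Fi24 → (psi : Fi24 → ℂ) g = 0)
    (h2 : ∀ g : Spor.Fi24', ∀ t : Fi24, t ∉ commutator Fi24 → Commute t (g : Fi24) →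
      (psi : Fi24 → ℂ) (g : Fi24) = 2 * (χ : Spor.Fi24' → ℂ) g) :
    charDegree (χ : Spor.Fi24' → ℂ) % 23 = 0 := by
  have hfin : Finite Spor.Fi24' := finite'
  have hfin' := finite_Fi24
  obtain ⟨n, u, B, C, V⟩ := H180.PSD.exists_vals psi
  have hχ1 : (χ : Spor.Fi24' → ℂ) 1 = (charDegree (χ : Spor.Fi24' → ℂ) : ℂ) := Blocks.Knorr.charDegree_eq χ.2
  set N := charDegree (χ : Spor.Fi24' → ℂ) with hN
  have hl : gen .l ∉ commutator Fi24 := R08.FiTwentyFour.odd (gen_mem_L .l)
  have h1 := h2 1 _ hl (Commute.one_right _)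
  rw [OneMemClass.coe_one, V.one, hχ1] at h1
  have hnN : n = 2 * N := by exact_mod_cast h1
  subst hnN
  have hu : u = 0 := by
    have h3 := V.val_d _ (gen_mem_L .l)
    rw [h0 _ hl] at h3
    exact_mod_cast h3.symm
  subst hu
  have hpos := V.pos
  have h3 := V.rel
  have h4 : (2 * (N : ℤ)) + 31671 * B + 275264 * C = 0 := by
    have h5 : (2 * (N : ℤ)) * (2 * (N : ℤ) + 31671 * B + 275264 * C) = 0 := by linarith only [h3]
    rcases mul_eq_zero.1 h5 with h6 | h6
    · omega
    · exact h6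
  obtain ⟨y, h7⟩ : ∃ y : ℤ, 2 * (N : ℤ) = 23 * y := ⟨-(1377 * B + 11968 * C), by linarith only [h4]⟩
  clear * - h7
  omega

/-- **The degrees modulo 23** -/
theorem hDeg (χ : IrrCharacter Spor.Fi24') (hne : (χ : Spor.Fi24' → ℂ) ≠ 1)
    (h23 : ((charDegree (χ : Spor.Fi24' → ℂ) % 23 = 1 ∨ charDegree (χ : Spor.Fi24' → ℂ) % 23 = 22) ∧
        charDegree (χ : Spor.Fi24' → ℂ) < 60928) ∨
      ((charDegree (χ : Spor.Fi24' → ℂ) % 23 = 11 ∨ charDegree (χ : Spor.Fi24' → ℂ) % 23 = 12) ∧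
        charDegree (χ : Spor.Fi24' → ℂ) < 86768)) : False := by
  have hfin' := finite_Fi24
  obtain ⟨psi, hpsi, h | ⟨h0, h2⟩⟩ := index_two (commutator Fi24) index_commutator χ.2
  · exact caseE (psi := ⟨psi, hpsi⟩) hne h h23
  · have := caseS (χ := χ) (psi := ⟨psi, hpsi⟩) h0 h2
    omega

theorem hDN : ∀ χ : IrrCharacter Spor.Fi24', (χ : Spor.Fi24' → ℂ) ≠ 1 →
    (charDegree (χ : Spor.Fi24' → ℂ) % 23 = 1 ∨ charDegree (χ : Spor.Fi24' → ℂ) % 23 = 22) →
      60928 ≤ charDegree (χ : Spor.Fi24' → ℂ) := by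
  intro χ hne h23
  by_contra h
  exact hDeg χ hne (Or.inl ⟨h23, not_le.1 h⟩)

theorem hDX : ∀ χ : IrrCharacter Spor.Fi24', (χ : Spor.Fi24' → ℂ) ≠ 1 →
    (charDegree (χ : Spor.Fi24' → ℂ) % 23 = 11 ∨ charDegree (χ : Spor.Fi24' → ℂ) % 23 = 12) →
      86768 ≤ charDegree (χ : Spor.Fi24' → ℂ) := by
  intro χ hne h23
  by_contra h
  exact hDeg χ hne (Or.inr ⟨h23, not_le.1 h⟩)

/-! ### The products of two elements of order 23 -/

open Cfsg.Agent.H26.Ore.Fi24Deg (not_comm)

/-- **`x`, `y` of order 23, `|C(g)| ≤ 78382080`: `g` is the product of a conjugate of `x` and a conjugate of `y`.** -/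
theorem prd {x y : Spor.Fi24'} (hx : orderOf x = 23) (hy : orderOf y = 23) {g : Spor.Fi24'}
    (hc : Nat.card (centralizer ({g} : Set Spor.Fi24')) ≤ 78382080) : H65.Ore.Prd x y g := by
  have hfin : Finite Spor.Fi24' := finite'
  have hsim := simple_F'
  exact H65.Ore.prd_all not_comm (p := 23) (by norm_num) card_F' hx (H161.Rec.FiTF.sc23 x hx) 11 2 1000
    (by decide +kernel) (DN := 60928) (DX := 86768) hDN hDX (by norm_num) (by norm_num) hy hc

/-- the form used by helper713 -/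
theorem prd23 (g : Spor.Fi24') (hc : Nat.card (centralizer ({g} : Set Spor.Fi24')) ≤ 78382080) :
    ∃ x : Spor.Fi24', orderOf x = 23 ∧ ∃ u v : Spor.Fi24', g = (u * x * u⁻¹) * (v * x⁻¹ * v⁻¹) := by
  have hfin : Finite Spor.Fi24' := finite'
  obtain ⟨x, hx, -⟩ := H161.Rec.FiTF.cent23
  exact ⟨x, hx, prd hx (by rw [orderOf_inv, hx]) hc⟩

end Cfsg.Agent.H133.TC
end

private theorem dce_4840a0e065cb : _root_.True := by
  try have : _root_.True := by simp only [_root_.Cfsg.Agent.Golay.Core.lin.eq_def]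
  try have : _root_.True := by simp only [_root_.Cfsg.Agent.Golay.Core.lin.eq_1]
  try have : _root_.True := by simp only [_root_.Cfsg.Agent.H201.Fi.cn.eq_1]
  try have : _root_.True := by simp only [_root_.Cfsg.Agent.H201.Fi.spn.eq_1]
  try have : _root_.True := by simp only [_root_.Cfsg.Agent.H201.Fi.par.eq_2]
  try have : _root_.True := by simp only [_root_.Cfsg.Agent.H133.TC.exc.eq_1]
  try have : _root_.True := by simp only [_root_.Cfsg.Agent.H201.Fi.spn.eq_def]
  try have : _root_.True := by simp only [_root_.Cfsg.Agent.Golay.Core.lin.eq_2]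
  try have : _root_.True := by simp only [_root_.Cfsg.Agent.Golay.Core.enc.eq_1]
  try have : _root_.True := by simp only [_root_.Cfsg.Agent.H133.TC.c0.eq_1]
  try have : _root_.True := by simp only [_root_.Cfsg.Agent.H201.Fi.par.eq_1]
  try have : _root_.True := by simp only [_root_.Cfsg.Agent.H201.Fi.spn.eq_2]
  try have : _root_.True := by simp only [_root_.Cfsg.Agent.H133.TC.okF.eq_1]
  try have : _root_.True := by simp only [_root_.Cfsg.Agent.H201.Fi.pk.eq_1]
  try have : _root_.True := by simp only [_root_.Cfsg.Agent.H201.Fi.par.eq_def]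
  exact _root_.True.intro
end

-- part: H210/TC/Ly
section
prune_inst 0x189040300000000000000000010000004010000
set_option linter.all false
open scoped Cfsg.Agent.FastGrp

/-!
# S4173, S2464, S2452: the row of the Lyons group (helper210)

The classes of elements of order 31 and 67 (pair lemma), and the square of the class of an element of order 31.
`hK` : the classification (universe 0), `fun _ _ _ h => S0000.result`.
-/

set_option autoImplicit false
set_option maxRecDepth 100000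

namespace Cfsg.Agent.H210.TC

open Cfsg Subgroup

/-- the row from a pair of classes, the second in the square of the first -/
theorem Row3.of_pair {S : Type*} [Group S] {x y : S} (hx : (orderOf x).Prime) (hx6 : Nat.Coprime (orderOf x) 6)
    (hy : (orderOf y).Prime) (hy6 : Nat.Coprime (orderOf y) 6)
    (h : ∀ g : S, g ≠ 1 → ∃ u v : S, g = (u * x * u⁻¹) * (v * y * v⁻¹))
    (h1 : ∃ u v : S, y = (u * x * u⁻¹) * (v * x * v⁻¹)) (h2 : ∃ u v : S, x⁻¹ = (u * x * u⁻¹) * (v * x * v⁻¹)) :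
    Row3 S := by
  refine ⟨x, y, hx, hx6, hy, hy6, h, fun g => ?_⟩
  by_cases hg : g = 1
  · obtain ⟨u, v, e⟩ := h2
    refine ⟨1, u, v, ?_⟩
    rw [mul_assoc, ← e, hg]
    group
  · obtain ⟨u, v, e⟩ := h g hg
    obtain ⟨a, b, e'⟩ := h1
    refine ⟨u, v * a, v * b, ?_⟩
    have e2 : v * a * x * (v * a)⁻¹ * (v * b * x * (v * b)⁻¹) = v * y * v⁻¹ := by
      rw [e']
      group
    rw [mul_assoc, e2]
    exact e

namespace Ly

open Cfsg.Agent.H511.Ore Cfsg.Agent.H511.Ore.Ly Cfsg.Agent.H653.Sieve Cfsg.Agent.H651.Two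

def c67 : CD := ⟨67, 1, 22, 3, [(0, 0), (1, 3), (22, -1), (45, 1), (66, -3)], 3, true⟩

theorem chkA : allDiv (3561250 * 3561250) (Pair.tst2 [(67, [1, 66]), (31, [1, 30])] cd) fac 1 = true := by decide +kernel

theorem chkB : allDiv (2517480 * 2517480) (Pair.tst2 [(67, [22, 45]), (31, [1, 30])] cd) fac 1 = true := by
  decide +kernel

theorem chkC : allDiv (5470080 * 5470080) (Pair.tst2 [(67, [1, 66]), (31, [6, 25])] cd) fac 1 = true := by decide +kernel

theorem chkD : allDiv (40000 * 40000) (Pair.tst2 [(67, [1, 66, 22, 45]), (31, [1, 30, 6, 25])] cd) fac 1 = true := by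
  decide +kernel

theorem mem67 : c67 ∈ cd := by simp [cd, c67]

theorem mem31 : c31 ∈ cd := by simp [cd]

theorem card67 (hK : H995.CopEngine.AllKnown.{0}) {x : Spor.Ly} (hx : orderOf x = 67) :
    Nat.card (centralizer ({x} : Set Spor.Ly)) = 67 := by
  have hI : Spor.IsoLy Spor.Ly := ⟨MulEquiv.refl _⟩
  exact (H655.LySixtySeven.card_centralizer hK hI hx).trans (by norm_num)

/-- **Every nonidentity element is a product of an element of a given class of elements of order 67 and an element of a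
given class of elements of order 31.** -/
theorem prd (hK : H995.CopEngine.AllKnown.{0}) {x y g : Spor.Ly} (hx : orderOf x = 67) (hy : orderOf y = 31)
    (hg : g ≠ 1) : ∃ a b : Spor.Ly, a * x * a⁻¹ * (b * y * b⁻¹) = g := by
  have := Cfsg.Agent.Ly.Setup.finite_ly
  have := Cfsg.Agent.Ly.Setup.isSimple_ly
  have hok : ∀ c ∈ cd, CD.ok 51765179004000000 c = true := fun c hc => List.all_eq_true.1 chk1 c hc
  have hN := Cfsg.Agent.Ly.Setup.card_ly
  by_cases hs : Nat.card (centralizer ({g} : Set Spor.Ly)) ≤ 67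
  · exact Pair.prd_crude nonab _ hN fac chk2 chk3 cd chk1 (has hK) mem67 mem31 rfl rfl (D := 40000) (K := 67) chkD
      (by norm_num) (by decide +kernel) hx (card67 hK hx) hy (card31 hy) hs
  · have hnd : ∀ c ∈ cd, c.k = 1 → c.r ≤ 67 → ¬ c.r ∣ orderOf g := fun c hc hk hr h =>
      hs ((Pair.cent_le_of_dvd nonab hN (has hK c hc) hk (hok c hc) h).trans hr)
    have hnc : ∀ c ∈ cd, c.k = 1 → c.r ≤ 67 → Nat.Coprime c.r (Nat.card (centralizer ({g} : Set Spor.Ly))) :=
      fun c hc hk hr => (Nat.Prime.coprime_iff_not_dvd (has hK c hc).1).2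
        (Pair.not_dvd_cent nonab hN (has hK c hc) hk (hok c hc) hg (hnd c hc hk hr))
    have h67 : Nat.Coprime 67 (Nat.card (centralizer ({g} : Set Spor.Ly))) := hnc c67 mem67 rfl le_rfl
    have h31 : Nat.Coprime 31 (Nat.card (centralizer ({g} : Set Spor.Ly))) := hnc c31 mem31 rfl (by decide)
    have h37 : Nat.Coprime 37 (Nat.card (centralizer ({g} : Set Spor.Ly))) :=
      hnc ⟨37, 1, 18, 2, [(0, 0), (1, 2), (18, -1), (19, 1), (36, -2)], 2, true⟩ (by simp [cd]) rfl (by norm_num)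
    have hcg : Nat.card (centralizer ({g} : Set Spor.Ly)) ∣ 673596000000 := by
      have h1 : Nat.card (centralizer ({g} : Set Spor.Ly)) ∣ 31 * (37 * (67 * 673596000000)) := by
        have h2 := Subgroup.card_subgroup_dvd_card (centralizer ({g} : Set Spor.Ly))
        rw [hN] at h2
        exact h2
      exact h67.symm.dvd_of_dvd_mul_left (h37.symm.dvd_of_dvd_mul_left (h31.symm.dvd_of_dvd_mul_left h1))
    exact Pair.prd_row nonab _ hN fac chk2 chk3 cd chk1 (has hK) mem67 mem31 rfl rfl (by decide) (m := 5)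
      (D1 := 3561250) (D2 := 2517480) (D3 := 5470080) (K := 673596000000) (Or.inr (by decide)) (by norm_num) chkA chkB
      chkC (by norm_num) (by norm_num) (by norm_num) (by decide +kernel) hx (card67 hK hx) hy (card31 hy)
      (Nat.le_of_dvd (by norm_num) hcg) (hnd c67 mem67 rfl le_rfl) (hnd c31 mem31 rfl (by decide))

/-- **The row of the Lyons group.** -/
theorem row3_ly' (hK : H995.CopEngine.AllKnown.{0}) : Row3 Spor.Ly := by
  obtain ⟨x, hx⟩ := ex 31 (by norm_num) (by norm_num)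
  obtain ⟨y, hy⟩ := ex 67 (by norm_num) (by norm_num)
  have hxi : orderOf x⁻¹ = 31 := by rw [orderOf_inv, hx]
  refine Row3.of_pair (x := x) (y := y) (by rw [hx]; norm_num) (by rw [hx]; norm_num) (by rw [hy]; norm_num)
    (by rw [hy]; norm_num) (fun g hg => ?_) ?_ ?_
  · obtain ⟨a, b, e⟩ := prd hK hy hx hg
    refine ⟨b, (b * x * b⁻¹)⁻¹ * a, ?_⟩
    rw [← e]
    group
  · obtain ⟨a, b, e⟩ := prd_ly hK hx hx (g := y) (by rw [card67 hK hy]; norm_num)
    exact ⟨a, b, e.symm⟩
  · obtain ⟨a, b, e⟩ := prd_ly hK hx hx (g := x⁻¹) (by rw [card31 hxi]; norm_num)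
    exact ⟨a, b, e.symm⟩

end Ly

/-- **The row `Ly` of S4173, S2464, S2452.** -/
theorem row3_ly (hK : H995.CopEngine.AllKnown.{0}) {S : Type*} [Group S] (h : Spor.IsoLy S) : Row3 S := by
  obtain ⟨e⟩ := h
  exact (Ly.row3_ly' hK).of_equiv e

end Cfsg.Agent.H210.TC

private theorem dce_53bcd1d0cde8 : _root_.True := by
  try have : _root_.True := by simp only [_root_.Cfsg.Agent.H210.TC.Ly.c67.eq_1]
  exact _root_.True.intro
end

-- part: H334/TC/Fam
section
set_option linter.all false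

/-!
# The rows `M22`, `M23`, `M24` of S4173 (helper334)
-/

set_option autoImplicit false

namespace Cfsg.Agent.H334.TC

open Cfsg

theorem tc_m22 {S : Type*} [Group S] (h : Spor.IsoM22 S) : Cfsg.Agent.H140.TC.TC S := (row3_m22 h).tc

theorem tc_m23 {S : Type*} [Group S] (h : Spor.IsoM23 S) : Cfsg.Agent.H140.TC.TC S := (row3_m23 h).tc

theorem tc_m24 {S : Type*} [Group S] (h : Spor.IsoM24 S) : Cfsg.Agent.H140.TC.TC S := (row3_m24 h).tc

end Cfsg.Agent.H334.TC
end
end
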